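import Cfsg.Agent.Lib.RelProd.Transport
import Cfsg.Agent.Lib.Fusion.FittingSelfCentral
import Cfsg.Agent.Lib.Fusion.StableLimit
import Cfsg.Agent.Lib.Fusion.ModelLocal
import Cfsg.Agent.Lib.FusionComp.CompNormal
import Cfsg.Agent.Lib.FusionComp.Dichotomy
import Cfsg.Agent.Lib.FusionComp.CentralFactors

/-!
# Balance for layers of normalizer systems

The components of the normalizer system of a fully normalized subgroup live on the carrier of the layer, and
the layer of the normalizer system is a subsystem of the layer.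
-/

set_option autoImplicit false
set_option linter.unusedSectionVars false
set_option linter.style.haveILetI false

namespace Cfsg.Agent.RelProd

open Cfsg Cfsg.FusionSystem Cfsg.Agent.FusionSys Cfsg.Agent.FusionSys.FocCent
  Cfsg.Agent.FusionSys.KerClass Cfsg.Agent.FusionSys.LayerCore Cfsg.Agent.FusionMeet
  Cfsg.Agent.FusionProd Cfsg.Agent.FusionComp

variable {Ω : Type*} [Group Ω] {S T U : Subgroup Ω} {p : ℕ} [hp : Fact p.Prime] [Finite S]
variable {F : FusionSystem S} {E : FusionSystem T}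

omit hp [Finite S] in
/-- Normality only depends on the maps of the subsystem. -/
theorem normal_of_eq {W W' : Subgroup Ω} (h : W = W') {D : FusionSystem W} {D' : FusionSystem W'}
    (he : ∀ P, D.Hom P = D'.Hom P) (hn : D.IsNormalIn F p) : D'.IsNormalIn F p := by
  subst h
  rwa [← hom_ext D D' he]

/-- Preimages of elements of a strongly closed subgroup lie in it. -/
theorem mem_of_apply_mem (hT : F.StronglyClosed T) {P : Subgroup Ω} {φ : P →* Ω} (hφ : φ ∈ F.Hom P) {x : P}
    (h : φ x ∈ T) : (x : Ω) ∈ T := by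
  obtain ⟨θ, hθ, -, hθ1, -⟩ := exists_inv F hφ
  have h1 := stronglyClosed_apply_mem hT hθ ⟨φ x, ⟨x, rfl⟩⟩ h
  exact (congrArg (· ∈ T) (hθ1 x ⟨x, rfl⟩)).mp h1

/-- The hyperfocal subgroup of the product of an inner system and a normal subsystem. -/
theorem prdSys_hyperfocal_le {Q : Subgroup Ω} (C : Prd p F (innerFusionSystem Q) E) :
    (prdSys C).hyperfocalSubgroup p ≤ T := by
  refine hyperfocal_le_of_mod (F := F) C.pg C.cl₂ C.le fun P φ hφ => ?_
  obtain ⟨P₁, P₂, φ₁, φ₂, h1, h2, -, -, -, -, hd⟩ := elim_spec C hφ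
  obtain ⟨hP₁, g, hg, hge⟩ := id h1
  refine ⟨g, C.cl₁.1 hg, fun x => ?_⟩
  obtain ⟨a, b, hab, hφab⟩ := hd x x.2
  have h3 : φ x = g * (a : Ω) * g⁻¹ * φ₂ b := hφab.trans (by rw [hge a])
  have hb : g * (b : Ω) * g⁻¹ ∈ T :=
    (Subgroup.mem_normalizer_iff.1 (stronglyClosed_le_normalizer C.cl₂ (C.cl₁.1 hg)) _).1 (hom_le E h2 b.2)
  have h4 := T.mul_mem (T.inv_mem hb) (hom_apply_mem E h2 b)
  rw [h3, hab]
  simpa [mul_assoc] using h4

/-- Components of a normalizer system centralize the subgroup. -/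
theorem component_cent_self (hS : IsPGroup p S) (hF : F.IsSaturated p) {X : Subgroup Ω}
    (hX : F.IsFullyNormalized X) {K : FusionSystem U} (hK : K.IsComponentIn (normSystem F hX.1) p)
    (P : Subgroup Ω) : K.Hom P ⊆ F.centralizerHom X P := by
  haveI : Finite (normalizerIn S X) := finite_of_le (normalizerIn_le S X)
  intro φ hφ
  obtain ⟨h1, h2, h3, ψ, hψ, h4, h5⟩ := component_centralizes hK (hS.to_le (normalizerIn_le S X))
    (normalizerSystem_saturated hS hF hX _ (normSystem_spec F hX.1))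
    (normalizerSystem_isNormal hX.1 (normSystem_spec F hX.1)) P hφ
  have hle : centralizerIn (normalizerIn S X) X ≤ centralizerIn S X := inf_le_inf_right _ (normalizerIn_le S X)
  exact ⟨h1.1, h2.trans hle, fun x => hle (h3 x), ψ, hψ.1, h4, h5⟩

/-- A component of the normalizer system on a subgroup containing the carrier of the product with the
core lies in the product. -/
theorem carrier_le_of_le (hS : IsPGroup p S) (hF : F.IsSaturated p) (hE : E.IsLayerOf F p) {X : Subgroup Ω}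
    (hX : F.IsFullyNormalized X) (hTX : F.core ⊔ T ≤ X) {K : FusionSystem U}
    (hK : K.IsComponentIn (normSystem F hX.1) p) : U ≤ F.core ⊔ T := by
  have hpr := fitting_pair hS hF hE
  have hn := prdSys_normal hpr
  haveI : Finite (normalizerIn S X) := finite_of_le (normalizerIn_le S X)
  have hgood : U ≤ goodSub F (prdSys hpr) := by
    rw [← hK.2.2.1]
    refine (hyperfocal_le_focal K).trans ((Subgroup.closure_le _).2 ?_)
    rintro _ ⟨P, φ, x, hφ, rfl⟩
    have hc := centralizerHom_mono F hTX (component_cent_self hS hF hX hK P hφ)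
    exact Subgroup.subset_closure ⟨Subgroup.mul_mem _ (Subgroup.inv_mem _ (hc.2.1 x.2)) (hc.2.2.1 x),
      fun Q => mem_centralizerHom_zpowers hS hF hn hc x Q⟩
  haveI : Finite ↥(F.core ⊔ T) := finite_of_le hpr.le
  have hfit : (prdSys hpr).IsGeneralizedFittingOf F p := ⟨T, E, hE, prdSys_centralProduct hpr⟩
  exact hgood.trans (((FitSelf.fitting_self_centralizing hS hF hfit).2 _ (goodSub_le F _)
    (goodSub_spec hS hF hn)).trans (center_isCentral _).1)

/-- A subgroup strongly closed in the normalizer system of a fully normalized subgroup inside it is fully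
centralized. -/
theorem fullyCentralized_of_closed (hS : IsPGroup p S) (hF : F.IsSaturated p) {X Y : Subgroup Ω}
    (hX : F.IsFullyNormalized X) (hXY : X ≤ Y) (hY : (normSystem F hX.1).StronglyClosed Y) :
    F.IsFullyCentralized Y := by
  have hYN := hY.1
  have hYS : Y ≤ S := hYN.trans (normalizerIn_le S X)
  refine ⟨hYS, ?_⟩
  rintro _ ⟨φ, hφ, rfl⟩
  set X'' := (φ.comp (Subgroup.inclusion hXY)).range with hX''
  haveI := finite_of_le hX.1
  have hXX'' : F.IsConj X X'' := ⟨_, restrict_mem F hφ hXY, rfl⟩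
  obtain ⟨c, hc, hcN, hcX⟩ := exists_normalizer_map_fullyNormalized hS hF hX (isConj_symm hXX'')
  haveI := finite_of_le (isConj_le_right hXX'')
  have hin : ∀ y, φ y ∈ normalizerIn S X'' := fun y =>
    ⟨hom_apply_mem F hφ y, apply_mem_normalizer φ hXY rfl y (hYN y.2).2⟩
  set ξ := c.comp (φ.codRestrict (normalizerIn S X'') hin) with hξ
  have hξm : ξ ∈ F.Hom Y := F.comp_mem hφ hc hin
  have hξX : ∀ x : X, ξ (Subgroup.inclusion hXY x) ∈ X := fun x => hcX.le ⟨_, ⟨x, rfl⟩, rfl⟩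
  have hξN : ξ ∈ (normSystem F hX.1).Hom Y := by
    refine ⟨hξm, hYN, fun y => hcN _, ξ.comp (Subgroup.inclusion (sup_le le_rfl hXY)),
      restrict_mem F hξm _, fun y => rfl, ?_⟩
    rw [map_subgroupOf_eq_iff _ le_sup_right]
    refine ⟨hξX, fun z hz => ?_⟩
    obtain ⟨x, hx⟩ := mem_of_finite_image hX.1 hXY hξm hξX hz
    exact ⟨x, hx⟩
  haveI := finite_of_le hYS
  have hξY : ξ.range = Y := Subgroup.eq_of_le_of_card_ge
    (by rintro _ ⟨y, rfl⟩; exact hY.2 Y le_rfl ξ hξN y) (isConj_card ⟨ξ, hξm, rfl⟩).le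
  have hle : centralizerIn S φ.range ≤ normalizerIn S X'' := (inf_le_inf_left S
    (Subgroup.centralizer_le (by rintro _ ⟨x, rfl⟩; exact ⟨_, rfl⟩))).trans (centralizerIn_le_normalizerIn S X'')
  refine card_le_of_hom F hc hle (centralizerIn_le S Y) fun g hg =>
    ⟨hom_apply_mem F hc _, Subgroup.mem_centralizer_iff.2 fun y hy => ?_⟩
  obtain ⟨u, rfl⟩ := hξY.ge hy
  show c ⟨φ u, hin u⟩ * c ⟨g, hle hg⟩ = c ⟨g, hle hg⟩ * c ⟨φ u, hin u⟩
  rw [← map_mul, ← map_mul]
  exact congrArg c (Subtype.ext (Subgroup.mem_centralizer_iff.1 hg.2 _ ⟨u, rfl⟩))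

/-- A component of the normalizer system centralizing a normal subsystem is a component of the centralizer
of its carrier. -/
theorem component_cent (hS : IsPGroup p S) (hF : F.IsSaturated p) {X Y : Subgroup Ω}
    (hX : F.IsFullyNormalized X) (hXY : X ≤ Y) {M : FusionSystem Y} (hM : M.IsNormalIn (normSystem F hX.1) p)
    {K : FusionSystem U} (hK : K.IsComponentIn (normSystem F hX.1) p) (hUY : ¬ U ≤ Y) (hYS : Y ≤ S) :
    K.IsComponentIn (centSystem F hYS) p := by
  set N := normSystem F hX.1 with hNdef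
  haveI : Finite (normalizerIn S X) := finite_of_le (normalizerIn_le S X)
  have hSN := hS.to_le (normalizerIn_le S X)
  have hNs : N.IsSaturated p := normalizerSystem_saturated hS hF hX N (normSystem_spec F hX.1)
  have hYfc := fullyCentralized_of_closed hS hF hX hXY hM.1.2.2.2.1
  set H := centSystem F hYS with hHdef
  have hHs : H.IsSaturated p := centralizerSystem_saturated hS hF hYfc H (centSystem_spec F hYS)
  have hCle : centralizerIn S Y ≤ normalizerIn S X :=
    (inf_le_inf_left S (Subgroup.centralizer_le hXY)).trans (centralizerIn_le_normalizerIn S X)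
  have hHN : H.IsSubsystemOf N := by
    rintro P φ ⟨h1, h2, h3, ψ, hψ, h4, h5⟩
    refine ⟨h1, h2.trans hCle, fun x => hCle (h3 x), ψ.comp (Subgroup.inclusion (sup_le_sup_left hXY P)),
      restrict_mem F hψ _, fun x => h4 x, ?_⟩
    rw [map_subgroupOf_eq_iff _ le_sup_right]
    exact ⟨fun x => (h5 ⟨x, hXY x.2⟩).symm ▸ x.2, fun y hy => ⟨⟨y, hy⟩, h5 ⟨y, hXY hy⟩⟩⟩
  obtain ⟨D, hDn, hDc⟩ := CentSub.exists_centralizer_subsystem hSN hNs hM
  have hCC : centralizerIn (normalizerIn S X) Y ≤ centralizerIn S Y := inf_le_inf_right _ (normalizerIn_le S X)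
  have hDH : D.IsSubsystemOf H := fun P φ hφ => by
    obtain ⟨h1, h2, h3, ψ, hψ, h4, h5⟩ := hDc P hφ
    exact ⟨h1.1, h2.trans hCC, fun x => hCC (h3 x), ψ, hψ.1, h4, h5⟩
  haveI : Finite (centralizerIn S Y) := finite_of_le (centralizerIn_le S Y)
  obtain ⟨hDs, -, hDN, hG, hAI, hfr⟩ := id hDn.1
  have hGH : H.StronglyClosed (goodSub N M) :=
    ⟨(goodSub_le N M).trans hCC, fun P hP φ hφ x => hG.2 P hP φ (hHN P hφ) x⟩
  have hAI' : AutInvariant H D := fun P hP φ hφ α hα => hAI P hP φ hφ α (autGroup_mono hHN _ hα)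
  have hwn : D.IsWeaklyNormalIn H p := ⟨hDs, hHs, hDH, hGH, hAI', fun P hP φ hφ =>
    frattini_of_strong (hS.to_le (centralizerIn_le S Y)) hHs hDH hGH hAI'
      (fun Q hQ a ha b hb => congr_mem_of_frattini hAI hQ a
        (hfr Q hQ _ ((equivHom_autGroup N (hQ.trans hG.1)).1 (autGroup_mono hHN Q ha))) hb) hP hφ⟩
  haveI : Finite (goodSub N M) := finite_of_le hG.1
  have hres := exists_pPrimeResidual (hSN.to_le hG.1) hDs
  have hn₁ := pPrimeResidual_isNormalIn hSN hDn.1 hres
  have hn₂ := pPrimeResidual_isNormalIn (hS.to_le (centralizerIn_le S Y)) hwn hres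
  have h1 := component_in_normal hSN hK hn₁ (component_le_goodSub hSN hNs hK hM hUY)
  exact ⟨.step h1.1 hn₂, h1.2⟩

/-- The centralizer system of a fully normalized subgroup is normal in its normalizer system. -/
theorem cent_normal_norm (hS : IsPGroup p S) (hF : F.IsSaturated p) {Y : Subgroup Ω}
    (hY : F.IsFullyNormalized Y) : (centSystem F hY.1).IsNormalIn (normSystem F hY.1) p := by
  haveI : Finite (normalizerIn S Y) := finite_of_le (normalizerIn_le S Y)
  have hn := centralizer_isNormalIn (hS.to_le (normalizerIn_le S Y))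
    (normalizerSystem_saturated hS hF hY _ (normSystem_spec F hY.1))
    (normalizerSystem_isNormal hY.1 (normSystem_spec F hY.1))
  have hle : centralizerIn (normalizerIn S Y) Y = centralizerIn S Y :=
    le_antisymm (inf_le_inf_right _ (normalizerIn_le S Y))
      (le_inf (centralizerIn_le_normalizerIn S Y) inf_le_right)
  refine normal_of_eq hle (fun P => Set.Subset.antisymm ?_ ?_) hn
  · rintro φ ⟨h1, h2, h3, ψ, hψ, h4, h5⟩
    exact ⟨h1.1, h2.trans hle.le, fun x => hle.le (h3 x), ψ, hψ.1, h4, h5⟩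
  · rintro φ ⟨h1, h2, h3, ψ, hψ, h4, h5⟩
    have hPN : P ≤ normalizerIn S Y := h2.trans (centralizerIn_le_normalizerIn S Y)
    have hYN : Y ≤ normalizerIn S Y := le_normalizerIn hY.1
    have hψY : (Y.subgroupOf (P ⊔ Y)).map ψ = Y := by
      rw [map_subgroupOf_eq_iff _ le_sup_right]
      exact ⟨fun y => (h5 y).symm ▸ y.2, fun y hy => ⟨⟨y, hy⟩, h5 ⟨y, hy⟩⟩⟩
    refine ⟨⟨h1, hPN, fun x => centralizerIn_le_normalizerIn S Y (h3 x), ψ, hψ, h4, hψY⟩,
      h2.trans hle.ge, fun x => hle.ge (h3 x), ψ, ⟨hψ, sup_le hPN hYN,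
        apply_mem_of_sup ψ (fun x => by rw [h4]; exact centralizerIn_le_normalizerIn S Y (h3 x))
          (fun y => by rw [h5]; exact hYN y.2),
        ψ.comp (Subgroup.inclusion (sup_le le_rfl le_sup_right)), restrict_mem F hψ _, fun x => rfl, ?_⟩, h4, h5⟩
    rw [map_subgroupOf_eq_iff _ le_sup_right]
    exact ⟨fun y => (h5 y).symm ▸ y.2, fun y hy => ⟨⟨y, hy⟩, h5 ⟨y, hy⟩⟩⟩

/-- A component of a normalizer system is carried along a frame. -/
theorem exists_push_component (hS : IsPGroup p S) (hF : F.IsSaturated p) {X X' : Subgroup Ω}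
    (hX : F.IsFullyNormalized X) (hX' : F.IsFullyNormalized X') {c : normalizerIn S X →* Ω}
    (hc : c ∈ F.Hom (normalizerIn S X)) (hr : c.range = normalizerIn S X')
    (hcX : (X.subgroupOf (normalizerIn S X)).map c = X') {K : FusionSystem U}
    (hK : K.IsComponentIn (normSystem F hX.1) p) :
    ∃ (U' : Subgroup Ω) (K' : FusionSystem U'), K'.IsComponentIn (normSystem F hX'.1) p ∧
      ∀ T₀ : Subgroup Ω, F.StronglyClosed T₀ → U' ≤ T₀ → U ≤ T₀ := by
  haveI : Finite (normalizerIn S X) := finite_of_le (normalizerIn_le S X)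
  obtain ⟨U', K', hUN, hK', k⟩ := subnormal_push hK.1 inferInstance inferInstance
    (normalizerSystem_saturated hS hF hX _ (normSystem_spec F hX.1)) (isFusIso_norm hX.1 hX'.1 hc hr hcX)
  haveI := finite_of_le hUN
  refine ⟨U', K', ⟨hK', k.quasisimple hK.2⟩, fun T₀ hT₀ hU' u hu => ?_⟩
  exact mem_of_apply_mem hT₀ hc (x := ⟨u, hUN hu⟩) (hU' (k.range.le ⟨⟨u, hu⟩, rfl⟩))

/-- The components of normalizer systems lie in the product of the layer and the core. -/
theorem carrier_le_fitting (hS : IsPGroup p S) (hF : F.IsSaturated p) (hE : E.IsLayerOf F p) {X : Subgroup Ω}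
    (hX : F.IsFullyNormalized X) {K : FusionSystem U} (hK : K.IsComponentIn (normSystem F hX.1) p) :
    U ≤ F.core ⊔ T := by
  induction hn : Nat.card S - Nat.card X using Nat.strong_induction_on generalizing X U with
  | _ n ih =>
  have hpr := fitting_pair hS hF hE
  have hEn := prdSys_normal hpr
  have hcl := hpr.closed
  -- a frame
  obtain ⟨X₁, hX₁, hR₁, hXX₁, c, hc, hr, hcX⟩ := exists_frame hS hF hX hcl
  obtain ⟨U₁, K₁, hK₁, hback⟩ := exists_push_component hS hF hX hX₁ hc hr hcX hK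
  refine hback _ hcl ?_
  have hcard : Nat.card X = Nat.card X₁ := isConj_card hXX₁
  clear hback hK hr hcX hc c
  set R := X₁ ⊔ (F.core ⊔ T) with hRdef
  have hRS : R ≤ S := hR₁.1
  haveI := finite_of_le hRS
  have C : Data p F (prdSys hpr) R := ⟨hS, hF, hEn, le_sup_right, hR₁⟩
  have hXm : Mem (F.core ⊔ T) R X₁ := ⟨le_sup_left, le_rfl⟩
  haveI : Finite (normalizerIn S X₁) := finite_of_le (normalizerIn_le S X₁)
  have hSN := hS.to_le (normalizerIn_le S X₁)
  by_cases hRX : R = X₁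
  · exact carrier_le_of_le hS hF hE hX₁ (le_sup_right.trans hRX.le) hK₁
  have hM := mSys_residual_normal C hX₁ hXm
  by_cases hUY : U₁ ≤ normalizerIn R X₁
  · have hsub := component_le_normal hSN hK₁ hM hUY
    rw [← hK₁.2.2.1]
    refine (hyperfocal_sub_mono hsub).trans ((hyperfocal_sub_mono ?_).trans (mSys_hyperfocal_le C hXm.1))
    exact fun P φ hφ => hφ.1
  have hYS : normalizerIn R X₁ ≤ S := (normalizerIn_le R X₁).trans hRS
  have hXY : X₁ ≤ normalizerIn R X₁ := le_normalizerIn hXm.1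
  have hlt : X₁ < normalizerIn R X₁ :=
    lt_normalizerIn (hS.to_le hRS) (lt_of_le_of_ne hXm.1 (Ne.symm hRX))
  have hcomp := component_cent hS hF hX₁ hXY hM hK₁ hUY hYS
  have hYfc := fullyCentralized_of_closed hS hF hX₁ hXY (normalizerIn_closed C hX₁.1 hXm)
  -- to a fully normalized conjugate of `N_R(X₁)`
  obtain ⟨Y', hYY', hY'⟩ := exists_fullyNormalized F hYS
  obtain ⟨d, hd, hdN, hdY⟩ := exists_normalizer_map_fullyNormalized hS hF hY' hYY'
  haveI : Finite ↥(centralizerIn S (normalizerIn R X₁)) := finite_of_le (centralizerIn_le S _)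
  obtain ⟨U₂, K₂, hUC, hK₂, k⟩ := subnormal_push hcomp.1 inferInstance inferInstance
    (centralizerSystem_saturated hS hF hYfc _ (centSystem_spec F hYS)) (isFusIso_cent hYfc hY'.1 hd hdN hdY)
  haveI := finite_of_le hUC
  have hK₂' : K₂.IsComponentIn (normSystem F hY'.1) p :=
    ⟨.step hK₂ (cent_normal_norm hS hF hY'), k.quasisimple hcomp.2⟩
  haveI := finite_of_le hYS
  haveI := finite_of_le hY'.1
  have hlt' : Nat.card S - Nat.card Y' < n := by
    have h1 : Nat.card X₁ < Nat.card (normalizerIn R X₁) := by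
      haveI := finite_of_le hX₁.1
      exact lt_of_le_of_ne (Subgroup.card_le_of_le hlt.le) fun h =>
        hlt.ne (Subgroup.eq_of_le_of_card_ge hlt.le h.ge)
    have h2 : Nat.card (normalizerIn R X₁) = Nat.card Y' := isConj_card hYY'
    have h3 : Nat.card Y' ≤ Nat.card S := Subgroup.card_le_of_le hY'.1
    omega
  have hU₂ := ih _ hlt' hY' hK₂' rfl
  have hUT : U₁ ≤ F.core ⊔ T := fun u hu =>
    mem_of_apply_mem hcl hd (x := ⟨u, centralizerIn_le_normalizerIn S _ (hUC hu)⟩)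
      (hU₂ (k.range.le ⟨⟨u, hu⟩, rfl⟩))
  refine absurd (fun u hu => ?_) (component_not_central hSN hK₁)
  exact Subgroup.centralizer_le (fun v hv => (⟨(le_sup_right : F.core ⊔ T ≤ R) (hUT hv),
    ((FusionMeet.subnormal_le hK₁.1) hv).2⟩ : v ∈ normalizerIn R X₁)) (hUC hu).2

/-- The components of normalizer systems lie on the carrier of the layer. -/
theorem carrier_le_layer (hS : IsPGroup p S) (hF : F.IsSaturated p) (hE : E.IsLayerOf F p) {X : Subgroup Ω}
    (hX : F.IsFullyNormalized X) {K : FusionSystem U} (hK : K.IsComponentIn (normSystem F hX.1) p) :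
    U ≤ T := by
  have hpr := fitting_pair hS hF hE
  have hEn := prdSys_normal hpr
  obtain ⟨X₁, hX₁, hR₁, -, c, hc, hr, hcX⟩ := exists_frame hS hF hX hpr.closed
  obtain ⟨U₁, K₁, hK₁, hback⟩ := exists_push_component hS hF hX hX₁ hc hr hcX hK
  refine hback _ hE.1.1.2.2.2.1 ?_
  have hU₁ := carrier_le_fitting hS hF hE hX₁ hK₁
  have C : Data p F (prdSys hpr) (X₁ ⊔ (F.core ⊔ T)) := ⟨hS, hF, hEn, le_sup_right, hR₁⟩
  have hXm : Mem (F.core ⊔ T) (X₁ ⊔ (F.core ⊔ T)) X₁ := ⟨le_sup_left, le_rfl⟩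
  haveI : Finite (normalizerIn S X₁) := finite_of_le (normalizerIn_le S X₁)
  have hsub := component_le_normal (hS.to_le (normalizerIn_le S X₁)) hK₁ (mSys_residual_normal C hX₁ hXm)
    fun u hu => ⟨(le_sup_right : F.core ⊔ T ≤ _) (hU₁ hu), ((FusionMeet.subnormal_le hK₁.1) hu).2⟩
  have hKE : K₁.IsSubsystemOf (prdSys hpr) := sub_of_relSys C hU₁ hK₁.2.1 fun P φ hφ => (hsub P hφ).1.1
  rw [← hK₁.2.2.1]
  exact (hyperfocal_sub_mono hKE).trans (prdSys_hyperfocal_le hpr)

/-- The layer of a normalizer system lies in the layer when the product with the carrier of the layer is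
fully normalized. -/
theorem layer_sub_frame (hS : IsPGroup p S) (hF : F.IsSaturated p) (hE : E.IsLayerOf F p) {X : Subgroup Ω}
    (hX : F.IsFullyNormalized X) (hR : F.IsFullyNormalized (X ⊔ T)) {EN : FusionSystem U}
    (hEN : EN.IsLayerOf (normSystem F hX.1) p) : U ≤ T ∧ EN.IsSubsystemOf E := by
  have C : Data p F E (X ⊔ T) := ⟨hS, hF, hE.1, le_sup_right, hR⟩
  have hXm : Mem T (X ⊔ T) X := ⟨le_sup_left, le_rfl⟩
  haveI : Finite (normalizerIn S X) := finite_of_le (normalizerIn_le S X)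
  have hSN := hS.to_le (normalizerIn_le S X)
  have hsub : EN.IsSubsystemOf (pPrimeSys (normSystem (relSys C) hXm.1) p) :=
    hEN.2.2 _ _ (mSys_residual_normal C hX hXm) fun U' K hK =>
      component_le_normal hSN hK (mSys_residual_normal C hX hXm) fun u hu =>
        ⟨(le_sup_right : T ≤ _) (carrier_le_layer hS hF hE hX hK hu), ((FusionMeet.subnormal_le hK.1) hu).2⟩
  have hhyp : EN.hyperfocalSubgroup p ≤ T :=
    (hyperfocal_sub_mono hsub).trans ((hyperfocal_sub_mono (E := pPrimeSys (normSystem (relSys C) hXm.1) p) (F := normSystem (relSys C) hXm.1)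
      fun P φ hφ => hφ.1).trans (mSys_hyperfocal_le C hXm.1))
  obtain ⟨D, hD, -⟩ := StableLimit.pStep hSN hEN.1.1 (StableLimit.hyperfocal_closed hSN hEN.1.1)
    (hyperfocal_le EN) le_rfl
  haveI : Finite ↥(EN.hyperfocalSubgroup p) := finite_of_le hD.2.2.2.1.1
  have hn := pPrimeResidual_isNormalIn hSN hD (exists_pPrimeResidual (hSN.to_le hD.2.2.2.1.1) hD.1)
  have hW : U ≤ EN.hyperfocalSubgroup p := subsystem_le (hEN.2.2 _ _ hn fun U' K hK =>
    component_le_normal hSN hK hn (hK.2.2.1.ge.trans (hyperfocal_sub_mono (hEN.2.1 U' K hK))))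
  exact ⟨hW.trans hhyp, sub_of_relSys C (hW.trans hhyp) hEN.1.1.1 fun P φ hφ => (hsub P hφ).1.1⟩

/-- The layer of a normalizer system is a subsystem of the layer. -/
theorem layer_balance (hS : IsPGroup p S) (hF : F.IsSaturated p) (hE : E.IsLayerOf F p) {X : Subgroup Ω}
    (hX : F.IsFullyNormalized X) {EN : FusionSystem U} (hEN : EN.IsLayerOf (normSystem F hX.1) p) :
    EN.IsSubsystemOf E := by
  obtain ⟨hEs, -, hEF, hT, hAI, hfr⟩ := id hE.1.1
  obtain ⟨X₁, hX₁, hR₁, -, c, hc, hr, hcX⟩ := exists_frame hS hF hX hT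
  haveI : Finite (normalizerIn S X) := finite_of_le (normalizerIn_le S X)
  haveI : Finite (normalizerIn S X₁) := finite_of_le (normalizerIn_le S X₁)
  have hNs := normalizerSystem_saturated hS hF hX _ (normSystem_spec F hX.1)
  obtain ⟨U₁, EN₁, hEN₁⟩ := exists_layer (hS.to_le (normalizerIn_le S X₁))
    (normalizerSystem_saturated hS hF hX₁ _ (normSystem_spec F hX₁.1))
  obtain ⟨hU₁, hEN₁E⟩ := layer_sub_frame hS hF hE hX₁ hR₁ hEN₁
  have h := isFusIso_norm hX.1 hX₁.1 hc hr hcX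
  have hpag := pullSystem_agrees h.inj EN₁
  have hsub : EN.IsSubsystemOf (pullSystem h.inj EN₁) := by
    refine hEN.2.2 _ _ (h.normal_pull hNs hEN₁.1) fun V K hK => ?_
    obtain ⟨V', K', hVS, hK', k⟩ := subnormal_push hK.1 inferInstance inferInstance hNs h
    haveI := finite_of_le hVS
    have hsubK := hEN₁.2.1 V' K' ⟨hK', k.quasisimple hK.2⟩
    intro P φ hφ
    have hPV := hom_le K hφ
    obtain ⟨φ', hφ', he⟩ := k.exists_push hφ
    refine hpag.bwd P (hPV.trans hVS) φ (fun x => hVS (hom_apply_mem K hφ x)) _ φ' (hsubK _ hφ')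
      (fun z hz => ?_) fun x hx => he x hx
    obtain ⟨x, hx, rfl⟩ := hz
    exact ⟨⟨x, hPV hx⟩, hx, rfl⟩
  intro P φ hφ
  obtain ⟨hPN, hφN, hpush⟩ := hsub P hφ
  set A := normalizerIn S X ⊓ T
  set cA := c.comp (Subgroup.inclusion (inf_le_left : A ≤ normalizerIn S X)) with hcA
  have hcAm : cA ∈ F.Hom A := restrict_mem F hc _
  obtain ⟨β, hβ, φ₀, hφ₀, hβe⟩ := hfr A inf_le_right cA hcAm
  have hclsA : Cls F E A cA β := ⟨hβ, φ₀, hφ₀, fun x => hβe x _⟩
  have hpre : ∀ x : normalizerIn S X, c x ∈ T → (x : Ω) ∈ T := fun x hx => mem_of_apply_mem hT hc hx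
  have hPA : P ≤ A := fun x hx => ⟨hPN hx, hpre ⟨x, hPN hx⟩
    (hU₁ (hom_le EN₁ hpush (imageAlong_mem (x := ⟨x, hPN hx⟩) hx)))⟩
  have hφA : ∀ x : P, φ x ∈ A := fun x => by
    refine ⟨hφN x, hpre ⟨φ x, hφN x⟩ (hU₁ ?_)⟩
    have := hom_apply_mem EN₁ hpush ⟨_, imageAlong_mem (ι := c) (x := ⟨x, hPN x.2⟩) x.2⟩
    rwa [pushMap_apply] at this
  set eA := mapEquiv F hcAm rfl with heA
  have h1 : Cls F E P (cA.comp (Subgroup.inclusion hPA)) β := hclsA.restrict hPA
  have h2 : Cls F E (imageAlong c P) (pushMap h.inj hPN φ hφN) 1 := cls_of_mem (hEN₁E _ hpush)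
  have h3 := Cls.comp hAI h1 h2 fun x => imageAlong_mem (ι := c) (x := ⟨x, hPN x.2⟩) x.2
  have hval : ∀ x : P, ((pushMap h.inj hPN φ hφN).comp ((cA.comp (Subgroup.inclusion hPA)).codRestrict
      (imageAlong c P) fun y => imageAlong_mem (ι := c) (x := ⟨y, hPN y.2⟩) y.2)) x = c ⟨φ x, hφN x⟩ := fun x =>
    pushMap_apply h.inj hPN φ hφN x (imageAlong_mem (ι := c) (x := ⟨x, hPN x.2⟩) x.2)
  have h4 := Cls.comp hAI h3
    (((hclsA.congr fun _ => rfl) : Cls F E A (equivHom eA) β).symm hAI eA)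
    fun x => (hval x).symm ▸ (⟨⟨φ x, hφA x⟩, rfl⟩ : c ⟨φ x, hφN x⟩ ∈ cA.range)
  rw [one_mul, inv_mul_cancel] at h4
  obtain ⟨-, ψ, hψ, hψe⟩ := h4
  refine hom_congr E hψ fun x => ?_
  have h5 := hψe x
  rw [MulAut.one_apply] at h5
  refine Eq.trans ?_ h5
  show φ x = ((eA.symm ⟨_, _⟩ : A) : Ω)
  have h6 : eA ⟨φ x, hφA x⟩ = ⟨c ⟨φ x, hφN x⟩, ⟨φ x, hφA x⟩, rfl⟩ := Subtype.ext rfl
  rw [show ∀ (z : Ω) (hz : z ∈ cA.range), z = c ⟨φ x, hφN x⟩ → eA.symm ⟨z, hz⟩ = ⟨φ x, hφA x⟩ from
    fun z hz hzv => eA.injective ((eA.apply_symm_apply _).trans (Subtype.ext hzv)) ]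
  exact hval x

end Cfsg.Agent.RelProd
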