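import Cfsg.Agent.Lib.RelProd.Focal
import Cfsg.Agent.Lib.FusionMeet.System

/-!
# Subgroups covering `R` modulo a normal subsystem

For `T ≤ R` fully normalized the subgroups `Q ≤ R` with `R = QT` behave inside `R` as if `R` were strongly
closed.
-/

set_option autoImplicit false
set_option linter.unusedSectionVars false
set_option linter.style.haveILetI false

namespace Cfsg.Agent.RelProd

open Cfsg Cfsg.FusionSystem Cfsg.Agent.FusionSys Cfsg.Agent.FusionSys.FocCent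
  Cfsg.Agent.FusionSys.LayerCore Cfsg.Agent.FusionMeet

variable {Ω : Type*} [Group Ω] {S T R : Subgroup Ω} {p : ℕ}

/-- The data: a normal subsystem over `T` and a fully normalized subgroup containing `T`. -/
structure Data (p : ℕ) (F : FusionSystem S) (E : FusionSystem T) (R : Subgroup Ω) : Prop where
  pg : IsPGroup p S
  sat : F.IsSaturated p
  n : E.IsNormalIn F p
  leT : T ≤ R
  fnR : F.IsFullyNormalized R

/-- The subgroups of `R` covering it modulo `T`. -/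
def Mem (T R Q : Subgroup Ω) : Prop := Q ≤ R ∧ R ≤ Q ⊔ T

theorem Mem.mono {Q P : Subgroup Ω} (h : Mem T R Q) (hQP : Q ≤ P) (hP : P ≤ R) : Mem T R P :=
  ⟨hP, h.2.trans (sup_le_sup_right hQP T)⟩

theorem mem_top : Mem T R R := ⟨le_rfl, le_sup_left⟩

/-- The subgroups on which the product system is generated. -/
def Hc (F : FusionSystem S) (E : FusionSystem T) (R Q : Subgroup Ω) : Prop :=
  Mem T R Q ∧ E.IsCentric (Q ⊓ T) ∧ ∀ Q', F.IsConj Q Q' → Q' ≤ R → centralizerIn R Q' ≤ Q'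

variable {F : FusionSystem S} {E : FusionSystem T}

theorem Data.le (C : Data p F E R) : R ≤ S := C.fnR.1

theorem Data.closed (C : Data p F E R) : F.StronglyClosed T := C.n.1.2.2.2.1

theorem Data.inv (C : Data p F E R) : E.IsInvariantIn F := C.n.1.2.2

theorem Hc.le {Q : Subgroup Ω} (h : Hc F E R Q) : Q ≤ R := h.1.1

variable [hp : Fact p.Prime] [Finite S]

/-- `R` is closed under maps sending a covering subgroup into it. -/
theorem Data.apply_mem (C : Data p F E R) {M P : Subgroup Ω} {φ : M →* Ω} (hφ : φ ∈ F.Hom M) (hPM : P ≤ M)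
    (hP : Mem T R P) (hPR : ∀ x : P, φ (Subgroup.inclusion hPM x) ∈ R) {x : M} (hx : (x : Ω) ∈ R) :
    φ x ∈ R := by
  obtain ⟨ψ, hψ, hψe⟩ := exists_lift_mod C.pg C.sat C.closed hφ
  have hle : P ⊔ T ≤ M ⊔ T := sup_le_sup_right hPM T
  have h1 : ψ (Subgroup.inclusion le_sup_left x) ∈ R := by
    have h2 : ∀ y : ↥(P ⊔ T), (ψ.comp (Subgroup.inclusion hle)) y ∈ R := by
      refine apply_mem_of_sup _ (fun y => ?_) fun y => C.leT (stronglyClosed_apply_mem C.closed hψ _ y.2)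
      have := R.mul_mem (hPR y) (C.leT (hψe (Subgroup.inclusion hPM y)))
      rwa [mul_inv_cancel_left] at this
    exact h2 ⟨x, hP.2 hx⟩
  have := R.mul_mem h1 (R.inv_mem (C.leT (hψe x)))
  simpa using this

/-- Restatement for a map on a covering subgroup with range in `R`. -/
theorem Data.apply_mem' (C : Data p F E R) {M P P' : Subgroup Ω} {φ : M →* Ω} (hφ : φ ∈ F.Hom M) (hPM : P ≤ M)
    (hP : Mem T R P) (hr : (φ.comp (Subgroup.inclusion hPM)).range = P') (hP' : P' ≤ R) {x : M}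
    (hx : (x : Ω) ∈ R) : φ x ∈ R :=
  C.apply_mem hφ hPM hP (fun y => hP' (hr.le ⟨y, rfl⟩)) hx

/-- Conjugates inside `R` of covering subgroups cover. -/
theorem Data.mem_conj (C : Data p F E R) {P P' : Subgroup Ω} (hP : Mem T R P) (h : F.IsConj P P')
    (hP' : P' ≤ R) : Mem T R P' := by
  obtain ⟨φ, hφ, rfl⟩ := h
  obtain ⟨ψ, hψ, hψe⟩ := exists_lift_mod C.pg C.sat C.closed hφ
  haveI := finite_of_le C.le
  have hψR : ∀ y : ↥(P ⊔ T), ψ y ∈ φ.range ⊔ T := by
    refine apply_mem_of_sup ψ (fun y => ?_) fun y =>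
      Subgroup.mem_sup_right (stronglyClosed_apply_mem C.closed hψ _ y.2)
    have := Subgroup.mul_mem (φ.range ⊔ T) (Subgroup.mem_sup_left ⟨y, rfl⟩) (Subgroup.mem_sup_right (hψe y))
    rwa [mul_inv_cancel_left] at this
  refine ⟨hP', ?_⟩
  have hle : φ.range ⊔ T ≤ R := sup_le hP' C.leT
  haveI := finite_of_le (hle.trans C.le)
  refine (Subgroup.eq_of_le_of_card_ge hle ?_).ge
  rw [le_antisymm hP.2 (sup_le hP.1 C.leT)]
  exact card_le_of_hom F hψ le_rfl (hle.trans C.le) fun y hy => hψR ⟨y, hy⟩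

/-- The normalizer of a covering subgroup normalizes `R`. -/
theorem Data.normalizer_le (C : Data p F E R) {P : Subgroup Ω} (hP : Mem T R P) {g : Ω} (hg : g ∈ S)
    (hgn : g ∈ Subgroup.normalizer (P : Set Ω)) : g ∈ Subgroup.normalizer (R : Set Ω) := by
  haveI := finite_of_le C.le
  refine mem_normalizer_of_conj_mem_finite fun y hy => ?_
  have h : P ⊔ T ≤ R.comap (MulAut.conj g).toMonoidHom := sup_le
    (fun z hz => hP.1 ((Subgroup.mem_normalizer_iff.1 hgn z).1 hz))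
    fun z hz => C.leT ((Subgroup.mem_normalizer_iff.1 (stronglyClosed_le_normalizer C.closed hg) z).1 hz)
  exact h (hP.2 hy)

/-- Covering subgroups have fully normalized conjugates inside `R`. -/
theorem Data.exists_fn (C : Data p F E R) {P : Subgroup Ω} (hP : Mem T R P) :
    ∃ Q, F.IsConj P Q ∧ Q ≤ R ∧ F.IsFullyNormalized Q := by
  obtain ⟨Q, hPQ, hQ⟩ := exists_fullyNormalized F (hP.1.trans C.le)
  obtain ⟨φ, hφ, hφr⟩ := id hPQ
  obtain ⟨ψ, hψ, hψe⟩ := exists_lift_mod C.pg C.sat C.closed hφ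
  set R₁ := Q ⊔ T with hR₁
  have hψr : ∀ y, ψ y ∈ R₁ := by
    refine apply_mem_of_sup ψ (fun y => ?_) fun y =>
      Subgroup.mem_sup_right (stronglyClosed_apply_mem C.closed hψ _ y.2)
    have := Subgroup.mul_mem R₁ (Subgroup.mem_sup_left (hφr.le ⟨y, rfl⟩)) (Subgroup.mem_sup_right (hψe y))
    rwa [mul_inv_cancel_left] at this
  have hRP : R = P ⊔ T := le_antisymm hP.2 (sup_le hP.1 C.leT)
  have hψr' : ψ.range = R₁ := by
    refine le_antisymm (by rintro _ ⟨y, rfl⟩; exact hψr y) (sup_le ?_ ?_)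
    · intro q hq
      obtain ⟨x, rfl⟩ := hφr.ge hq
      have h1 : ψ (Subgroup.inclusion le_sup_left x) ∈ ψ.range := ⟨_, rfl⟩
      obtain ⟨t, ht, hte⟩ := exists_preimage_stronglyClosed C.closed hψ le_sup_right
        (T.inv_mem (hψe x))
      have := ψ.range.mul_mem h1 ⟨⟨t, Subgroup.mem_sup_right ht⟩, hte⟩
      simpa using this
    · intro y hy
      obtain ⟨t, ht, hte⟩ := exists_preimage_stronglyClosed C.closed hψ le_sup_right hy
      exact ⟨_, hte⟩
  have hR₁ : F.IsConj R₁ R := by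
    have h1 : F.IsConj (P ⊔ T) R₁ := ⟨ψ, hψ, hψr'⟩
    rw [← hRP] at h1
    exact isConj_symm h1
  obtain ⟨τ, hτ, hτN, hτR⟩ := exists_normalizer_map_fullyNormalized C.pg C.sat C.fnR hR₁
  have hQ₁S : R₁ ≤ S := isConj_le_left hR₁
  haveI := finite_of_le hQ₁S
  have hNle : normalizerIn S Q ≤ normalizerIn S R₁ := fun g hg => ⟨hg.1,
    mem_normalizer_of_conj_mem_finite fun y hy => by
      have h : R₁ ≤ R₁.comap (MulAut.conj g).toMonoidHom := sup_le
        (fun z hz => Subgroup.mem_sup_left ((Subgroup.mem_normalizer_iff.1 hg.2 z).1 hz))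
        fun z hz => Subgroup.mem_sup_right
          ((Subgroup.mem_normalizer_iff.1 (stronglyClosed_le_normalizer C.closed hg.1) z).1 hz)
      exact h hy⟩
  have hτ' := restrict_mem F hτ hNle
  set τ' := τ.comp (Subgroup.inclusion hNle)
  have hQN : Q ≤ normalizerIn S Q := le_normalizerIn hQ.1
  set Q' := (τ'.comp (Subgroup.inclusion hQN)).range
  have hQQ' : F.IsConj Q Q' := ⟨_, restrict_mem F hτ' hQN, rfl⟩
  haveI := finite_of_le (isConj_le_right hQQ')
  refine ⟨Q', isConj_trans hPQ hQQ', ?_, isConj_le_right hQQ', fun X hX => ?_⟩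
  · rintro _ ⟨q, rfl⟩
    exact hτR.le ⟨_, (Subgroup.mem_sup_left q.2 : (q : Ω) ∈ R₁), rfl⟩
  · refine (hQ.2 X (isConj_trans hQQ' hX)).trans ?_
    exact card_le_of_hom F hτ' le_rfl (normalizerIn_le _ _) fun g hg =>
      ⟨hom_apply_mem F hτ' _, apply_mem_normalizer τ' hQN rfl ⟨g, hg⟩ hg.2⟩

/-- An isomorphism inside `R` carries `Q ∩ T` onto `Q' ∩ T`. -/
theorem isConj_inf (hT : F.StronglyClosed T) {Q Q' : Subgroup Ω} (h : F.IsConj Q Q') :
    F.IsConj (Q ⊓ T) (Q' ⊓ T) := by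
  obtain ⟨φ, hφ, rfl⟩ := h
  refine ⟨_, restrict_mem F hφ (inf_le_left : Q ⊓ T ≤ Q), ?_⟩
  obtain ⟨θ, hθ, -, hθe, -⟩ := exists_inv F hφ
  ext y
  constructor
  · rintro ⟨x, rfl⟩
    exact ⟨⟨_, rfl⟩, stronglyClosed_apply_mem hT hφ (Subgroup.inclusion inf_le_left x) x.2.2⟩
  · rintro ⟨⟨x, rfl⟩, hyT⟩
    have h1 := stronglyClosed_apply_mem hT hθ ⟨φ x, ⟨x, rfl⟩⟩ hyT
    have h2 : (x : Ω) ∈ T := (hθe x ⟨x, rfl⟩) ▸ h1
    exact ⟨⟨x, x.2, h2⟩, rfl⟩

theorem Hc.cent_le (C : Data p F E R) {Q : Subgroup Ω} (h : Hc F E R Q) : centralizerIn R Q ≤ Q :=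
  h.2.2 Q (isConj_refl F (h.le.trans C.le)) h.le

theorem Hc.of_conj (C : Data p F E R) {Q P : Subgroup Ω} (h : Hc F E R Q) (hc : F.IsConj Q P) (hP : P ≤ R) :
    Hc F E R P :=
  ⟨C.mem_conj h.1 hc hP, centric_of_conj C.inv h.2.1 (isConj_inf C.closed hc),
    fun P' hP' hle => h.2.2 P' (isConj_trans hc hP') hle⟩

theorem Hc.mono (C : Data p F E R) {Q P : Subgroup Ω} (h : Hc F E R Q) (hQP : Q ≤ P) (hP : P ≤ R) :
    Hc F E R P := by
  haveI : Finite T := finite_of_le (S := S) C.closed.1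
  refine ⟨h.1.mono hQP hP, isCentric_mono h.2.1 (inf_le_inf_right T hQP) inf_le_right, ?_⟩
  rintro _ ⟨φ, hφ, rfl⟩ hle
  have hle' : (φ.comp (Subgroup.inclusion hQP)).range ≤ φ.range := by
    rintro _ ⟨x, rfl⟩; exact ⟨_, rfl⟩
  have h1 := h.2.2 _ ⟨_, restrict_mem F hφ hQP, rfl⟩ (hle'.trans hle)
  exact le_trans (inf_le_inf_left _ (Subgroup.centralizer_le hle')) (h1.trans hle')

theorem hc_self (C : Data p F E R) : Hc F E R R := by
  haveI : Finite T := finite_of_le (S := S) C.closed.1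
  refine ⟨mem_top, ?_, fun Q hQ hle => ?_⟩
  · rw [inf_eq_right.2 C.leT]
    exact ⟨le_rfl, fun X hX => (centralizerIn_le T X).trans
      (Subgroup.eq_of_le_of_card_ge (isConj_le_right hX) (isConj_card hX).le).ge⟩
  · haveI := finite_of_le C.le
    exact (centralizerIn_le R Q).trans (Subgroup.eq_of_le_of_card_ge hle (isConj_card hQ).le).ge

/-- The system of all maps between subgroups of `R`. -/
def inSys (F : FusionSystem S) {R : Subgroup Ω} (hR : R ≤ S) : FusionSystem R where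
  Hom P := {φ | φ ∈ F.Hom P ∧ P ≤ R ∧ ∀ x, φ x ∈ R}
  le_of_mem h := ⟨h.2.1, h.2.2⟩
  injective_of_mem h := F.injective_of_mem h.1
  conj_mem {P g} hP hg := ⟨F.conj_mem (hP.trans hR) (hR hg), hP, fun x =>
    R.mul_mem (R.mul_mem hg (hP x.2)) (R.inv_mem hg)⟩
  comp_mem h1 h2 h := ⟨F.comp_mem h1.1 h2.1 h, h1.2.1, fun _ => h2.2.2 _⟩
  inv_mem := by
    rintro P φ ⟨hφ, hP, hφR⟩
    obtain ⟨ψ, hψ, hψr, he, -⟩ := exists_inv F hφ
    refine ⟨ψ, ⟨hψ, ?_, fun y => hP (hψr.le ⟨y, rfl⟩)⟩, fun x => he x _⟩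
    rintro _ ⟨x, rfl⟩
    exact hφR x

/-- Subgroups of `R` with an iterated full normalization. -/
inductive RNice (F : FusionSystem S) (R : Subgroup Ω) : Subgroup Ω → Prop
  | top : RNice F R R
  | step {Q : Subgroup Ω} : Q < R → F.IsFullyNormalized Q → RNice F R (normalizerIn R Q) → RNice F R Q

theorem RNice.le {Q : Subgroup Ω} (h : RNice F R Q) : Q ≤ R := by
  cases h with
  | top => exact le_rfl
  | step h1 _ _ => exact h1.le

theorem RNice.next {Q : Subgroup Ω} (h : RNice F R Q) (hlt : Q < R) : RNice F R (normalizerIn R Q) := by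
  cases h with
  | top => exact absurd hlt (lt_irrefl _)
  | step _ _ h3 => exact h3

theorem RNice.fn (C : Data p F E R) {Q : Subgroup Ω} (h : RNice F R Q) : F.IsFullyNormalized Q := by
  cases h with
  | top => exact C.fnR
  | step _ h2 _ => exact h2

theorem exists_rnice (C : Data p F E R) {P : Subgroup Ω} (hP : Mem T R P) :
    ∃ Q, RNice F R Q ∧ F.IsConj P Q := by
  haveI : Finite R := finite_of_le (S := S) C.le
  induction hk : Nat.card R - Nat.card P using Nat.strong_induction_on generalizing P with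
  | _ k ih =>
  haveI := finite_of_le (hP.1.trans C.le)
  rcases eq_or_lt_of_le hP.1 with rfl | hlt
  · exact ⟨P, RNice.top, isConj_refl F C.le⟩
  obtain ⟨Q₁, hPQ₁, hQ₁R, hQ₁⟩ := C.exists_fn hP
  have hQ₁m := C.mem_conj hP hPQ₁ hQ₁R
  have hQ₁lt : Q₁ < R := lt_of_le_of_ne hQ₁R fun he => hlt.ne
    (Subgroup.eq_of_le_of_card_ge hP.1 (by rw [isConj_card hPQ₁, he]))
  set R₁ := normalizerIn R Q₁ with hR₁
  have hR₁R : R₁ ≤ R := normalizerIn_le R Q₁
  haveI := finite_of_le (hR₁R.trans C.le)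
  have hQR : Q₁ < R₁ := lt_normalizerIn (C.pg.to_le C.le) hQ₁lt
  have hR₁m : Mem T R R₁ := hQ₁m.mono hQR.le hR₁R
  have hcard : Nat.card R - Nat.card R₁ < k := by
    rw [← hk, isConj_card hPQ₁]
    have a1 := card_lt_of_lt hQR
    have a2 : Nat.card R₁ ≤ Nat.card R := Subgroup.card_le_of_le hR₁R
    omega
  obtain ⟨R', hR', hR₁R'⟩ := ih _ hcard hR₁m rfl
  obtain ⟨θ, hθ, hθN, hθR⟩ := exists_normalizer_map_fullyNormalized C.pg C.sat (hR'.fn C) hR₁R'
  have hN : normalizerIn S Q₁ ≤ normalizerIn S R₁ := by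
    intro g hg
    refine ⟨hg.1, mem_normalizer_of_conj_mem_finite fun y hy => ⟨?_, ?_⟩⟩
    · exact (Subgroup.mem_normalizer_iff.1 (C.normalizer_le hQ₁m hg.1 hg.2) y).1 hy.1
    · exact Subgroup.mul_mem _ (Subgroup.mul_mem _ hg.2 hy.2) (Subgroup.inv_mem _ hg.2)
  have hθ' := restrict_mem F hθ hN
  set θ' := θ.comp (Subgroup.inclusion hN)
  have hQN : Q₁ ≤ normalizerIn S Q₁ := le_normalizerIn hQ₁.1
  set Q := (θ'.comp (Subgroup.inclusion hQN)).range with hQ
  have hconj : F.IsConj Q₁ Q := ⟨_, restrict_mem F hθ' hQN, rfl⟩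
  have hQR' : Q ≤ R' := by
    rintro _ ⟨q, rfl⟩
    exact hθR.le ⟨_, (hQR.le q.2 : (q : Ω) ∈ R₁), rfl⟩
  have hQT : Q ≤ R := hQR'.trans hR'.le
  haveI := finite_of_le (hQT.trans C.le)
  have hcard' : Nat.card (normalizerIn S Q₁) ≤ Nat.card (normalizerIn S Q) :=
    card_le_of_hom F hθ' le_rfl (normalizerIn_le _ _) fun g hg =>
      ⟨hom_apply_mem F hθ' _, apply_mem_normalizer θ' hQN rfl _ hg.2⟩
  have hQf : F.IsFullyNormalized Q :=
    ⟨isConj_le_right hconj, fun X hX => (hQ₁.2 X (isConj_trans hconj hX)).trans hcard'⟩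
  have hQm : Mem T R Q := C.mem_conj hQ₁m hconj hQT
  have hRN : R' ≤ normalizerIn R Q := by
    intro y hy
    obtain ⟨x, hx, hxR, rfl⟩ := (mem_map_subgroupOf θ y).1 (hθR.ge hy)
    have hxN : x ∈ normalizerIn S Q₁ := ⟨C.le (hR₁R hxR), hxR.2⟩
    exact ⟨hR'.le hy, apply_mem_normalizer θ' hQN rfl ⟨x, hxN⟩ hxR.2⟩
  have hcardN : Nat.card (normalizerIn R Q) ≤ Nat.card R₁ := by
    obtain ⟨χ, hχ, hχN, hχQ⟩ := exists_normalizer_map_fullyNormalized C.pg C.sat hQ₁ (isConj_symm hconj)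
    exact card_le_of_hom F hχ (inf_le_inf_right _ C.le) (hR₁R.trans C.le) fun g hg =>
      ⟨C.apply_mem' hχ (le_normalizerIn hQf.1) hQm (extend_restrict_range _ hχQ) hQ₁R hg.1, (hχN _).2⟩
  haveI := finite_of_le ((normalizerIn_le R Q).trans C.le)
  have hRe : R' = normalizerIn R Q :=
    Subgroup.eq_of_le_of_card_ge hRN (hcardN.trans (isConj_card hR₁R').le)
  have hQlt : Q < R := lt_of_le_of_ne hQT fun he => hQ₁lt.ne
    (Subgroup.eq_of_le_of_card_ge hQ₁R (by rw [isConj_card hconj, he]))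
  exact ⟨Q, RNice.step hQlt hQf (hRe ▸ hR'), isConj_trans hPQ₁ hconj⟩

/-! ### The groups of automorphisms -/

/-- Generated by the elements of order prime to `p` of `gAut` and by `Aut_R(Q)`. -/
def bGroup (p : ℕ) (F : FusionSystem S) (E : FusionSystem T) (R Q : Subgroup Ω) : Subgroup (MulAut Q) :=
  opOf p (gAut F E Q) ⊔ autInducedBy R Q

theorem autT_le_gAut (C : Data p F E R) {Q : Subgroup Ω} (hQ : Q ≤ S) : autInducedBy T Q ≤ gAut F E Q := by
  intro a ha
  obtain ⟨t, ht, hte⟩ := (mem_autInducedBy_iff _).1 ha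
  have htn := mem_normalizer_of_autInduced hte
  have htS := C.closed.1 ht
  have ht0 : t ∈ Subgroup.normalizer ((Q ⊓ T : Subgroup Ω) : Set Ω) := Subgroup.inf_normalizer_le_normalizer_inf
    ⟨htn, Subgroup.le_normalizer ht⟩
  obtain ⟨c, hc, hce⟩ := exists_conjAut (K := T) (P := Q ⊓ T) ht ht0
  refine ⟨⟨autInducedBy_le_autGroup F hQ (autInducedBy_mono C.closed.1 ha), fun q => ?_⟩,
    c, autInducedBy_le_autGroup E inf_le_right hc, fun x => Subtype.ext ((hte _).trans (hce x).symm)⟩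
  rw [hte]
  have h1 := (Subgroup.mem_normalizer_iff.1 (stronglyClosed_le_normalizer C.closed (S.inv_mem (hQ q.2))) _).1 ht
  have := T.mul_mem h1 (T.inv_mem ht)
  simpa [mul_assoc] using this

/-- Elements of order prime to `p` of `gAut ⊔ Aut_R(Q)` lie in `gAut`. -/
theorem gAut_of_coprime (C : Data p F E R) {Q : Subgroup Ω} (hQ : Mem T R Q) {x : MulAut Q}
    (hx : x ∈ gAut F E Q ⊔ autInducedBy R Q) (hco : (orderOf x).Coprime p) : x ∈ gAut F E Q := by
  have hQS := hQ.1.trans C.le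
  haveI := finite_of_le hQS
  set G := gAut F E Q
  have hn : F.autGroup Q ≤ Subgroup.normalizer (G : Set (MulAut Q)) := fun g hg =>
    mem_normalizer_of_conj_mem_finite fun y hy => conj_mem_gAut C.inv hQS hg hy
  set I := autInducedBy Q Q
  have hIF : I ≤ F.autGroup Q := (autInducedBy_mono hQS).trans (autInducedBy_le_autGroup F hQS)
  have hle : G ⊔ autInducedBy R Q ≤ G ⊔ I := by
    refine sup_le le_sup_left fun a ha => ?_
    obtain ⟨r, hr, hre⟩ := (mem_autInducedBy_iff _).1 ha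
    obtain ⟨q, hq, t, ht, rfl⟩ := exists_mul_of_mem_sup C.closed hQS (hQ.2 hr)
    have hrn := mem_normalizer_of_autInduced hre
    have htn : t ∈ Subgroup.normalizer (Q : Set Ω) := by
      have := Subgroup.mul_mem _ (Subgroup.inv_mem _ (Subgroup.le_normalizer hq)) hrn
      rwa [inv_mul_cancel_left] at this
    obtain ⟨cq, hcq, hcqe⟩ := exists_conjAut (K := Q) (P := Q) hq (Subgroup.le_normalizer hq)
    obtain ⟨ct, hct, hcte⟩ := exists_conjAut (K := T) (P := Q) ht htn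
    have : a = cq * ct := MulEquiv.ext fun y => Subtype.ext (by
      rw [MulAut.mul_apply, hre, hcqe, hcte]; group)
    rw [this]
    exact Subgroup.mul_mem _ (Subgroup.mem_sup_right hcq) (Subgroup.mem_sup_left (autT_le_gAut C hQS hct))
  have hx' : x ∈ I ⊔ G := by rw [sup_comm]; exact hle hx
  rw [← SetLike.mem_coe, Subgroup.coe_mul_of_left_le_normalizer_right I G (hIF.trans hn)] at hx'
  obtain ⟨i, hi, g, hg, rfl⟩ := hx'
  obtain ⟨j, hj⟩ := autInducedBy_isPGroup (P := Q) (C.pg.to_le hQS) ⟨i⁻¹, I.inv_mem hi⟩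
  have hgF := gAut_le F E Q hg
  refine mem_of_coprime_mul_pElement hn (Subgroup.mul_mem _ (hIF hi) hgF) (Subgroup.inv_mem _ (hIF hi)) hco
    ⟨j, congrArg Subtype.val hj⟩ ?_
  exact (Subgroup.mem_normalizer_iff.1 (hn (hIF hi)) g).1 hg

/-- An element of order prime to `p` of `gAut` at `Q` stabilizing `Aut_M(Q)` extends to one at `M`. -/
theorem exists_gAut_extension (C : Data p F E R) {Q M : Subgroup Ω} (hQc : Hc F E R Q)
    (hQ : F.IsFullyCentralized Q) (hQM : Q ≤ M) (hM : M ≤ normalizerIn R Q) {x : MulAut Q}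
    (hx : x ∈ gAut F E Q) (hco : (orderOf x).Coprime p)
    (hn : ∀ m ∈ M, ∃ m' ∈ M, ∀ (q : Q) (h : m * (q : Ω) * m⁻¹ ∈ Q),
      ((x ⟨m * q * m⁻¹, h⟩ : Q) : Ω) = m' * ((x q : Q) : Ω) * m'⁻¹) :
    ∃ ξ ∈ gAut F E M, (orderOf ξ).Coprime p ∧ Rel hQM ξ x := by
  obtain ⟨hEs, -, hsub, hT, -, -⟩ := id C.n.1
  have hQS := hQ.1
  have hMR : M ≤ R := hM.trans (normalizerIn_le _ _)
  have hMS := hMR.trans C.le
  haveI := finite_of_le hQS
  haveI := finite_of_le hMS
  obtain ⟨⟨hxF, hxT⟩, e, he, hxe⟩ := hx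
  have hxh := (equivHom_autGroup F hQS).1 hxF
  obtain ⟨χ, hχ, hχe⟩ := (fullyCentralized_receptive C.pg C.sat hQ).2 Q _ hxh (equivHom_range x)
  have hMe : M ≤ extender S Q (equivHom x) := fun m hm => by
    obtain ⟨m', hm', hm'e⟩ := hn m hm
    exact Subgroup.subset_closure ⟨hMS hm, (hM hm).2, m', hMS hm', fun q h => hm'e q h⟩
  have hχM := restrict_mem F hχ hMe
  set φ := χ.comp (Subgroup.inclusion hMe) with hφ
  have hφQ : ∀ (q : Q) (h : (q : Ω) ∈ M), φ ⟨q, h⟩ = ((x q : Q) : Ω) := fun q h => hχe q q.2 (hMe h)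
  have hφR : ∀ m : M, φ m ∈ R := fun m => C.apply_mem hχM hQM hQc.1
    (fun q => by
      rw [show Subgroup.inclusion hQM q = ⟨(q : Ω), hQM q.2⟩ from rfl, hφQ]
      exact hQc.le (x q).2) (hMR m.2)
  have hinv : ∀ m : M, φ m ∈ M := by
    intro m
    obtain ⟨m', hm', hm'e⟩ := hn m m.2
    have hd : m'⁻¹ * φ m ∈ centralizerIn R Q := by
      refine ⟨R.mul_mem (R.inv_mem (hMR hm')) (hφR m), Subgroup.mem_centralizer_iff.2 fun q hq => ?_⟩
      obtain ⟨q', hq'⟩ := x.surjective ⟨q, hq⟩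
      have hm1 := (Subgroup.mem_normalizer_iff.1 (hM m.2).2 q').1 q'.2
      have e1 := hm'e q' hm1
      rw [← hφQ _ (hQM hm1), map_apply_conj φ m.2 (hQM q'.2), hφQ q' _, hq'] at e1
      change φ m * q * (φ m)⁻¹ = m' * q * m'⁻¹ at e1
      calc q * (m'⁻¹ * φ m) = m'⁻¹ * (m' * q * m'⁻¹) * φ m := by group
        _ = m'⁻¹ * (φ m * q * (φ m)⁻¹) * φ m := by rw [e1]
        _ = m'⁻¹ * φ m * q := by group
    have := M.mul_mem hm' (hQM (hQc.cent_le C hd))
    rwa [mul_inv_cancel_left] at this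
  obtain ⟨ξ₀, hξ₀, hξ₀e⟩ := exists_aut_of_invariant F hχM hinv
  have hξ₀x : Rel hQM ξ₀ x := fun q => Subtype.ext ((hξ₀e _).trans (hφQ q _))
  obtain ⟨n, hn', hne⟩ := exists_pprime_exp p ξ₀ x hco
  set ξ := ξ₀ ^ n with hξdef
  have hξx : Rel hQM ξ x := by rw [← hne]; exact hξ₀x.pow n
  have hξF : ξ ∈ F.autGroup M := Subgroup.pow_mem _ hξ₀ n
  have hξh := (equivHom_autGroup F hMS).1 hξF
  have hξT : ξ ∈ modTriv T M := fun m => by
    obtain ⟨q, hq, t, ht, hmqt⟩ := exists_mul_of_mem_sup C.closed hQS (hQc.1.2 (hMR m.2))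
    have htM : t ∈ M := by
      have := M.mul_mem (M.inv_mem (hQM hq)) m.2
      rwa [hmqt, inv_mul_cancel_left] at this
    rw [show m = ⟨q, hQM hq⟩ * ⟨t, htM⟩ from Subtype.ext hmqt, map_mul, Subgroup.coe_mul, Subgroup.coe_mul,
      hξx.apply ⟨q, hq⟩]
    have h1 := stronglyClosed_apply_mem C.closed hξh ⟨t, htM⟩ ht
    have := T.mul_mem (T.mul_mem (T.inv_mem ht) (hxT ⟨q, hq⟩)) h1
    simpa [mul_assoc] using this
  -- the restriction to `M ∩ T`
  haveI : Finite T := finite_of_le (S := S) hT.1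
  have hTp : IsPGroup p T := C.pg.to_le hT.1
  set M0 := M ⊓ T with hM0
  have hQM0 : (Q ⊓ T : Subgroup Ω) ≤ M0 := inf_le_inf_right T hQM
  have hM0M : M0 ≤ M := inf_le_left
  have hM0T : M0 ≤ T := inf_le_right
  haveI := finite_of_le (hM0M.trans hMS)
  obtain ⟨β, hβF, hξβ⟩ := exists_rel F hM0M hMS hξF fun y hy =>
    ⟨(ξ y).2, stronglyClosed_apply_mem C.closed hξh y hy.2⟩
  have hβe : Rel hQM0 β e := rel_descend hξβ (rel_trans hξx hxe)
  have hn0 : M0 ≤ Subgroup.normalizer ((Q ⊓ T : Subgroup Ω) : Set Ω) := fun g hg =>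
    Subgroup.inf_normalizer_le_normalizer_inf ⟨(hM hg.1).2, Subgroup.le_normalizer hg.2⟩
  obtain ⟨φ₁, hφ₁, hφ₁e⟩ := (fullyCentralized_receptive hTp hEs (KerClass.centric_fullyCentralized hQc.2.1)).2 (Q ⊓ T : Subgroup Ω) _
    ((equivHom_autGroup E inf_le_right).1 he) (equivHom_range e)
  have hβv : ∀ (u : (Q ⊓ T : Subgroup Ω)) (h : (u : Ω) ∈ M0), ((β ⟨u, h⟩ : M0) : Ω) = (e u : (Q ⊓ T : Subgroup Ω)) := fun u _ => hβe.apply u
  have hNe : M0 ≤ extender T (Q ⊓ T : Subgroup Ω) (equivHom e) := fun g hg =>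
    Subgroup.subset_closure ⟨hg.2, hn0 hg, (β ⟨g, hg⟩ : M0), hM0T (β _).2, fun u hu => by
      rw [equivHom_apply, equivHom_apply, ← hβv ⟨_, hu⟩ (hQM0 hu), ← hβv u (hQM0 u.2), ← Subgroup.coe_inv,
        ← Subgroup.coe_mul, ← Subgroup.coe_mul, ← map_inv, ← map_mul, ← map_mul]
      exact congrArg (fun w : M0 => ((β w : M0) : Ω)) (Subtype.ext rfl)⟩
  set f := φ₁.comp (Subgroup.inclusion hNe) with hfdef
  have hf : f ∈ E.Hom M0 := restrict_mem E hφ₁ hNe
  have hfP : ∀ (u : (Q ⊓ T : Subgroup Ω)) (h : (u : Ω) ∈ M0), f ⟨u, h⟩ = ((β ⟨u, h⟩ : M0) : Ω) := fun u h =>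
    (hφ₁e u u.2 (hNe h)).trans (hβv u h).symm
  have hfN : ∀ y : M0, f y ∈ M0 := by
    intro y
    have hd : ((β y : M0) : Ω)⁻¹ * f y ∈ (Q ⊓ T : Subgroup Ω) := by
      refine mem_of_centralizes hQc.2.1 (T.mul_mem (T.inv_mem (hM0T (β y).2)) (hom_apply_mem E hf y)) fun w hw => ?_
      obtain ⟨u, hu⟩ := e.surjective ⟨w, hw⟩
      have hy : (y : Ω) * u * (y : Ω)⁻¹ ∈ (Q ⊓ T : Subgroup Ω) := (Subgroup.mem_normalizer_iff.1 (hn0 y.2) u).1 u.2
      have e1 := hfP ⟨_, hy⟩ (hQM0 hy)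
      rw [map_apply_conj f y.2 (hQM0 u.2), hfP u _, hβv u _, hu] at e1
      have e2 : ((β ⟨(y : Ω) * u * (y : Ω)⁻¹, hQM0 hy⟩ : M0) : Ω) = ((β y : M0) : Ω) * w * ((β y : M0) : Ω)⁻¹ := by
        rw [show (⟨(y : Ω) * u * (y : Ω)⁻¹, hQM0 hy⟩ : M0) = y * ⟨u, hQM0 u.2⟩ * y⁻¹ from Subtype.ext rfl, map_mul,
          map_mul, map_inv, Subgroup.coe_mul, Subgroup.coe_mul, Subgroup.coe_inv, hβv u _, hu]
      change f y * w * (f y)⁻¹ = ((β ⟨(y : Ω) * u * (y : Ω)⁻¹, hQM0 hy⟩ : M0) : Ω) at e1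
      rw [e2] at e1
      calc w * (((β y : M0) : Ω)⁻¹ * f y) = ((β y : M0) : Ω)⁻¹ * (((β y : M0) : Ω) * w * ((β y : M0) : Ω)⁻¹) * f y := by group
        _ = ((β y : M0) : Ω)⁻¹ * (f y * w * (f y)⁻¹) * f y := by rw [e1]
        _ = ((β y : M0) : Ω)⁻¹ * f y * w := by group
    have := M0.mul_mem (β y).2 (hQM0 hd)
    rwa [mul_inv_cancel_left] at this
  obtain ⟨α, hα, hαe⟩ := exists_aut_of_invariant E hf hfN
  set δ := β⁻¹ * α with hδ
  have hαP : Rel hQM0 α e := fun u => Subtype.ext (((hαe _).trans (hfP u (hQM0 u.2))).trans (hβv u (hQM0 u.2)))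
  have hδP : Rel hQM0 δ 1 := by rw [← inv_mul_cancel e]; exact hβe.inv.mul hαP
  obtain ⟨j, hj⟩ := pElement_of_disp (hTp.to_le hM0T) hQM0 hδP fun y =>
    mem_of_centralizes hQc.2.1 (T.mul_mem (T.inv_mem (hM0T y.2)) (hM0T (δ y).2))
      (Subgroup.mem_centralizer_iff.1 (disp_centralizes hQM0 hn0 hδP y))
  have hnorm : F.autGroup M0 ≤ Subgroup.normalizer (E.autGroup M0 : Set (MulAut M0)) := fun a ha =>
    mem_normalizer_of_conj_mem_finite fun b hb => conj_mem_aut C.n.1 hM0T ha hb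
  have hβE : β ∈ E.autGroup M0 := by
    refine mem_of_coprime_mul_pElement hnorm hβF
      (Subgroup.mul_mem _ (Subgroup.inv_mem _ hβF) (autGroup_mono hsub M0 hα))
      (Nat.Coprime.coprime_dvd_left (rel_orderOf_dvd hξβ) hn') ⟨j, hj⟩ ?_
    rw [mul_inv_cancel_left]
    exact hα
  exact ⟨ξ, ⟨⟨hξF, hξT⟩, β, hβE, hξβ⟩, hn', hξx⟩

/-! ### The intersection with `Aut_S(Q)` -/

/-- `O^p(gAut)` meets `Aut_S(Q)` inside `Aut_T(Q)`. -/
theorem opOf_inf_autS (C : Data p F E R) {Q : Subgroup Ω} (hQc : E.IsCentric (Q ⊓ T))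
    (hQ : F.IsFullyNormalized Q) {x : MulAut Q} (hx : x ∈ opOf p (gAut F E Q)) (hxS : x ∈ autInducedBy S Q) :
    x ∈ autInducedBy T Q := by
  have hQS := hQ.1
  haveI := finite_of_le hQS
  set J := gAut F E Q with hJ
  have hn : F.autGroup Q ≤ Subgroup.normalizer (J : Set (MulAut Q)) := fun g hg =>
    mem_normalizer_of_conj_mem_finite fun y hy => conj_mem_gAut C.inv hQS hg hy
  have hW := (isSyl_of_fullyAutomized (fullyNormalized_imp C.pg C.sat hQ).2).inf_normal (gAut_le F E Q) hn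
  obtain ⟨P, hP⟩ := hW.toSylow
  rw [opOf_eq_map] at hx
  obtain ⟨y, hy, rfl⟩ := hx
  have hy' : y ∈ (groupFusionSystem (P : Subgroup J)).hyperfocalSubgroup p := by
    rw [group_hyperfocal P]
    refine ⟨?_, hy⟩
    rw [hP]
    exact ⟨hxS, y.2⟩
  suffices h : (groupFusionSystem (P : Subgroup J)).hyperfocalSubgroup p ≤
      (autInducedBy T Q).comap J.subtype from h hy'
  refine (Subgroup.closure_le _).2 ?_
  rintro _ ⟨X, α, w, hX, hα, rfl⟩
  set A' := (autInducedBy T Q).comap J.subtype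
  suffices hres : pResidual p ((groupFusionSystem (P : Subgroup J)).autGroup X) ≤
      (modTriv A' X).comap ((groupFusionSystem (P : Subgroup J)).autGroup X).subtype from hres hα w
  refine (Subgroup.closure_le _).2 fun β hβ w => ?_
  obtain ⟨k, -, hke⟩ := (mem_autInducedBy_iff (β : MulAut X)).1 ((group_autGroup P hX).le β.2)
  haveI : Finite X := finite_of_le (S := (P : Subgroup J)) hX
  obtain ⟨n, hn', hne⟩ := exists_pprime_exp p k (β : MulAut X) (by rwa [Subgroup.orderOf_coe])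
  have hpow : ∀ (j : ℕ) (v : X), ((((β : MulAut X) ^ j) v : X) : J) = k ^ j * (v : J) * (k ^ j)⁻¹ := by
    intro j
    induction j with
    | zero => intro v; simp
    | succ j ih => intro v; rw [pow_succ', MulAut.mul_apply, hke, ih, pow_succ']; group
  have hβw := hpow n w
  rw [hne] at hβw
  show (((w : J)⁻¹ * ((β : MulAut X) w : X) : J) : MulAut Q) ∈ autInducedBy T Q
  have hwS : ((w : J) : MulAut Q) ∈ autInducedBy S Q := (hP.le (hX w.2)).1
  have hαS : ((((β : MulAut X) w : X) : J) : MulAut Q) ∈ autInducedBy S Q := (hP.le (hX (SetLike.coe_mem _))).1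
  rw [hβw] at hαS ⊢
  exact focal C.pg C.n hQ hQc (k ^ n).2 (by rwa [Subgroup.orderOf_coe]) (w : J).2 hwS hαS

theorem autS_conj_autR (C : Data p F E R) {Q : Subgroup Ω} (hQ : Mem T R Q) {a b : MulAut Q}
    (ha : a ∈ autInducedBy S Q) (hb : b ∈ autInducedBy R Q) : a * b * a⁻¹ ∈ autInducedBy R Q := by
  obtain ⟨g, hg, hge⟩ := (mem_autInducedBy_iff _).1 ha
  obtain ⟨t, ht, hte⟩ := (mem_autInducedBy_iff _).1 hb
  refine (mem_autInducedBy_iff _).2 ⟨g * t * g⁻¹,
    (Subgroup.mem_normalizer_iff.1 (C.normalizer_le hQ hg (mem_normalizer_of_autInduced hge)) t).1 ht, fun q => ?_⟩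
  have h1 := hge (a⁻¹ q)
  rw [MulAut.apply_inv_self] at h1
  rw [MulAut.mul_apply, MulAut.mul_apply, hge, hte, h1]
  group

theorem bGroup_le (C : Data p F E R) {Q : Subgroup Ω} (hQ : Q ≤ S) : bGroup p F E R Q ≤ F.autGroup Q :=
  sup_le ((opOf_le _).trans (gAut_le F E Q))
    ((autInducedBy_mono C.le).trans (autInducedBy_le_autGroup F hQ))

theorem autR_le_bGroup (p : ℕ) (F : FusionSystem S) (E : FusionSystem T) (R Q : Subgroup Ω) :
    autInducedBy R Q ≤ bGroup p F E R Q := le_sup_right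

/-- `bGroup` is normal in the automizer. -/
theorem conj_mem_bGroup (C : Data p F E R) {Q : Subgroup Ω} (hQc : Hc F E R Q)
    (hQ : F.IsFullyNormalized Q) {g : MulAut Q} (hg : g ∈ F.autGroup Q) {b : MulAut Q}
    (hb : b ∈ bGroup p F E R Q) : g * b * g⁻¹ ∈ bGroup p F E R Q := by
  have hQS := hQ.1
  haveI := finite_of_le hQS
  obtain ⟨hQfc, hQA⟩ := fullyNormalized_imp C.pg C.sat hQ
  set G := gAut F E Q
  set O := opOf p G with hO
  set A := autInducedBy R Q with hA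
  set J := G ⊔ A with hJ
  have hAF : A ≤ F.autGroup Q := (autInducedBy_mono C.le).trans (autInducedBy_le_autGroup F hQS)
  have hJF : J ≤ F.autGroup Q := sup_le (gAut_le F E Q) hAF
  have hO' : ∀ h ∈ F.autGroup Q, ∀ y ∈ O, h * y * h⁻¹ ∈ O := fun h hh y hy =>
    conj_mem_opOf (fun z hz => conj_mem_gAut C.inv hQS hh hz) hy
  have hAJ : ∀ h ∈ F.autGroup Q, ∀ y ∈ A, h * y * h⁻¹ ∈ J := by
    intro h hh y hy
    obtain ⟨r, hr, hre⟩ := (mem_autInducedBy_iff _).1 hy
    obtain ⟨q, hq, t, ht, rfl⟩ := exists_mul_of_mem_sup C.closed hQS (hQc.1.2 hr)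
    have hrn := mem_normalizer_of_autInduced hre
    have htn : t ∈ Subgroup.normalizer (Q : Set Ω) := by
      have := Subgroup.mul_mem _ (Subgroup.inv_mem _ (Subgroup.le_normalizer hq)) hrn
      rwa [inv_mul_cancel_left] at this
    obtain ⟨cq, -, hcqe⟩ := exists_conjAut (K := Q) (P := Q) hq (Subgroup.le_normalizer hq)
    obtain ⟨ct, hct, hcte⟩ := exists_conjAut (K := T) (P := Q) ht htn
    have : y = cq * ct := MulEquiv.ext fun z => Subtype.ext (by
      rw [MulAut.mul_apply, hre, hcqe, hcte]; group)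
    rw [this, show h * (cq * ct) * h⁻¹ = (h * cq * h⁻¹) * (h * ct * h⁻¹) by group]
    refine Subgroup.mul_mem _ (Subgroup.mem_sup_right ?_)
      (Subgroup.mem_sup_left (conj_mem_gAut C.inv hQS hh (autT_le_gAut C hQS hct)))
    refine (mem_autInducedBy_iff _).2 ⟨(h ⟨q, hq⟩ : Q), hQc.le (h _).2, fun z => ?_⟩
    obtain ⟨z, rfl⟩ := h.surjective z
    rw [MulAut.mul_apply, MulAut.mul_apply, MulAut.inv_apply_self, ← Subgroup.coe_inv, ← Subgroup.coe_mul,
      ← Subgroup.coe_mul, ← map_inv, ← map_mul, ← map_mul]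
    exact congrArg (fun w : Q => ((h w : Q) : Ω)) (Subtype.ext (hcqe z))
  have hn : F.autGroup Q ≤ Subgroup.normalizer (J : Set (MulAut Q)) := fun h hh =>
    mem_normalizer_of_conj_mem_finite fun y hy => by
      have : J.map (MulAut.conj h).toMonoidHom ≤ J := by
        rw [hJ, Subgroup.map_sup]
        refine sup_le ?_ ?_
        · rintro _ ⟨z, hz, rfl⟩
          exact Subgroup.mem_sup_left (conj_mem_gAut C.inv hQS hh hz)
        · rintro _ ⟨z, hz, rfl⟩
          exact hAJ h hh z hz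
      exact this ⟨y, hy, rfl⟩
  have hW := (isSyl_of_fullyAutomized hQA).inf_normal hJF hn
  -- the elements of `J` normalize `bGroup`
  have hJn : J ≤ Subgroup.normalizer ((O ⊔ A : Subgroup (MulAut Q)) : Set (MulAut Q)) := by
    refine (le_sylow_sup_opOf hW).trans (sup_le ?_ ((Subgroup.closure_le _).2 fun y hy =>
      Subgroup.le_normalizer (Subgroup.mem_sup_left (mem_opOf (gAut_of_coprime C hQc.1 hy.1 hy.2) hy.2))))
    intro a ha
    refine mem_normalizer_of_conj_mem_finite fun y hy => ?_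
    have : (O ⊔ A).map (MulAut.conj a).toMonoidHom ≤ O ⊔ A := by
      rw [Subgroup.map_sup]
      refine sup_le_sup ?_ ?_
      · rintro _ ⟨z, hz, rfl⟩
        exact hO' a (autInducedBy_le_autGroup F hQS ha.1) z hz
      · rintro _ ⟨z, hz, rfl⟩
        exact autS_conj_autR C hQc.1 ha.1 hz
    exact this ⟨y, hy, rfl⟩
  have hB : bGroup p F E R Q = O ⊔ A := rfl
  rw [hB] at hb ⊢
  have : (O ⊔ A).map (MulAut.conj g).toMonoidHom ≤ O ⊔ A := by
    rw [Subgroup.map_sup]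
    refine sup_le ?_ ?_
    · rintro _ ⟨z, hz, rfl⟩
      exact Subgroup.mem_sup_left (hO' g hg z hz)
    rintro _ ⟨x, hx, rfl⟩
    show g * x * g⁻¹ ∈ O ⊔ A
    have hxp : IsPGroup p (Subgroup.zpowers (g * x * g⁻¹)) := by
      have h1 : IsPGroup p (A.map (MulAut.conj g).toMonoidHom) :=
        ((autInducedBy_isPGroup (C.pg.to_le C.le)).map _)
      exact h1.to_le (Subgroup.zpowers_le.2 ⟨x, hx, rfl⟩)
    obtain ⟨j, hj, hjW⟩ := hW.exists_conj hxp (Subgroup.zpowers_le.2 (hAJ g hg x hx))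
    have hw := hjW ⟨_, Subgroup.mem_zpowers _, rfl⟩
    obtain ⟨t, ht, hte⟩ := (mem_autInducedBy_iff _).1 hx
    have htn := mem_normalizer_of_autInduced hte
    have hm : equivHom (j * g) ∈ F.Hom Q := (equivHom_autGroup F hQS).1 (Subgroup.mul_mem _ (hJF hj) hg)
    obtain ⟨χ, hχ, hag⟩ := (fullyCentralized_receptive C.pg C.sat hQfc).2 Q _ hm (equivHom_range _)
    obtain ⟨v, hv, hve⟩ := (mem_autInducedBy_iff _).1 hw.1
    have hval : ∀ q : Q, (MulAut.conj j (g * x * g⁻¹)) ((j * g) q) = (j * g) (x q) := fun q => by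
      simp [MulAut.conj_apply, MulAut.mul_apply]
    have htE : t ∈ extender S Q (equivHom (j * g)) := Subgroup.subset_closure ⟨C.le ht, htn, v, hv, fun q hq => by
      rw [equivHom_apply, equivHom_apply, show (⟨t * q * t⁻¹, hq⟩ : Q) = x q from Subtype.ext (hte q).symm,
        ← hval]
      exact hve _⟩
    have ht' : χ ⟨t, htE⟩ ∈ R := C.apply_mem hχ (le_extender F hm) hQc.1
      (fun q => by
        rw [show χ (Subgroup.inclusion (le_extender F hm) q) = _ from hag q q.2 _]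
        exact hQc.le ((j * g) q).2) ht
    have hwA : MulAut.conj j (g * x * g⁻¹) ∈ A := by
      refine (mem_autInducedBy_iff _).2 ⟨_, ht', fun q => ?_⟩
      obtain ⟨q, rfl⟩ := (j * g).surjective q
      have hqE : ∀ w : Q, (w : Ω) ∈ extender S Q (equivHom (j * g)) := fun w => le_extender F hm w.2
      have e1 : ∀ w : Q, ((((j * g) w : Q)) : Ω) = χ ⟨w, hqE w⟩ := fun w => (hag w w.2 (hqE w)).symm
      rw [hval, e1, e1, ← map_inv, ← map_mul, ← map_mul]
      exact congrArg χ (Subtype.ext (hte q))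
    have h2 := (Subgroup.mem_normalizer_iff.1 (hJn (Subgroup.inv_mem _ hj)) _).1
      (Subgroup.mem_sup_right (S := O) hwA)
    simpa [MulAut.conj_apply, mul_assoc] using h2
  exact this ⟨b, hb, rfl⟩

/-- `bGroup` meets `Aut_S(Q)` in `Aut_R(Q)`. -/
theorem bGroup_inf_autS (C : Data p F E R) {Q : Subgroup Ω} (hQc : Hc F E R Q) (hQ : F.IsFullyNormalized Q)
    {b : MulAut Q} (hb : b ∈ bGroup p F E R Q) (hbS : b ∈ autInducedBy S Q) : b ∈ autInducedBy R Q := by
  have hQS := hQ.1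
  haveI := finite_of_le hQS
  set O := opOf p (gAut F E Q)
  set A := autInducedBy R Q with hA
  have hn : A ≤ Subgroup.normalizer (O : Set (MulAut Q)) := by
    intro a ha
    refine mem_normalizer_of_conj_mem_finite fun y hy => ?_
    exact conj_mem_opOf (fun z hz => conj_mem_gAut C.inv hQS
      (autInducedBy_le_autGroup F hQS (autInducedBy_mono C.le ha)) hz) hy
  have hb' : b ∈ A ⊔ O := by rw [sup_comm]; exact hb
  rw [← SetLike.mem_coe, Subgroup.coe_mul_of_left_le_normalizer_right A O hn] at hb'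
  obtain ⟨a, ha, o, ho, rfl⟩ := hb'
  have hoS : o ∈ autInducedBy S Q := by
    have := Subgroup.mul_mem _ (Subgroup.inv_mem _ (autInducedBy_mono C.le ha)) hbS
    rwa [inv_mul_cancel_left] at this
  exact A.mul_mem ha (autInducedBy_mono C.leT (opOf_inf_autS C hQc.2.1 hQ ho hoS))

theorem isSyl_bGroup (C : Data p F E R) {Q : Subgroup Ω} (hQc : Hc F E R Q) (hQ : F.IsFullyNormalized Q) :
    IsSyl p (autInducedBy R Q) (bGroup p F E R Q) := by
  haveI := finite_of_le hQ.1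
  have hn : F.autGroup Q ≤ Subgroup.normalizer (bGroup p F E R Q : Set (MulAut Q)) := fun g hg =>
    mem_normalizer_of_conj_mem_finite fun y hy => conj_mem_bGroup C hQc hQ hg hy
  have h := (isSyl_of_fullyAutomized (fullyNormalized_imp C.pg C.sat hQ).2).inf_normal (bGroup_le C hQ.1) hn
  have e : autInducedBy S Q ⊓ bGroup p F E R Q = autInducedBy R Q :=
    le_antisymm (fun x hx => bGroup_inf_autS C hQc hQ hx.2 hx.1)
      (le_inf (autInducedBy_mono C.le) (autR_le_bGroup p F E R Q))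
  rwa [e] at h

theorem bGroup_le_sup (p : ℕ) (F : FusionSystem S) (E : FusionSystem T) (R Q : Subgroup Ω) :
    bGroup p F E R Q ≤ gAut F E Q ⊔ autInducedBy R Q :=
  sup_le_sup_right (opOf_le _) _

end Cfsg.Agent.RelProd
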