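import Cfsg.Agent.Lib.RelProd.Local

/-!
# Classes of maps on subgroups between `Q` and `N_T(Q)` stabilizing `Q`
-/

set_option autoImplicit false
set_option linter.unusedSectionVars false
set_option linter.style.haveILetI false

namespace Cfsg.Agent.RelProd

open Cfsg Cfsg.FusionSystem Cfsg.Agent.FusionSys Cfsg.Agent.FusionSys.FocCent
  Cfsg.Agent.FusionSys.KerClass Cfsg.Agent.FusionMeet

variable {Ω : Type*} [Group Ω] {S T R : Subgroup Ω} {p : ℕ} [hp : Fact p.Prime] [Finite S]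
variable {F : FusionSystem S} {E : FusionSystem T}
variable {C : Data p F E R} {Q : Subgroup Ω}

/-- The statement proved by descending induction on `M`. -/
structure ClaimAt (X : Ctx C Q) (M : Subgroup Ω) (hQM : Q ≤ M) (hM : M ≤ normalizerIn R Q) : Prop where
  dres : dRes C (hM.trans (normalizerIn_le _ _)) ≤ gGroup C Q
  map : ∀ φ : M →* Ω, φ ∈ F.Hom M → ∀ g : MulAut Q, (∀ (q : Q) (h : (q : Ω) ∈ M), φ ⟨q, h⟩ = ((g q : Q) : Ω)) →
    ∀ l, Cls F (relSys C) M φ l → (g, l) ∈ lamGroup X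

/-- A subgroup fully normalized in the normalizer system is fully centralized. -/
theorem fullyCentralized_of_norm (X : Ctx C Q) {M : Subgroup Ω} (hQM : Q ≤ M)
    (hM : M ≤ normalizerIn R Q) (hMn : (normSystem F X.leS).IsFullyNormalized M) :
    F.IsFullyCentralized M := by
  set N := normSystem F X.leS
  haveI : Finite (normalizerIn S Q) := finite_of_le (normalizerIn_le S Q)
  have hNp : IsPGroup p (normalizerIn S Q) := C.pg.to_le (normalizerIn_le _ _)
  have hNsat := normalizerSystem_saturated C.pg C.sat X.fn N (normSystem_spec F X.leS)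
  have hMc := (fullyNormalized_imp hNp hNsat hMn).1
  have hMN : M ≤ normalizerIn S Q := hM.trans (inf_le_inf_right _ C.le)
  have hMS := hMN.trans (normalizerIn_le _ _)
  haveI := finite_of_le hMS
  haveI := finite_of_le X.leS
  refine ⟨hMS, ?_⟩
  rintro _ ⟨φ, hφ, rfl⟩
  set Q' := (φ.comp (Subgroup.inclusion hQM)).range
  obtain ⟨ψ, hψ, hψN, hψQ⟩ := exists_normalizer_map_fullyNormalized C.pg C.sat X.fn
    (isConj_symm (⟨_, restrict_mem F hφ hQM, rfl⟩ : F.IsConj Q Q'))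
  haveI : Finite Q' := finite_of_le (range_le F (restrict_mem F hφ hQM))
  have hX : ∀ x : M, φ x ∈ normalizerIn S Q' := fun x =>
    ⟨hom_apply_mem F hφ x, apply_mem_normalizer φ hQM rfl x (hMN x.2).2⟩
  set f := ψ.comp (φ.codRestrict (normalizerIn S Q') hX)
  have hf : f ∈ F.Hom M := F.comp_mem hφ hψ hX
  have hQ'S : Q' ≤ S := range_le F (restrict_mem F hφ hQM)
  have hfQ : ∀ q : Q, f (Subgroup.inclusion hQM q) ∈ Q := fun q =>
    hψQ.le ⟨⟨φ (Subgroup.inclusion hQM q), hX _⟩, ⟨q, rfl⟩, rfl⟩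
  obtain ⟨g, -, hg⟩ := exists_aut_of_invariant F (restrict_mem F hf hQM) hfQ
  have hfN : f ∈ N.Hom M := ⟨hf, hMN, fun x => hψN _, f.comp (Subgroup.inclusion (sup_le le_rfl hQM)),
    restrict_mem F hf _, fun x => rfl, (map_subgroupOf_eq_iff _ le_sup_right).2
      ⟨fun q => hfQ q, fun y hy => by
        obtain ⟨q, hq⟩ := g.surjective ⟨y, hy⟩
        exact ⟨q, (hg q).symm.trans (congrArg Subtype.val hq)⟩⟩⟩
  have h1 := hMc.2 f.range ⟨f, hfN, rfl⟩
  have h2 : Nat.card (centralizerIn (normalizerIn S Q) M) ≤ Nat.card (centralizerIn S M) := by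
    haveI := finite_of_le (centralizerIn_le S M)
    exact Subgroup.card_le_of_le (inf_le_inf_right _ (normalizerIn_le _ _))
  refine le_trans ?_ (h1.trans h2)
  have hle : φ.range ≤ normalizerIn S Q' := by rintro _ ⟨x, rfl⟩; exact hX x
  have hQ'r : Q' ≤ φ.range := by rintro _ ⟨x, rfl⟩; exact ⟨_, rfl⟩
  have hC : centralizerIn S φ.range ≤ normalizerIn S Q' :=
    (inf_le_inf_left S (Subgroup.centralizer_le hQ'r)).trans (centralizerIn_le_normalizerIn S Q')
  refine card_le_of_hom F hψ hC ((centralizerIn_le _ _).trans (normalizerIn_le _ _)) fun u hu => ⟨hψN _, ?_⟩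
  refine apply_mem_centralizer ψ hle ?_ _ hu.2
  refine le_antisymm ?_ ?_
  · rintro _ ⟨⟨_, x, rfl⟩, rfl⟩
    exact ⟨x, rfl⟩
  · rintro _ ⟨x, rfl⟩
    exact ⟨⟨φ x, x, rfl⟩, rfl⟩

/-- The full induction. -/
theorem claim (X : Ctx C Q) : ∀ (M : Subgroup Ω) (hQM : Q ≤ M) (hM : M ≤ normalizerIn R Q),
    Q < M → ClaimAt X M hQM hM := by
  have hQS := X.leS
  have hRT : normalizerIn R Q ≤ R := normalizerIn_le _ _
  have hRS := hRT.trans C.le
  have hRN : normalizerIn R Q ≤ normalizerIn S Q := inf_le_inf_right _ C.le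
  haveI := finite_of_le hQS
  haveI := finite_of_le hRS
  haveI : Finite ↥R := finite_of_le (S := S) C.le
  haveI : Finite (normalizerIn S Q) := finite_of_le (normalizerIn_le S Q)
  have hAI := relSys_autInvariant C
  have hNp : IsPGroup p (normalizerIn S Q) := C.pg.to_le (normalizerIn_le _ _)
  have hNsat := normalizerSystem_saturated C.pg C.sat X.fn (normSystem F hQS) (normSystem_spec F hQS)
  intro M
  induction hk : Nat.card ↥(normalizerIn R Q) - Nat.card M using Nat.strong_induction_on generalizing M with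
  | _ k ih =>
  intro hQM hM hlt
  rcases eq_or_lt_of_le hM with rfl | hMlt
  · refine ⟨X.R_dRes, fun φ hφ g hg l hl => ?_⟩
    have hrQ : (φ.comp (Subgroup.inclusion hQM)).range = Q := by
      ext y
      constructor
      · rintro ⟨q, rfl⟩
        show φ ⟨q, _⟩ ∈ Q
        rw [hg q]; exact (g q).2
      · intro hy
        obtain ⟨q, hq⟩ := g.surjective ⟨y, hy⟩
        exact ⟨q, (hg q _).trans (congrArg Subtype.val hq)⟩
    obtain ⟨ν, hν, hνe⟩ := exists_aut_of_invariant F hφ fun x =>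
      ⟨C.apply_mem' hφ hQM X.hc.1 hrQ X.hc.le (hRT x.2), apply_mem_normalizer φ hQM hrQ x x.2.2⟩
    exact lam_R_mem X hν (fun q => Subtype.ext ((hνe _).trans (hg q _))) (hl.congr hνe)
  haveI := finite_of_le (hM.trans hRS)
  have hbig : ∀ (A : Subgroup Ω) (hQA : Q ≤ A) (hA : A ≤ normalizerIn R Q),
      Nat.card M < Nat.card A → ClaimAt X A hQA hA := by
    intro A hQA hA hlt'
    refine ih _ ?_ A rfl hQA hA (lt_of_le_of_ne hQA fun he => ?_)
    · have : Nat.card A ≤ Nat.card ↥(normalizerIn R Q) := Subgroup.card_le_of_le hA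
      omega
    · have := card_lt_of_lt hlt
      rw [← he] at hlt'
      omega
  have hgrow : ∀ A : Subgroup Ω, A ≤ normalizerIn R Q → Nat.card A = Nat.card M →
      Nat.card M < Nat.card (normalizerIn (normalizerIn R Q) A) := by
    intro A hA hc
    haveI := finite_of_le (S := S) ((normalizerIn_le (normalizerIn R Q) A).trans hRS)
    have hAlt : A < normalizerIn R Q := lt_of_le_of_ne hA fun he => hMlt.ne
      (Subgroup.eq_of_le_of_card_ge hM (by rw [← hc, he]))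
    rw [← hc]
    exact card_lt_of_lt (lt_normalizerIn (C.pg.to_le hRS) hAlt)
  -- the representative
  have hMN : M ≤ normalizerIn S Q := hM.trans hRN
  obtain ⟨M0, hMM0, hM0⟩ := exists_fullyNormalized (normSystem F hQS) hMN
  have hQ0 : Q ≤ M0 := by
    obtain ⟨φ, ⟨hφ, -, -, ψ, hψ, e1, e2⟩, rfl⟩ := hMM0
    intro y hy
    obtain ⟨q, hq⟩ := ((map_subgroupOf_eq_iff ψ le_sup_right).1 e2).2 y hy
    refine ⟨⟨q, hQM q.2⟩, ?_⟩
    rw [← e1]
    exact (congrArg ψ (Subtype.ext rfl)).trans hq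
  have hM0R : M0 ≤ normalizerIn R Q := by
    obtain ⟨φ, ⟨hφ, -, hφN, ψ, hψ, e1, e2⟩, rfl⟩ := hMM0
    rintro _ ⟨x, rfl⟩
    refine ⟨C.apply_mem hφ hQM X.hc.1 (fun q => X.hc.le ?_) (hRT (hM x.2)), (hφN x).2⟩
    have h1 := ((map_subgroupOf_eq_iff ψ le_sup_right).1 e2).1 q
    rw [← e1]
    exact h1
  have hc0 : Nat.card M0 = Nat.card M := (isConj_card hMM0).symm
  have hM0T := hM0R.trans hRT
  have hM0S := hM0T.trans C.le
  haveI := finite_of_le hM0S
  have toM0 : ∀ (A : Subgroup Ω) (hQA : Q ≤ A), A ≤ normalizerIn R Q →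
      (normSystem F hQS).IsConj A M0 → ∃ (e : A ≃* M0) (g : MulAut Q) (l : MulAut ↥R),
        equivHom e ∈ F.Hom A ∧ (∀ q : Q, ((e (Subgroup.inclusion hQA q) : M0) : Ω) = ((g q : Q) : Ω)) ∧
        Cls F (relSys C) A (equivHom e) l ∧ (g, l) ∈ lamGroup X := by
    intro A hQA hA hAM
    have hAc : Nat.card A = Nat.card M := (isConj_card hAM).trans hc0
    obtain ⟨ψ, hψ, -, hψA⟩ := exists_normalizer_map_fullyNormalized hNp hNsat hM0 hAM
    obtain ⟨hψF, -, hψN, ψ', hψ', e1, e2⟩ := hψ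
    set A₁ := normalizerIn (normalizerIn R Q) A with hA₁
    have hA₁R : A₁ ≤ normalizerIn R Q := normalizerIn_le _ _
    have hle : A₁ ≤ normalizerIn (normalizerIn S Q) A := inf_le_inf_right _ hRN
    have hAA₁ : A ≤ A₁ := le_normalizerIn hA
    have hQA₁ : Q ≤ A₁ := hQA.trans hAA₁
    have hf := restrict_mem F hψF hle
    set f := ψ.comp (Subgroup.inclusion hle) with hfdef
    have hfQ : ∀ q : Q, f (Subgroup.inclusion hQA₁ q) ∈ Q := fun q => by
      have h1 := ((map_subgroupOf_eq_iff ψ' le_sup_right).1 e2).1 q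
      show ψ (Subgroup.inclusion hle (Subgroup.inclusion hQA₁ q)) ∈ Q
      rw [← e1]
      exact h1
    obtain ⟨g, -, hg⟩ := exists_aut_of_invariant F (restrict_mem F hf hQA₁) hfQ
    obtain ⟨l, hl⟩ := exists_cls C (X.hc.1.mono hQA₁ (hA₁R.trans hRT)) hf (by
      rintro _ ⟨x, rfl⟩
      exact C.apply_mem hf hQA₁ X.hc.1 (fun q => X.hc.le (hfQ q)) (hRT (hA₁R x.2)))
    have hlam := (hbig A₁ hQA₁ hA₁R (hgrow A hA hAc)).map f hf g (fun q _ => (hg q).symm) l hl
    have hr : (f.comp (Subgroup.inclusion hAA₁)).range = M0 :=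
      extend_restrict_range (hAA₁.trans hle) hψA
    exact ⟨mapEquiv F (restrict_mem F hf hAA₁) hr, g, l, equivHom_mapEquiv F _ hr, fun q => (hg q).symm,
      (hl.restrict hAA₁).congr fun _ => rfl, hlam⟩
  -- `dRes` at the representative
  have hM0c : Nat.card Q < Nat.card M0 := hc0 ▸ card_lt_of_lt hlt
  have hM0f := fullyCentralized_of_norm X hQ0 hM0R hM0
  have hU0 : dRes C hM0T ≤ gGroup C Q := by
    obtain ⟨Mn, hMn, hconj⟩ := exists_rnice C (X.hc.1.mono hQ0 hM0T)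
    obtain ⟨θ, hθ, hθN, hθM⟩ := exists_normalizer_map_fullyNormalized C.pg C.sat (hMn.fn C) hconj
    have hWS : normalizerIn R M0 ≤ normalizerIn S M0 := inf_le_inf_right _ C.le
    set W := normalizerIn R M0 with hW
    have hWT : W ≤ R := normalizerIn_le _ _
    have hθW := restrict_mem F hθ hWS
    set θW := θ.comp (Subgroup.inclusion hWS) with hθWdef
    have hM0W : M0 ≤ W := le_normalizerIn hM0T
    have hrW : (θW.comp (Subgroup.inclusion hM0W)).range = Mn := extend_restrict_range (hM0W.trans hWS) hθM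
    have hθT : θW.range ≤ R := by
      rintro _ ⟨w, rfl⟩
      exact C.apply_mem' hθW hM0W (X.hc.1.mono hQ0 hM0T) hrW hMn.le (hWT w.2)
    obtain ⟨a, ha⟩ := exists_cls C ((X.hc.1.mono hQ0 hM0T).mono hM0W hWT) hθW hθT
    set e := mapEquiv F (restrict_mem F hθW hM0W) hrW
    have hae : Cls F (relSys C) M0 (equivHom e) a := (ha.restrict hM0W).congr fun _ => rfl
    intro d hd
    have h1 := X.ih Mn hMn ((X.hc.mono C hQ0 hM0T).of_conj C hconj hMn.le)
      (hM0c.trans_eq (isConj_card hconj)) (dRes_transport C hM0T hMn.le e hae hd)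
    obtain ⟨u, hu, cu, k, hk, hcue, hade⟩ := mem_gGroup C h1
    have hd' : d = (a⁻¹ * cu * a) * (a⁻¹ * k * a) := by
      calc d = a⁻¹ * (a * d * a⁻¹) * a := by group
        _ = a⁻¹ * (cu * k) * a := by rw [hade]
        _ = _ := by group
    rw [hd']
    refine Subgroup.mul_mem _ ?_ (Subgroup.mem_sup_left (by
      simpa using conj_mem_top C (Subgroup.inv_mem _ hae.1) hk))
    have hM0N : M0 ≤ normalizerIn S M0 := le_normalizerIn hM0S
    obtain ⟨s, hs, hsu⟩ := exists_preimage_of_card_le F hθ (centralizerIn_le_normalizerIn S M0)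
      (centralizerIn_le S Mn)
      (fun x hx => ⟨hom_apply_mem F hθ _, apply_mem_centralizer θ hM0N (extend_restrict_range hM0N hθM) _ hx.2⟩)
      (hM0f.2 Mn hconj) u hu
    have hsN := centralizerIn_le_normalizerIn S M0 hs
    obtain ⟨cs, hcs, hcse⟩ := exists_conjAut (K := centralizerIn S M0) (P := R) hs
      (C.normalizer_le X.hc.1 hs.1 (Subgroup.centralizer_le_normalizer _ (Subgroup.centralizer_le hQ0 hs.2)))
    have hcsW : ∀ w : W, conjHom W s w ∈ W := fun w =>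
      ⟨(Subgroup.mem_normalizer_iff.1 (C.normalizer_le X.hc.1 hs.1
        (Subgroup.centralizer_le_normalizer _ (Subgroup.centralizer_le hQ0 hs.2))) w).1 w.2.1,
        Subgroup.mul_mem _ (Subgroup.mul_mem _ hsN.2 w.2.2) (Subgroup.inv_mem _ hsN.2)⟩
    have hconjW := F.conj_mem (hWT.trans C.le) hs.1
    have hclS : Cls F (relSys C) W (conjHom W s) cs :=
      cls_of_aut (autInducedBy_le_autGroup F C.le (autInducedBy_mono (centralizerIn_le S M0) hcs)) hWT
        fun w => ((conjHom_apply W s w).trans (hcse ⟨(w : Ω), hWT w.2⟩).symm)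
    have hL := Cls.comp hAI hclS ha hcsW
    have huS : u ∈ S := hu.1
    have hcuF : cu ∈ F.autGroup R := autInducedBy_le_autGroup F C.le
      (autInducedBy_mono (centralizerIn_le S Mn) ((mem_autInducedBy_iff _).2 ⟨u, hu, hcue⟩))
    have hclU : Cls F (relSys C) θW.range (conjHom θW.range u) cu :=
      cls_of_aut hcuF hθT fun w => ((conjHom_apply _ u w).trans (hcue ⟨(w : Ω), hθT w.2⟩).symm)
    have hR := Cls.comp hAI ha hclU fun w => ⟨w, rfl⟩
    have hR' : Cls F (relSys C) W (θW.comp ((conjHom W s).codRestrict W hcsW)) (cu * a) := hR.congr fun w => by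
      show θ ⟨s * (w : Ω) * s⁻¹, _⟩ = u * θ ⟨w, _⟩ * u⁻¹
      refine (map_apply_conj θ (centralizerIn_le_normalizerIn S M0 hs) (hWS w.2) (hWS (hcsW w))).trans ?_
      rw [hsu]
    have h2 := cls_unique C hWT (F.comp_mem hconjW hθW hcsW) hR' hL
    have hNR : normalizerIn (normalizerIn R Q) M0 ≤ W := inf_le_inf_right _ hRT
    have h3 := (hbig _ (hQ0.trans (le_normalizerIn hM0R)) (normalizerIn_le _ _) (hgrow M0 hM0R hc0)).dres
      (dRes_antitone C hWT hNR h2)
    have hcsG : cs ∈ gGroup C Q :=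
      Subgroup.mem_sup_right (autInducedBy_mono (inf_le_inf_left S (Subgroup.centralizer_le hQ0)) hcs)
    have h4 := Subgroup.mul_mem _ hcsG h3
    rw [show cs * ((a * cs)⁻¹ * (cu * a)) = a⁻¹ * cu * a by group] at h4
    exact h4
  -- the automorphisms of the representative
  have hM0NS : M0 ≤ normalizerIn S Q := hM0R.trans hRN
  let Ok : Subgroup (MulAut M0) :=
    { carrier := {γ | γ ∈ F.autGroup M0 ∧ ∃ (g : MulAut Q) (l : MulAut ↥R), Rel hQ0 γ g ∧
        Cls F (relSys C) M0 (equivHom γ) l ∧ (g, l) ∈ lamGroup X}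
      one_mem' := ⟨Subgroup.one_mem _, 1, 1, Rel.one,
        cls_of_mem (hom_congr _ (subtype_mem _ hM0T) fun _ => rfl), (lamGroup X).one_mem⟩
      mul_mem' := fun {γ γ'} h h' => by
        obtain ⟨hγ, g, l, hg, hl, hgl⟩ := h
        obtain ⟨hγ', g', l', hg', hl', hgl'⟩ := h'
        exact ⟨Subgroup.mul_mem _ hγ hγ', g * g', l * l', hg.mul hg',
          (Cls.comp hAI hl' hl fun x => (γ' x).2).congr fun _ => rfl, (lamGroup X).mul_mem hgl hgl'⟩
      inv_mem' := fun {γ} h => by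
        obtain ⟨hγ, g, l, hg, hl, hgl⟩ := h
        exact ⟨Subgroup.inv_mem _ hγ, g⁻¹, l⁻¹, hg.inv, (hl.symm hAI γ).congr fun _ => rfl,
          (lamGroup X).inv_mem hgl⟩ }
  set A0 := (normSystem F hQS).autGroup M0 with hA0
  set H0 := A0 ⊓ relSub hQ0 (bGroup p F E R Q) with hH0
  set W0 := autInducedBy (normalizerIn S Q) M0 ⊓ H0 with hW0def
  have hn0 : A0 ≤ Subgroup.normalizer (H0 : Set (MulAut M0)) := fun γ hγ => by
    refine mem_normalizer_of_conj_mem_finite ?_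
    rintro d ⟨hd, b, hb, hdb⟩
    obtain ⟨hγF, g, hg⟩ := (mem_normAut hQS hQ0 hM0NS).1 hγ
    exact ⟨Subgroup.mul_mem _ (Subgroup.mul_mem _ hγ hd) (Subgroup.inv_mem _ hγ), g * b * g⁻¹,
      conj_mem_bGroup C X.hc X.fn (autGroup_of_rel hQ0 hM0S hγF hg) hb, (hg.mul hdb).mul hg.inv⟩
  have hW0 : IsSyl p W0 H0 :=
    (isSyl_of_fullyAutomized (fullyNormalized_imp hNp hNsat hM0).2).inf_normal inf_le_left hn0
  have hext : ∀ γ ∈ A0, (∀ w ∈ W0, γ * w * γ⁻¹ ∈ W0) → γ ∈ Ok := by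
    intro γ hγ hγW
    obtain ⟨hγF, g, hg⟩ := (mem_normAut hQS hQ0 hM0NS).1 hγ
    obtain ⟨χ, hχ, hag⟩ := (fullyNormalized_receptive hNp hNsat hM0).2 M0 _
      ((equivHom_autGroup (normSystem F hQS) hM0NS).1 hγ) (equivHom_range γ)
    set A₁ := normalizerIn (normalizerIn R Q) M0 with hA₁
    have hA₁e : A₁ ≤ extender (normalizerIn S Q) M0 (equivHom γ) := by
      intro t ht
      obtain ⟨c, hc, hce⟩ := exists_conjAut (K := normalizerIn S Q) (P := M0) (hRN ht.1) ht.2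
      obtain ⟨cQ, hcQ, hcQe⟩ := exists_conjAut (K := R) (P := Q) ht.1.1 ht.1.2
      have hcW : c ∈ W0 := ⟨hc, autInducedBy_le_autGroup _ hM0NS hc, cQ, autR_le_bGroup p F E R Q hcQ,
        fun q => Subtype.ext ((hce _).trans (hcQe q).symm)⟩
      obtain ⟨h, hh, hhe⟩ := (mem_autInducedBy_iff _).1 (hγW c hcW).1
      refine Subgroup.subset_closure ⟨hRN ht.1, ht.2, h, hh, fun x hx => ?_⟩
      have h2 := hhe (γ x)
      simp only [MulAut.mul_apply, MulAut.inv_apply_self] at h2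
      refine Eq.trans ?_ h2
      rw [equivHom_apply, show (⟨t * (x : Ω) * t⁻¹, hx⟩ : M0) = c x from Subtype.ext (hce x).symm]
    have hf := restrict_mem F hχ.1 hA₁e
    have hA₁R : A₁ ≤ normalizerIn R Q := normalizerIn_le _ _
    have hM0A : M0 ≤ A₁ := le_normalizerIn hM0R
    obtain ⟨l, hl⟩ := exists_cls C (X.hc.1.mono (hQ0.trans hM0A) (hA₁R.trans hRT)) hf (by
      rintro _ ⟨x, rfl⟩
      refine C.apply_mem hf (hQ0.trans hM0A) X.hc.1 (fun q => ?_) (hRT (hA₁R x.2))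
      refine (((hag q (hQ0 q.2) (hA₁e ((hQ0.trans hM0A) q.2))).trans (hg.apply q)).symm ▸ X.hc.le (g q).2 :))
    refine ⟨hγF, g, l, hg, (hl.restrict hM0A).congr fun x => (hag x x.2 (hA₁e (hM0A x.2))).symm, ?_⟩
    exact (hbig A₁ (hQ0.trans hM0A) hA₁R (hgrow M0 hM0R hc0)).map _ hf g
      (fun q h => (hag q (hQ0 q.2) (hA₁e h)).trans (hg.apply q)) l hl
  have hfix : ∀ d ∈ F.autGroup M0, Rel hQ0 d 1 → d ∈ Ok := by
    intro d hd hd1
    obtain ⟨s, hs, hse⟩ := fix_conj X hQ0 hM0R hM0 hd hd1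
    have hdA : d ∈ A0 := (mem_normAut hQS hQ0 hM0NS).2 ⟨hd, 1, hd1⟩
    have hdW : d ∈ W0 := ⟨(mem_autInducedBy_iff _).2 ⟨s, centralizerIn_le_normalizerIn S Q hs, hse⟩,
      hdA, 1, Subgroup.one_mem _, hd1⟩
    exact hext d hdA fun w hw => W0.mul_mem (W0.mul_mem hdW hw) (W0.inv_mem hdW)
  have hH0Ok : H0 ≤ Ok := by
    refine (le_sylow_sup_opOf hW0).trans (sup_le (fun w hw => hext w hw.2.1 fun v hv =>
      W0.mul_mem (W0.mul_mem hw hv) (W0.inv_mem hw)) ((Subgroup.closure_le _).2 ?_))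
    rintro γ ⟨⟨hγA, x, hxB, hγx⟩, hco⟩
    obtain ⟨hγF, -⟩ := (mem_normAut hQS hQ0 hM0NS).1 hγA
    have hxco : (orderOf x).Coprime p := Nat.Coprime.coprime_dvd_left (rel_orderOf_dvd hγx) hco
    obtain ⟨ξ, hξ, hξco, hξx⟩ := exists_gAut_extension C X.hc X.fc hQ0 hM0R
      (gAut_of_coprime C X.hc.1 (bGroup_le_sup p F E R Q hxB) hxco) hxco fun m hm => ⟨(γ ⟨m, hm⟩ : M0), (γ _).2, fun q h => by
        rw [← hγx.apply, ← hγx.apply, ← Subgroup.coe_inv, ← Subgroup.coe_mul, ← Subgroup.coe_mul, ← map_inv,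
          ← map_mul, ← map_mul]
        exact congrArg (fun w : M0 => ((γ w : M0) : Ω)) (Subtype.ext rfl)⟩
    have hξD : ξ ∈ (relSys C).autGroup M0 :=
      genClosed_relSys C M0 (X.hc.mono C hQ0 hM0T) ξ ⟨hξco, hξ⟩
    have hξF := autGroup_mono (relSys_sub C) M0 hξD
    have hξOk : ξ ∈ Ok := ⟨hξF, x, 1, hξx, cls_of_mem ((equivHom_autGroup (relSys C) hM0T).1 hξD),
      lam_bGroup_mem X hxB⟩
    have hd : γ * ξ⁻¹ ∈ Ok := hfix _ (Subgroup.mul_mem _ hγF (Subgroup.inv_mem _ hξF))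
      (by rw [← mul_inv_cancel x]; exact hγx.mul hξx.inv)
    have := Ok.mul_mem hd hξOk
    rwa [inv_mul_cancel_right] at this
  have hA0Ok : A0 ≤ Ok := by
    intro γ hγ
    obtain ⟨n, hn, b, hb, rfl, hnW⟩ := exists_frattini_syl hW0 inf_le_left hn0 hγ
    exact Ok.mul_mem (hext n hn hnW) (hH0Ok hb)
  -- conclusion
  obtain ⟨e1, g1, l1, he1, hge1, hl1, hlam1⟩ := toM0 M hQM hM hMM0
  have hdM : dRes C (hM.trans hRT) ≤ gGroup C Q := by
    intro d hd
    have h1 := hU0 (dRes_transport C (hM.trans hRT) hM0T e1 hl1 hd)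
    have h2 := lam_normalizes X ((lamGroup X).inv_mem hlam1 : (g1⁻¹, l1⁻¹) ∈ lamGroup X) h1
    rwa [show l1⁻¹ * (l1 * d * l1⁻¹) * l1⁻¹⁻¹ = d by group] at h2
  refine ⟨hdM, fun φ hφ g hg l hl => ?_⟩
  set M2 := φ.range with hM2
  set f := mapEquiv F hφ rfl with hfdef
  have hrQ : (φ.comp (Subgroup.inclusion hQM)).range = Q := by
    ext y
    constructor
    · rintro ⟨q, rfl⟩
      show φ ⟨q, _⟩ ∈ Q
      rw [hg q]; exact (g q).2
    · intro hy
      obtain ⟨q, hq⟩ := g.surjective ⟨y, hy⟩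
      exact ⟨q, (hg q _).trans (congrArg Subtype.val hq)⟩
  have hM2R : M2 ≤ normalizerIn R Q := by
    rintro _ ⟨x, rfl⟩
    exact ⟨C.apply_mem' hφ hQM X.hc.1 hrQ X.hc.le (hRT (hM x.2)), apply_mem_normalizer φ hQM hrQ x (hM x.2).2⟩
  have hQ2 : Q ≤ M2 := hrQ.ge.trans (by rintro _ ⟨x, rfl⟩; exact ⟨_, rfl⟩)
  have hNφ : φ ∈ (normSystem F hQS).Hom M := ⟨hφ, hMN, fun x => hRN (hM2R ⟨x, rfl⟩),
    φ.comp (Subgroup.inclusion (sup_le le_rfl hQM)), restrict_mem F hφ _, fun x => rfl, by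
      rw [map_subgroupOf_eq_iff _ le_sup_right]
      refine ⟨fun q => hrQ.le ⟨q, rfl⟩, fun y hy => ?_⟩
      obtain ⟨q, hq⟩ := hrQ.ge hy
      exact ⟨q, hq⟩⟩
  obtain ⟨e2, g2, l2, he2, hge2, hl2, hlam2⟩ :=
    toM0 M2 hQ2 hM2R (isConj_trans (isConj_symm ⟨φ, hNφ, rfl⟩) hMM0)
  set γ : MulAut M0 := e1.symm.trans (f.trans e2) with hγdef
  have hγF : γ ∈ F.autGroup M0 := (equivHom_autGroup F hM0S).2
    (equivHom_trans F (equivHom_symm_mem F e1 he1) (equivHom_trans F (equivHom_mapEquiv F hφ rfl) he2))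
  have hγg : Rel hQ0 γ (g2 * g * g1⁻¹) := by
    intro q
    obtain ⟨q', rfl⟩ := g1.surjective q
    have h1 : e1.symm (Subgroup.inclusion hQ0 (g1 q')) = Subgroup.inclusion hQM q' := by
      rw [e1.symm_apply_eq]
      exact Subtype.ext (hge1 q').symm
    have h2 : f (Subgroup.inclusion hQM q') = Subgroup.inclusion hQ2 (g q') := Subtype.ext (hg q' _)
    refine Subtype.ext ?_
    show ((e2 (f (e1.symm (Subgroup.inclusion hQ0 (g1 q')))) : M0) : Ω) = ((g2 (g (g1⁻¹ (g1 q'))) : Q) : Ω)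
    rw [h1, h2, hge2, MulAut.inv_apply_self]
  obtain ⟨-, g', l', hg', hl', hlam'⟩ := hA0Ok ((mem_normAut hQS hQ0 hM0NS).2 ⟨hγF, _, hγg⟩)
  have hcl : Cls F (relSys C) M φ (l2⁻¹ * l' * l1) := by
    have h1 := Cls.comp hAI (Cls.comp hAI hl1 hl' fun x => (e1 x).2) (hl2.symm hAI e2)
      fun x => (γ (e1 x)).2
    rw [← mul_assoc] at h1
    refine h1.congr fun x => ?_
    show φ x = ((e2.symm (e2 (f (e1.symm (e1 x)))) : M2) : Ω)
    rw [e2.symm_apply_apply, e1.symm_apply_apply]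
    rfl
  have hd := hdM (cls_unique C (hM.trans hRT) hφ hl hcl)
  have h := (lamGroup X).mul_mem ((lamGroup X).mul_mem ((lamGroup X).mul_mem ((lamGroup X).inv_mem hlam2) hlam')
    hlam1) (lam_one_mem X hd)
  rw [rel_unique hg' hγg] at h
  simp only [Prod.inv_mk, Prod.mk_mul_mk, mul_one] at h
  rwa [show g2⁻¹ * (g2 * g * g1⁻¹) * g1 = g by group, mul_inv_cancel_left] at h

end Cfsg.Agent.RelProd
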