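import Cfsg.Agent.Lib.Fusion.GeneratedCriterion

/-!
# The saturation criterion with larger classes known only above the given one
-/

set_option autoImplicit false
set_option linter.unusedSectionVars false

namespace Cfsg.Agent.RelProd

open Cfsg Cfsg.FusionSystem Cfsg.Agent.FusionSys

variable {Ω : Type*} [Group Ω] {S : Subgroup Ω} [Finite S] {p : ℕ} [hp : Fact p.Prime]
variable {F : FusionSystem S} {P : Subgroup Ω}

theorem good_step (hS : IsPGroup p S) (hsat : ∀ R ≤ S, (∃ a ≤ R, F.IsConj P a) → Nat.card P < Nat.card R → SatClass F p R)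
    (hP : F.IsFullyNormalized P) {R a : Subgroup Ω} {φ : R →* Ω} (hφ : φ ∈ F.Hom R) (haR : a < R)
    (hRN : R ≤ normalizerIn S a) (hPa : F.IsConj P a) (hgood : Arrow F (imgOf φ a) P) : Arrow F a P := by
  induction hk : Nat.card S - Nat.card R using Nat.strong_induction_on generalizing R a with
  | _ n ih =>
  have hRS := hom_le F hφ
  haveI := finite_of_le hRS
  obtain ⟨χ, hχ, hχP⟩ := hgood
  have hval : ∀ x : R, φ x ∈ normalizerIn S (imgOf φ a) := fun x => imgOf_mem_normalizer F hφ haR.le x (hRN x.2).2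
  have hθ := F.comp_mem hφ hχ hval
  set θ := χ.comp (φ.codRestrict _ hval)
  have hθa : imgOf θ a = P := by rw [imgOf_comp, hχP]
  rcases eq_or_lt_of_le hRN with he | hlt
  · subst he; exact ⟨θ, hθ, hθa⟩
  haveI := finite_of_le (normalizerIn_le S a)
  haveI := finite_of_le (normalizerIn_le S P)
  set M := θ.range with hM
  have hMN : M ≤ normalizerIn S P := by
    rintro _ ⟨x, rfl⟩
    exact hθa ▸ imgOf_mem_normalizer F hθ haR.le x (hRN x.2).2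
  have hcM : Nat.card M = Nat.card R := (isConj_card ⟨θ, hθ, rfl⟩).symm
  have hMlt : M < normalizerIn S P := by
    refine lt_of_le_of_ne hMN fun he => ?_
    have h1 := Cfsg.Agent.FusionSys.card_lt_of_lt hlt
    have h2 := hP.2 a hPa
    rw [← he] at h2
    omega
  have hcP : Nat.card P = Nat.card a := isConj_card hPa
  have hPR : Nat.card P < Nat.card R := hcP ▸ Cfsg.Agent.FusionSys.card_lt_of_lt haR
  obtain ⟨Q, ⟨θ₁, hθ₁, hθ₁r⟩, hQA, hQR⟩ := hsat R hRS ⟨a, haR.le, hPa⟩ hPR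
  obtain ⟨γ, hγ, hsyl⟩ := exists_sylStab hS hQA (a := imgOf θ₁ a) (hθ₁r ▸ imgOf_le_range θ₁)
  have hγm := (mem_autGroup_iff F hQA.1 γ).1 hγ
  have hθ₁' := F.comp_mem hθ₁ hγm fun x => hθ₁r.le ⟨x, rfl⟩
  set θ₁' := (Q.subtype.comp γ.toMonoidHom).comp (θ₁.codRestrict Q fun x => hθ₁r.le ⟨x, rfl⟩)
  rw [← imgOf_comp θ₁ (Q.subtype.comp γ.toMonoidHom) fun x => hθ₁r.le ⟨x, rfl⟩] at hsyl
  set b := imgOf θ₁' a
  have hr₁ : θ₁'.range = Q := by
    rw [range_comp_of_range _ _ _ hθ₁r, MonoidHom.range_comp, MonoidHom.range_eq_top.2 γ.surjective,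
      ← MonoidHom.range_eq_map, Subgroup.range_subtype]
  obtain ⟨θi, hθi, -, hθir, hθiimg⟩ := exists_inv_imgOf F hθ
  have hv₂ : ∀ y, θi y ∈ R := fun y => hθir.le ⟨y, rfl⟩
  have hθ₂ := F.comp_mem hθi hθ₁' hv₂
  set θ₂ := θ₁'.comp (θi.codRestrict R hv₂)
  have hr₂ : θ₂.range = Q := by rw [range_comp_of_range _ _ _ hθir, hr₁]
  have hθiP : imgOf θi P = a := by rw [← hθa]; exact hθiimg a haR.le
  have hb₂ : imgOf θ₂ P = b := by rw [imgOf_comp, hθiP]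
  have hPM : P ≤ M := hθa ▸ imgOf_le_range θ
  obtain ⟨k₁, hk₁, ψ₁, hψ₁, hψ₁e⟩ := to_hub hS hQR hθ₁' hr₁ haR.le rfl hsyl
  obtain ⟨k₂, hk₂, ψ₂, hψ₂, hψ₂e⟩ := to_hub hS hQR hθ₂ hr₂ hPM hb₂ hsyl
  have hW₁ := lt_hub_domain hS (normalizerIn_le S a) hlt
  have hW₂ := lt_hub_domain hS (normalizerIn_le S P) hMlt
  have i₁ := imgOf_hub (F := F) hr₁ haR.le hW₁.le rfl hk₁.2 hψ₁e
  have i₂ := imgOf_hub (F := F) hr₂ hPM hW₂.le hb₂ hk₂.2 hψ₂e
  haveI := finite_of_le (hom_le F hψ₁)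
  haveI := finite_of_le (hom_le F hψ₂)
  have hle : ∀ W : Subgroup Ω, W ≤ S → Nat.card W ≤ Nat.card S := fun W hW => Subgroup.card_le_of_le hW
  have hgb : Arrow F b P := by
    obtain ⟨ψi, hψi, -, hψir, hψiimg⟩ := exists_inv_imgOf F hψ₂
    have hc := card_imgOf F hψ₂ le_rfl
    rw [imgOf_self] at hc
    change Nat.card ψ₂.range = Nat.card (normalizerIn S M ⊓ Subgroup.normalizer (P : Set Ω) : Subgroup Ω) at hc
    have hbP : imgOf ψi b = P := by rw [← i₂]; exact hψiimg P (hPM.trans hW₂.le)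
    have hbr : b ≤ ψ₂.range := i₂ ▸ imgOf_le_range ψ₂
    refine ih _ ?_ hψi (lt_of_le_of_ne hbr fun he => ?_) ?_ ?_ ?_ rfl
    · have := Cfsg.Agent.FusionSys.card_lt_of_lt hW₂
      have := hle _ (range_le F hψ₂)
      omega
    · have h1 : Nat.card b = Nat.card P := by rw [← i₂]; exact card_imgOf F hψ₂ (hPM.trans hW₂.le)
      rw [he] at h1
      have := Cfsg.Agent.FusionSys.card_lt_of_lt hW₂
      omega
    · rintro _ ⟨x, rfl⟩
      exact i₂ ▸ imgOf_mem_normalizer F hψ₂ (hPM.trans hW₂.le) x x.2.2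
    · exact i₂ ▸ isConj_imgOf F hψ₂ (hPM.trans hW₂.le)
    · rw [hbP]
      exact ⟨_, subtype_mem F (normalizerIn_le S P), imgOf_subtype (le_normalizerIn hP.1)⟩
  refine ih _ ?_ hψ₁ (haR.trans_le hW₁.le) (fun x hx => ⟨hx.1.1, hx.2⟩) hPa (i₁.symm ▸ hgb) rfl
  have := Cfsg.Agent.FusionSys.card_lt_of_lt hW₁
  have := hle _ (hom_le F hψ₁)
  omega

theorem good_step_iff (hS : IsPGroup p S) (hsat : ∀ R ≤ S, (∃ a ≤ R, F.IsConj P a) → Nat.card P < Nat.card R → SatClass F p R)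
    (hP : F.IsFullyNormalized P) {R a : Subgroup Ω} {φ : R →* Ω} (hφ : φ ∈ F.Hom R) (haR : a < R)
    (hPa : F.IsConj P a) : Arrow F a P ↔ Arrow F (imgOf φ a) P := by
  have key : ∀ {R a : Subgroup Ω} {φ : R →* Ω}, φ ∈ F.Hom R → a < R → F.IsConj P a →
      Arrow F (imgOf φ a) P → Arrow F a P := by
    intro R a φ hφ haR hPa h
    have hlt := lt_inf_normalizerIn hS (hom_le F hφ) haR
    refine good_step hS hsat hP (restrict_mem F hφ inf_le_left) hlt inf_le_right hPa ?_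
    rwa [imgOf_congr hlt.le haR.le (φ' := φ) fun x hx => rfl]
  refine ⟨fun h => ?_, key hφ haR hPa⟩
  obtain ⟨ψ, hψ, -, -, hψimg⟩ := exists_inv_imgOf F hφ
  refine key hψ (lt_of_le_of_ne (imgOf_le_range φ) fun he => ?_) (isConj_trans hPa (isConj_imgOf F hφ haR.le)) ?_
  · haveI := finite_of_le (hom_le F hφ)
    have h1 := card_imgOf F hφ haR.le
    rw [he, ← isConj_card ⟨φ, hφ, rfl⟩] at h1
    exact (Cfsg.Agent.FusionSys.card_lt_of_lt haR).ne h1.symm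
  · rwa [hψimg a haR.le]

theorem good_all (hS : IsPGroup p S) (hsat : ∀ R ≤ S, (∃ a ≤ R, F.IsConj P a) → Nat.card P < Nat.card R → SatClass F p R)
    (hP : F.IsFullyNormalized P) (ℋ : Set (Subgroup Ω)) (hℋconj : ∀ P ∈ ℋ, ∀ Q, F.IsConj P Q → Q ∈ ℋ)
    (hgen : ∀ E : FusionSystem S, (∀ P ∈ ℋ, F.Hom P ⊆ E.Hom P) → F ≤ E) (hPn : P ∉ ℋ) (hSℋ : S ∈ ℋ) :
    ∀ a, F.IsConj P a → Arrow F a P := by
  have hne : ∀ R ∈ ℋ, ∀ a, F.IsConj P a → a ≠ R := fun R hR a ha he =>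
    hPn (hℋconj R hR P (he ▸ isConj_symm ha))
  let E : FusionSystem S :=
    { Hom := fun R => {φ | φ ∈ F.Hom R ∧ ∀ a ≤ R, F.IsConj P a → (Arrow F a P ↔ Arrow F (imgOf φ a) P)}
      le_of_mem := fun h => F.le_of_mem h.1
      injective_of_mem := fun h => F.injective_of_mem h.1
      conj_mem := by
        intro R g hR hg
        refine ⟨F.conj_mem hR hg, fun a ha hPa => ?_⟩
        rw [imgOf_congr ha (ha.trans hR) (φ' := conjHom S g) fun x hx => rfl]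
        exact good_step_iff hS hsat hP (F.conj_mem le_rfl hg) (lt_of_le_of_ne (ha.trans hR) (hne S hSℋ a hPa)) hPa
      comp_mem := by
        rintro R T φ ψ ⟨hφ, h1⟩ ⟨hψ, h2⟩ h
        refine ⟨F.comp_mem hφ hψ h, fun a ha hPa => ?_⟩
        rw [h1 a ha hPa, imgOf_comp]
        refine h2 _ ?_ (isConj_trans hPa (isConj_imgOf F hφ ha))
        rintro _ ⟨x, -, rfl⟩
        exact h x
      inv_mem := by
        rintro R φ ⟨hφ, h1⟩
        obtain ⟨ψ, hψ, he, -, hψimg⟩ := exists_inv_imgOf F hφ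
        refine ⟨ψ, ⟨hψ, fun c hc hPc => ?_⟩, fun x => he x _⟩
        obtain ⟨a, ha, rfl⟩ := exists_preimg φ hc
        rw [hψimg a ha]
        exact (h1 a ha (isConj_trans hPc (isConj_symm (isConj_imgOf F hφ ha)))).symm }
  have hFE := hgen E fun R hR φ hφ =>
    ⟨hφ, fun a ha hPa => good_step_iff hS hsat hP hφ (lt_of_le_of_ne ha (hne R hR a hPa)) hPa⟩
  intro a ha
  obtain ⟨φ, hφ, hr⟩ := isConj_symm ha
  rw [(hFE a hφ).2 a le_rfl ha, imgOf_self, hr]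
  exact ⟨_, subtype_mem F (normalizerIn_le S P), imgOf_subtype (le_normalizerIn hP.1)⟩

theorem loop (hS : IsPGroup p S) (hsat : ∀ R ≤ S, (∃ a ≤ R, F.IsConj P a) → Nat.card P < Nat.card R → SatClass F p R)
    (hP : F.IsFullyNormalized P) (hgood : ∀ a, F.IsConj P a → Arrow F a P) {R : Subgroup Ω} {φ : R →* Ω}
    (hφ : φ ∈ F.Hom R) (hPR : P < R) (hRN : R ≤ normalizerIn S P) (hφP : imgOf φ P = P) :
    ExtRel F p P fun x => φ ⟨x, hPR.le x.2⟩ := by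
  induction hk : Nat.card S - Nat.card R using Nat.strong_induction_on generalizing R with
  | _ n ih =>
  have hPS := hP.1
  have hRS := hom_le F hφ
  haveI := finite_of_le hRS
  haveI := finite_of_le (normalizerIn_le S P)
  have hUN := coreExt_le (p := p) F hPS
  by_cases hUR : coreExt F p P ≤ R
  · exact ⟨_, restrict_mem F hφ hUR, fun x hx => rfl⟩
  obtain ⟨u, huU, huN, huR⟩ : ∃ u ∈ coreExt F p P, u ∈ Subgroup.normalizer (R : Set Ω) ∧ u ∉ R := by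
    have hlt : R < R ⊔ coreExt F p P := lt_of_le_of_ne le_sup_left fun he => hUR (he ▸ le_sup_right)
    have hsS : R ⊔ coreExt F p P ≤ S := sup_le hRS (hUN.trans (normalizerIn_le S P))
    haveI := finite_of_le hsS
    obtain ⟨g, hg, hgR⟩ := SetLike.exists_of_lt (Cfsg.Agent.Fusion.lt_inf_normalizer (hS.to_le hsS).isNilpotent hlt)
    have hg1 : g ∈ ((R ⊔ coreExt F p P : Subgroup Ω) : Set Ω) := hg.1
    rw [Subgroup.coe_mul_of_left_le_normalizer_right _ _ (hRN.trans (coreExt_le_normalizer hS hPS))] at hg1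
    obtain ⟨r, hr, u, hu, rfl⟩ := hg1
    exact ⟨u, hu, ((Subgroup.normalizer (R : Set Ω)).mul_mem_cancel_left (Subgroup.le_normalizer hr)).1 hg.2,
      fun h => hgR (R.mul_mem hr h)⟩
  have hlt : R < normalizerIn S P := lt_of_le_of_ne hRN fun he => huR (he.ge (hUN huU))
  set M := φ.range with hM
  have hMN : M ≤ normalizerIn S P := by
    rintro _ ⟨x, rfl⟩
    exact hφP ▸ imgOf_mem_normalizer F hφ hPR.le x (hRN x.2).2
  have hcM : Nat.card M = Nat.card R := (isConj_card ⟨φ, hφ, rfl⟩).symm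
  have hMlt : M < normalizerIn S P := lt_of_le_of_ne hMN fun he => by
    have h1 := Cfsg.Agent.FusionSys.card_lt_of_lt hlt
    rw [← he] at h1
    omega
  obtain ⟨Q, ⟨θ₁, hθ₁, hθ₁r⟩, hQA, hQR⟩ := hsat R hRS ⟨P, hPR.le, isConj_refl F hP.1⟩ (Cfsg.Agent.FusionSys.card_lt_of_lt hPR)
  haveI := finite_of_le hQA.1
  obtain ⟨γ, hγ, hsyl⟩ := exists_sylStab hS hQA (a := imgOf θ₁ P) (hθ₁r ▸ imgOf_le_range θ₁)
  have hγm := (mem_autGroup_iff F hQA.1 γ).1 hγ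
  have hθ₁' := F.comp_mem hθ₁ hγm fun x => hθ₁r.le ⟨x, rfl⟩
  set θ₁' := (Q.subtype.comp γ.toMonoidHom).comp (θ₁.codRestrict Q fun x => hθ₁r.le ⟨x, rfl⟩)
  rw [← imgOf_comp θ₁ (Q.subtype.comp γ.toMonoidHom) fun x => hθ₁r.le ⟨x, rfl⟩] at hsyl
  set b := imgOf θ₁' P with hb
  have hr₁ : θ₁'.range = Q := by
    rw [range_comp_of_range _ _ _ hθ₁r, MonoidHom.range_comp, MonoidHom.range_eq_top.2 γ.surjective,
      ← MonoidHom.range_eq_map, Subgroup.range_subtype]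
  have hbQ : b ≤ Q := hr₁ ▸ imgOf_le_range θ₁'
  have hQNb : Q ≤ normalizerIn S b := by
    rw [← hr₁]
    rintro _ ⟨x, rfl⟩
    exact imgOf_mem_normalizer F hθ₁' hPR.le x (hRN x.2).2
  have hPb : F.IsConj P b := isConj_imgOf F hθ₁' hPR.le
  obtain ⟨χ, hχ, hχb⟩ := hgood b hPb
  obtain ⟨φi, hφi, hφie, hφir, hφiimg⟩ := exists_inv_imgOf F hφ
  have hv₂ : ∀ y, φi y ∈ R := fun y => hφir.le ⟨y, rfl⟩
  have hθ₂ := F.comp_mem hφi hθ₁' hv₂
  set θ₂ := θ₁'.comp (φi.codRestrict R hv₂)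
  have hr₂ : θ₂.range = Q := by rw [range_comp_of_range _ _ _ hφir, hr₁]
  have hφiP : imgOf φi P = P := by
    have := hφiimg P hPR.le
    rwa [hφP] at this
  have hb₂ : imgOf θ₂ P = b := by rw [imgOf_comp, hφiP]
  have hPM : P ≤ M := hφP ▸ imgOf_le_range φ
  obtain ⟨k₁, hk₁, ψ₁, hψ₁, hψ₁e⟩ := to_hub hS hQR hθ₁' hr₁ hPR.le rfl hsyl
  obtain ⟨k₂, hk₂, ψ₂, hψ₂, hψ₂e⟩ := to_hub hS hQR hθ₂ hr₂ hPM hb₂ hsyl
  have hW₁ := lt_hub_domain hS (normalizerIn_le S P) hlt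
  have hW₂ := lt_hub_domain hS (normalizerIn_le S P) hMlt
  have i₁ := imgOf_hub (F := F) hr₁ hPR.le hW₁.le rfl hk₁.2 hψ₁e
  have i₂ := imgOf_hub (F := F) hr₂ hPM hW₂.le hb₂ hk₂.2 hψ₂e
  haveI := finite_of_le (hom_le F hψ₁)
  haveI := finite_of_le (hom_le F hψ₂)
  have hle : ∀ W : Subgroup Ω, W ≤ S → Nat.card W ≤ Nat.card S := fun W hW => Subgroup.card_le_of_le hW
  -- loops through `b` on larger sources
  have big : ∀ {W : Subgroup Ω} (ψ : W →* Ω) (hψ : ψ ∈ F.Hom W) (hPW : P < W),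
      W ≤ normalizerIn S P → Nat.card R < Nat.card W → imgOf ψ P = b →
      ∀ hv : ∀ x, ψ x ∈ normalizerIn S b, ExtRel F p P fun x => χ ⟨ψ ⟨x, hPW.le x.2⟩, hv _⟩ := by
    intro W ψ hψ hPW hWN hc hi hv
    refine ih _ ?_ (F.comp_mem hψ hχ hv) hPW hWN ?_ rfl
    · have := hle W (hom_le F hψ); omega
    · rw [imgOf_comp, hi, hχb]
  have hv₁ : ∀ x, ψ₁ x ∈ normalizerIn S b := fun x => by
    have := imgOf_mem_normalizer F hψ₁ (hPR.le.trans hW₁.le) x x.2.2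
    rwa [i₁] at this
  have hv₂' : ∀ x, ψ₂ x ∈ normalizerIn S b := fun x =>
    i₂ ▸ imgOf_mem_normalizer F hψ₂ (hPM.trans hW₂.le) x x.2.2
  have hPM' : P < M := lt_of_le_of_ne hPM fun he => by
    have h1 := Cfsg.Agent.FusionSys.card_lt_of_lt hPR
    have h2 : Nat.card P = Nat.card M := by rw [← he]
    omega
  have L₁ := big ψ₁ hψ₁ (hPR.trans_le hW₁.le) (fun x hx => ⟨hx.1.1, hx.2⟩) (Cfsg.Agent.FusionSys.card_lt_of_lt hW₁) i₁ hv₁
  have L₂ := big ψ₂ hψ₂ (hPM'.trans_le hW₂.le) (fun x hx => ⟨hx.1.1, hx.2⟩) (hcM ▸ Cfsg.Agent.FusionSys.card_lt_of_lt hW₂) i₂ hv₂'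
  -- the middle automorphism
  set B := F.autGroup Q ⊓ stabSub Q b with hB
  set k := k₂ * k₁⁻¹ with hkdef
  have hkB : k ∈ B := B.mul_mem hk₂ (B.inv_mem hk₁)
  set K := ((coreAut F p b).comap (resHom hbQ)).map (stabSub Q b).subtype ⊓ B with hK
  have hres : ∀ α : stabSub Q b, (α : MulAut Q) ∈ F.autGroup Q → resHom hbQ α ∈ F.autGroup b := by
    intro α hα
    rw [mem_autGroup_iff F (hbQ.trans hQA.1)]
    exact hom_congr F (restrict_mem F ((mem_autGroup_iff F hQA.1 _).1 hα) hbQ) fun x => rfl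
  have hKn : B ≤ Subgroup.normalizer (K : Set (MulAut Q)) := by
    have key : ∀ x ∈ B, ∀ c ∈ K, x * c * x⁻¹ ∈ K := by
      intro x hx c hc
      obtain ⟨⟨c', hc', rfl⟩, hcB⟩ := hc
      refine ⟨⟨⟨x, hx.2⟩ * c' * ⟨x, hx.2⟩⁻¹, ?_, rfl⟩, B.mul_mem (B.mul_mem hx hcB) (B.inv_mem hx)⟩
      rw [SetLike.mem_coe, Subgroup.mem_comap, map_mul, map_mul, map_inv]
      exact coreAut_normal F b (hres _ hx.1) hc'
    intro x hx
    rw [Subgroup.mem_normalizer_iff]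
    refine fun c => ⟨key x hx c, fun h => ?_⟩
    have := key x⁻¹ (B.inv_mem hx) _ h
    simpa [mul_assoc] using this
  have hT₂ := IsSyl.inf_normal hsyl (inf_le_right : K ≤ B) hKn
  set T₂ := autInducedBy S Q ⊓ stabSub Q b ⊓ K with hT₂def
  -- restrictions of `K` come from `T₂`
  have hKT : ∀ c : stabSub Q b, (c : MulAut Q) ∈ K → ∃ t : stabSub Q b, (t : MulAut Q) ∈ T₂ ∧ resHom hbQ t = resHom hbQ c := by
    have hKst : K ≤ stabSub Q b := inf_le_right.trans inf_le_right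
    have hsyl' : IsSyl p (T₂.subgroupOf (stabSub Q b)) (K.subgroupOf (stabSub Q b)) :=
      ⟨fun x hx => hT₂.1 (Subgroup.mem_subgroupOf.1 hx), isPGroup_subgroupOf hT₂.2.1,
        by rw [Subgroup.relIndex_subgroupOf hKst]; exact hT₂.2.2⟩
    have hKimg : (K.subgroupOf (stabSub Q b)).map (resHom hbQ) ≤ coreAut F p b := by
      rintro _ ⟨c, hc, rfl⟩
      obtain ⟨c', hc', hcc⟩ := (Subgroup.mem_subgroupOf.1 hc).1
      rwa [← Subtype.ext hcc] at *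
    haveI := finite_of_le (hbQ.trans hQA.1)
    have heq := (hsyl'.map (resHom hbQ)).eq_of_le (Subgroup.map_mono hsyl'.1) le_rfl
      ((coreAut_isPGroup F (hbQ.trans hQA.1)).to_le hKimg)
    intro c hc
    obtain ⟨t, ht, hte⟩ := heq.ge ⟨c, hc, rfl⟩
    exact ⟨t, ht, hte⟩
  have hKk : K.map (MulAut.conj k).toMonoidHom = K := Subgroup.mem_normalizer_iff_map_conj_eq.1 (hKn hkB)
  have h1 := hT₂.map_conj k
  rw [hKk] at h1
  obtain ⟨c, hc, hcle⟩ := hT₂.exists_conj h1.2.1 h1.1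
  obtain ⟨t, ht, hte⟩ := hKT ⟨c, (hc.2).2⟩⁻¹ (K.inv_mem hc)
  set n' : MulAut Q := (t : MulAut Q) * (c * k) with hn'
  have hn'B : n' ∈ B := B.mul_mem (hT₂.1 ht).2 (B.mul_mem hc.2 hkB)
  have hn'res : ∀ x : Q, (x : Ω) ∈ b → ((n' x : Q) : Ω) = ((k x : Q) : Ω) := by
    intro x hx
    have h2 : resHom hbQ (⟨n', hn'B.2⟩ : stabSub Q b) = resHom hbQ ⟨k, hkB.2⟩ := by
      rw [show (⟨n', hn'B.2⟩ : stabSub Q b) = t * (⟨c, (hc.2).2⟩ * ⟨k, hkB.2⟩) from rfl, map_mul, map_mul, hte,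
        map_inv, inv_mul_cancel_left]
    exact congrArg (fun f : MulAut b => ((f ⟨x, hx⟩ : b) : Ω)) h2
  have hn'T : ∀ d ∈ T₂, n' * d * n'⁻¹ ∈ T₂ := by
    intro d hd
    have h3 : c * (k * d * k⁻¹) * c⁻¹ ∈ T₂ := hcle ⟨_, ⟨d, hd, rfl⟩, rfl⟩
    rw [show n' * d * n'⁻¹ = (t : MulAut Q) * (c * (k * d * k⁻¹) * c⁻¹) * (t : MulAut Q)⁻¹ by rw [hn']; group]
    exact T₂.mul_mem (T₂.mul_mem ht h3) (T₂.inv_mem ht)
  set V := (coreExt F p b ⊓ normalizerIn S Q) ⊔ Q with hV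
  have hVN : V ≤ normalizerIn S b := sup_le (inf_le_left.trans (coreExt_le F (hbQ.trans hQA.1))) hQNb
  have hχn := (mem_autGroup_iff F hQA.1 n').1 hn'B.1
  have hrn : (Q.subtype.comp n'.toMonoidHom).range = Q := by
    rw [MonoidHom.range_comp, MonoidHom.range_eq_top.2 n'.surjective, ← MonoidHom.range_eq_map, Subgroup.range_subtype]
  obtain ⟨ψn, hψn, hψne⟩ := hQR.2 Q _ hχn hrn
  have hVext : V ≤ extender S Q (Q.subtype.comp n'.toMonoidHom) := by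
    refine sup_le ?_ (le_extender F hχn)
    intro g hg
    obtain ⟨cg, hcg, hcge⟩ := exists_conjAut (P := Q) (K := S) hg.2.1 hg.2.2
    have hgb := (coreExt_le F (hbQ.trans hQA.1) hg.1).2
    have hst : cg ∈ stabSub Q b := fun x => by
      rw [hcge]; exact (Subgroup.mem_normalizer_iff.1 hgb _).symm
    obtain ⟨o, ho, hoe⟩ := hg.1.2
    have hro : resHom hbQ ⟨cg, hst⟩ = o := MulEquiv.ext fun x => Subtype.ext ((hcge _).trans (hoe x).symm)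
    have hcgT : cg ∈ T₂ := ⟨⟨hcg, hst⟩, ⟨⟨cg, hst⟩, (hro ▸ ho : resHom hbQ ⟨cg, hst⟩ ∈ coreAut F p b), rfl⟩,
      autInducedBy_le_autGroup F hQA.1 hcg, hst⟩
    obtain ⟨h, hh, hhe⟩ := (mem_autInducedBy_iff _).1 (hn'T cg hcgT).1.1
    refine Subgroup.subset_closure ⟨hg.2.1, hg.2.2, h, hh, fun x hx => ?_⟩
    have h2 := hhe (n' x)
    rw [MulAut.mul_apply, MulAut.mul_apply, MulAut.inv_apply_self] at h2
    refine Eq.trans ?_ h2
    show ((n' ⟨_, hx⟩ : Q) : Ω) = _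
    rw [show (⟨g * (x : Ω) * g⁻¹, hx⟩ : Q) = cg x from Subtype.ext (hcge x).symm]
  have hψV := restrict_mem F hψn hVext
  set ψV := ψn.comp (Subgroup.inclusion hVext)
  have hψVe : ∀ (x : Q) (hx : (x : Ω) ∈ V), ψV ⟨x, hx⟩ = ((n' x : Q) : Ω) := fun x hx => hψne x x.2 _
  have iV : imgOf ψV b = b :=
    imgOf_eq_of_mapsTo F hψV (hbQ.trans le_sup_right) (hbQ.trans hQA.1)
      (fun x hx => by rw [hψVe ⟨x, hbQ hx⟩ x.2]; exact (hn'B.2 _).2 hx) le_rfl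
  have hVlt : Q < V := by
    refine lt_of_le_of_ne le_sup_right fun he => ?_
    have iR : imgOf ψ₁ R = Q := by
      refine imgOf_eq_of_mapsTo F hψ₁ hW₁.le hQA.1 (fun x hx => ?_) (isConj_card ⟨θ₁', hθ₁', hr₁⟩).ge
      rw [hψ₁e ⟨x, hx⟩ x.2]; exact (k₁ _).2
    have huW : u ∈ normalizerIn S R ⊓ Subgroup.normalizer (P : Set Ω) := ⟨⟨(hUN huU).1, huN⟩, (hUN huU).2⟩
    have h3 : ψ₁ ⟨u, huW⟩ ∈ coreExt F p b := by
      have := apply_mem_coreExt (p := p) F hψ₁ (hPR.le.trans hW₁.le) ⟨u, huW⟩ huU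
      rwa [i₁] at this
    have h4 : ψ₁ ⟨u, huW⟩ ∈ normalizerIn S Q := iR ▸ imgOf_mem_normalizer F hψ₁ hW₁.le ⟨u, huW⟩ huN
    have h5 : ψ₁ ⟨u, huW⟩ ∈ imgOf ψ₁ R := iR.ge (he ▸ Subgroup.mem_sup_left ⟨h3, h4⟩)
    exact huR ((apply_mem_imgOf_iff F hψ₁ _).1 h5)
  obtain ⟨χi, hχi, hχie, hχir, hχiimg⟩ := exists_inv_imgOf F hχ
  have hV'r : imgOf χ V ≤ χ.range := imgOf_le_range χ
  have hvi : ∀ y, (χi.comp (Subgroup.inclusion hV'r)) y ∈ V := by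
    rintro ⟨_, x, hx, rfl⟩
    exact (hχie x ⟨x, rfl⟩).symm ▸ hx
  have hA := F.comp_mem (restrict_mem F hχi hV'r) hψV hvi
  have hvn : ∀ y, (ψV.comp ((χi.comp (Subgroup.inclusion hV'r)).codRestrict V hvi)) y ∈ normalizerIn S b := fun y => by
    have hy : ((⟨_, hvi y⟩ : V) : Ω) ∈ Subgroup.normalizer (b : Set Ω) := (hVN (hvi y)).2
    have := imgOf_mem_normalizer F hψV (hbQ.trans le_sup_right) ⟨_, hvi y⟩ hy
    rwa [iV] at this
  have hLn := F.comp_mem hA hχ hvn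
  have hPV : P ≤ imgOf χ V := hχb ▸ Subgroup.map_mono (Subgroup.comap_mono (hbQ.trans le_sup_right))
  have hcV : Nat.card (imgOf χ V) = Nat.card V := card_imgOf F hχ hVN
  haveI := finite_of_le (hVN.trans (normalizerIn_le S b))
  haveI := finite_of_le (imgOf_le F hχ (a := V))
  have hcQ : Nat.card Q = Nat.card R := (isConj_card ⟨θ₁', hθ₁', hr₁⟩).symm
  have hVc : Nat.card R < Nat.card (imgOf χ V) := by
    rw [hcV, ← hcQ]; exact Cfsg.Agent.FusionSys.card_lt_of_lt hVlt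
  have hPV' : P < imgOf χ V := lt_of_le_of_ne hPV fun he => by
    have h1 := Cfsg.Agent.FusionSys.card_lt_of_lt hPR
    have h2 : Nat.card P = Nat.card (imgOf χ V) := by rw [← he]
    omega
  have hiLn : ∀ (y : normalizerIn S b) (hy : (y : Ω) ∈ b), ∀ h : χ y ∈ imgOf χ V,
      (χ.comp ((ψV.comp ((χi.comp (Subgroup.inclusion hV'r)).codRestrict V hvi)).codRestrict _ hvn)) ⟨χ y, h⟩ =
        χ ⟨((n' ⟨y, hbQ hy⟩ : Q) : Ω), hQNb (n' _).2⟩ := by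
    intro y hy h
    refine congrArg χ (Subtype.ext ?_)
    show ψV ⟨χi ⟨χ y, _⟩, _⟩ = _
    rw [← hψVe ⟨y, hbQ hy⟩ (Subgroup.mem_sup_right (hbQ hy))]
    exact congrArg ψV (Subtype.ext (hχie y _))
  have Ln := ih _ (by have := hle _ (hom_le F hLn); omega) hLn hPV'
    (fun y hy => by
      obtain ⟨x, hx, rfl⟩ := hy
      exact hχb ▸ imgOf_mem_normalizer F hχ (hbQ.trans hQNb) x (hVN hx).2)
    (imgOf_eq_of_mapsTo F hLn hPV hPS (fun y hy => by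
      obtain ⟨x, hx', hxy⟩ := hχb.ge hy
      have hx : (x : Ω) ∈ b := hx'
      rw [show y = (⟨χ x, hxy ▸ y.2⟩ : imgOf χ V) from Subtype.ext hxy.symm, hiLn x hx]
      exact hχb.le ⟨_, (hn'B.2 ⟨x, hbQ hx⟩).2 hx, rfl⟩) le_rfl) rfl
  -- assemble
  have f₁P : ∀ x : P, χ ⟨ψ₁ ⟨x, (hPR.le.trans hW₁.le) x.2⟩, hv₁ _⟩ ∈ P :=
    fun x => hχb.le ⟨_, i₁.le ⟨_, x.2, rfl⟩, rfl⟩
  have f₂P : ∀ x : P, χ ⟨ψ₂ ⟨x, (hPM.trans hW₂.le) x.2⟩, hv₂' _⟩ ∈ P :=
    fun x => hχb.le ⟨_, i₂.le ⟨_, x.2, rfl⟩, rfl⟩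
  classical
  let g : P → Ω := fun y => if h : ∃ x : P, χ ⟨ψ₂ ⟨x, (hPM.trans hW₂.le) x.2⟩, hv₂' _⟩ = y then h.choose else 1
  have hg : ∀ x : P, g ⟨_, f₂P x⟩ = x := by
    intro x
    have hex : ∃ z : P, χ ⟨ψ₂ ⟨z, (hPM.trans hW₂.le) z.2⟩, hv₂' _⟩ =
        ((⟨_, f₂P x⟩ : P) : Ω) := ⟨x, rfl⟩
    simp only [g, dif_pos hex]
    have h6 := hex.choose_spec
    have h7 := congrArg Subtype.val (F.injective_of_mem hχ h6)
    have h8 := F.injective_of_mem hψ₂ h7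
    exact (congrArg Subtype.val h8 :)
  have G₂ := extRel_inv hS hPS f₂P hg L₂
  have f₃P : ∀ x : P, φ ⟨x, hPR.le x.2⟩ ∈ P := fun x => hφP.le ⟨_, x.2, rfl⟩
  have L₁n : ExtRel F p P fun x => χ ⟨ψ₂ ⟨φ ⟨x, hPR.le x.2⟩, (hPM.trans hW₂.le) (f₃P x)⟩, hv₂' _⟩ := by
    refine extRel_comp hS hPS f₁P (fun x => ?_) L₁ Ln
    refine Eq.trans ?_ (hiLn ⟨ψ₁ ⟨x, (hPR.le.trans hW₁.le) x.2⟩, hv₁ _⟩ (i₁.le ⟨_, x.2, rfl⟩) _).symm
    refine congrArg χ (Subtype.ext ?_)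
    show ψ₂ _ = ((n' _ : Q) : Ω)
    rw [hn'res _ (i₁.le ⟨_, x.2, rfl⟩)]
    have e₁ : (⟨ψ₁ ⟨x, (hPR.le.trans hW₁.le) x.2⟩, hbQ (i₁.le ⟨_, x.2, rfl⟩)⟩ : Q) =
        k₁ ⟨θ₁' ⟨x, hPR.le x.2⟩, hr₁.le ⟨_, rfl⟩⟩ := Subtype.ext (hψ₁e ⟨x, hPR.le x.2⟩ _)
    rw [e₁, hkdef, MulAut.mul_apply, MulAut.inv_apply_self, hψ₂e ⟨φ ⟨x, hPR.le x.2⟩, _, rfl⟩]
    exact congrArg (fun z => ((k₂ z : Q) : Ω))
      (Subtype.ext (congrArg θ₁' (Subtype.ext (hφie ⟨x, hPR.le x.2⟩ ⟨_, rfl⟩))))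
  exact extRel_comp hS hPS (fun x => f₂P ⟨_, f₃P x⟩) (fun x => (hg ⟨_, f₃P x⟩).symm) L₁n G₂

theorem stepRel_of_lt (hS : IsPGroup p S) (hsat : ∀ R ≤ S, (∃ a ≤ R, F.IsConj P a) → Nat.card P < Nat.card R → SatClass F p R)
    (hP : F.IsFullyNormalized P) (hgood : ∀ a, F.IsConj P a → Arrow F a P) {R a : Subgroup Ω} {φ : R →* Ω}
    (hφ : φ ∈ F.Hom R) (haR : a < R) (hPa : F.IsConj P a) : StepRel F p P φ a := by
  intro b hb ψ hψ hψa ψ' hψ' hψb f hf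
  have hlt := lt_inf_normalizerIn hS (hom_le F hφ) haR
  obtain ⟨ψi, hψi, hψie, -, hψiimg⟩ := exists_inv_imgOf F hψ
  set R' := R ⊓ normalizerIn S a with hR'
  set M := imgOf ψ R' with hM
  have hMr : M ≤ ψ.range := imgOf_le_range ψ
  have hv1 : ∀ y, (ψi.comp (Subgroup.inclusion hMr)) y ∈ R := by
    rintro ⟨_, x, hx, rfl⟩
    have e := hψie x ⟨x, rfl⟩
    exact e.symm ▸ (hx : (x : Ω) ∈ R').1
  have hA := F.comp_mem (restrict_mem F hψi hMr) hφ hv1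
  have hv1' : ∀ y, ((ψi.comp (Subgroup.inclusion hMr)) y : Ω) ∈ normalizerIn S a := by
    rintro ⟨_, x, hx, rfl⟩
    have e := hψie x ⟨x, rfl⟩
    exact e.symm ▸ (hx : (x : Ω) ∈ R').2
  have hv2 : ∀ y, (φ.comp ((ψi.comp (Subgroup.inclusion hMr)).codRestrict R hv1)) y ∈ normalizerIn S b := by
    intro y
    have := imgOf_mem_normalizer F hφ haR.le ⟨_, hv1 y⟩ (hv1' y).2
    rw [hb] at this
    exact this
  have hB := F.comp_mem hA hψ' hv2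
  have haN : a ≤ normalizerIn S a := le_normalizerIn (isConj_le_right hPa)
  have hPM : P ≤ M := hψa ▸ Subgroup.map_mono (Subgroup.comap_mono hlt.le)
  have hPM' : P < M := by
    refine lt_of_le_of_ne hPM fun he => ?_
    have h1 : Nat.card M = Nat.card R' := card_imgOf F hψ inf_le_right
    have h2 := isConj_card hPa
    haveI := finite_of_le ((inf_le_right : R' ≤ _).trans (normalizerIn_le S a))
    have h3 := Cfsg.Agent.FusionSys.card_lt_of_lt hlt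
    rw [← he] at h1
    omega
  have hMN : M ≤ normalizerIn S P := by
    rintro _ ⟨x, hx, rfl⟩
    exact hψa ▸ imgOf_mem_normalizer F hψ haN x x.2.2
  have hval : ∀ (x : normalizerIn S a) (h : ψ x ∈ M) (hxR : (x : Ω) ∈ R) (h2 : φ ⟨x, hxR⟩ ∈ normalizerIn S b),
      (ψ'.comp ((φ.comp ((ψi.comp (Subgroup.inclusion hMr)).codRestrict R hv1)).codRestrict _ hv2)) ⟨ψ x, h⟩ =
        ψ' ⟨φ ⟨x, hxR⟩, h2⟩ := fun x h hxR h2 =>
    congrArg ψ' (Subtype.ext (congrArg φ (Subtype.ext (hψie x _))))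
  have hfix : imgOf _ P = P := imgOf_eq_of_mapsTo F hB hPM hP.1 (fun y hy => by
    obtain ⟨x, hx', hxy⟩ := hψa.ge hy
    have hx : (x : Ω) ∈ a := hx'
    have hφn : φ ⟨x, haR.le hx⟩ ∈ normalizerIn S b :=
      hb ▸ imgOf_mem_normalizer F hφ haR.le _ (Subgroup.le_normalizer hx)
    have e : y = (⟨ψ x, hxy ▸ y.2⟩ : M) := Subtype.ext hxy.symm
    rw [e, hval x _ (haR.le hx) hφn]
    exact hψb.le ⟨_, hb.le ⟨⟨x, haR.le hx⟩, hx, rfl⟩, rfl⟩) le_rfl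
  refine extRel_congr (fun y => ?_) (loop hS hsat hP hgood hB hPM' hMN hfix)
  obtain ⟨y, hy⟩ := y
  obtain ⟨x, hx', hxy⟩ := hψa.ge hy
  subst hxy
  have hx : (x : Ω) ∈ a := hx'
  have hφn : φ ⟨x, haR.le hx⟩ ∈ normalizerIn S b :=
    hb ▸ imgOf_mem_normalizer F hφ haR.le _ (Subgroup.le_normalizer hx)
  exact (hval x _ (haR.le hx) hφn).trans (hf ⟨x, haR.le hx⟩ x.2 _ hφn hx).symm

theorem autExt_all (hS : IsPGroup p S) (hsat : ∀ R ≤ S, (∃ a ≤ R, F.IsConj P a) → Nat.card P < Nat.card R → SatClass F p R)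
    (hP : F.IsFullyNormalized P) (ℋ : Set (Subgroup Ω)) (hℋconj : ∀ P ∈ ℋ, ∀ Q, F.IsConj P Q → Q ∈ ℋ)
    (hgen : ∀ E : FusionSystem S, (∀ P ∈ ℋ, F.Hom P ⊆ E.Hom P) → F ≤ E) (hPn : P ∉ ℋ) (hSℋ : S ∈ ℋ)
    {α : MulAut P} (hα : α ∈ F.autGroup P) : ExtRel F p P fun x => (α x : Ω) := by
  have hgood := good_all hS hsat hP ℋ hℋconj hgen hPn hSℋ
  have hne : ∀ R ∈ ℋ, ∀ a, F.IsConj P a → a ≠ R := fun R hR a ha he =>
    hPn (hℋconj R hR P (he ▸ isConj_symm ha))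
  let E : FusionSystem S :=
    { Hom := fun R => {φ | φ ∈ F.Hom R ∧ ∀ a ≤ R, F.IsConj P a → StepRel F p P φ a}
      le_of_mem := fun h => F.le_of_mem h.1
      injective_of_mem := fun h => F.injective_of_mem h.1
      conj_mem := by
        intro R g hR hg
        refine ⟨F.conj_mem hR hg, fun a ha hPa b hb ψ hψ hψa ψ' hψ' hψb f hf => ?_⟩
        refine stepRel_of_lt hS hsat hP hgood (F.conj_mem le_rfl hg)
          (lt_of_le_of_ne (ha.trans hR) (hne S hSℋ a hPa)) hPa b ?_ ψ hψ hψa ψ' hψ' hψb f ?_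
        · rw [← hb]
          exact imgOf_congr (ha.trans hR) ha fun x hx => rfl
        · exact fun x h0 h1 h2 hx => hf ⟨x, ha hx⟩ h0 h1 h2 hx
      comp_mem := by
        rintro R T φ χ ⟨hφ, h1⟩ ⟨hχ, h2⟩ h
        refine ⟨F.comp_mem hφ hχ h, fun a ha hPa c hc ψ hψ hψa ψ'' hψ'' hψc f hf => ?_⟩
        rw [imgOf_comp] at hc
        have hPb := isConj_trans hPa (isConj_imgOf F hφ ha)
        obtain ⟨ψ', hψ', hψb⟩ := hgood _ hPb
        have hbT : imgOf φ a ≤ T := by rintro _ ⟨x, -, rfl⟩; exact h x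
        obtain ⟨ψi, hψi, hψie, -, hψiimg⟩ := exists_inv_imgOf F hψ
        have hPr : P ≤ ψ.range := hψa ▸ imgOf_le_range ψ
        have haN : a ≤ normalizerIn S a := le_normalizerIn (isConj_le_right hPa)
        have hia : ∀ y : P, ψi ⟨y, hPr y.2⟩ ∈ a := by
          rintro ⟨y, hy⟩
          obtain ⟨x, hx, rfl⟩ := hψa.ge hy
          exact (hψie x ⟨x, rfl⟩).symm ▸ (hx : (x : Ω) ∈ a)
        have hfb : ∀ y : P, φ ⟨ψi ⟨y, hPr y.2⟩, ha (hia y)⟩ ∈ imgOf φ a := fun y => ⟨_, hia y, rfl⟩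
        have hbN : imgOf φ a ≤ normalizerIn S (imgOf φ a) := le_normalizerIn (imgOf_le F hφ)
        let f₁ : P → Ω := fun y => ψ' ⟨_, hbN (hfb y)⟩
        have hf₁P : ∀ y, f₁ y ∈ P := fun y => hψb.le ⟨_, hfb y, rfl⟩
        have r1 : ExtRel F p P f₁ := by
          refine h1 a ha hPa _ rfl ψ hψ hψa ψ' hψ' hψb f₁ fun x h0 h1' h2' hx => ?_
          exact congrArg ψ' (Subtype.ext (congrArg φ (Subtype.ext (hψie ⟨x, h0⟩ _))))
        obtain ⟨ψ'i, hψ'i, hψ'ie, -, -⟩ := exists_inv_imgOf F hψ'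
        have hPr' : P ≤ ψ'.range := hψb ▸ imgOf_le_range ψ'
        have hib : ∀ z : P, ψ'i ⟨z, hPr' z.2⟩ ∈ imgOf φ a := by
          rintro ⟨z, hy⟩
          obtain ⟨x, hx, rfl⟩ := hψb.ge hy
          exact (hψ'ie x ⟨x, rfl⟩).symm ▸ (hx : (x : Ω) ∈ imgOf φ a)
        have hcN : ∀ z : P, χ ⟨ψ'i ⟨z, hPr' z.2⟩, hbT (hib z)⟩ ∈ normalizerIn S c := fun z =>
          le_normalizerIn (hc ▸ imgOf_le F hχ) (hc.le ⟨_, hib z, rfl⟩)
        let f₂ : P → Ω := fun z => ψ'' ⟨_, hcN z⟩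
        have r2 : ExtRel F p P f₂ := by
          refine h2 _ hbT hPb c hc ψ' hψ' hψb ψ'' hψ'' hψc f₂ fun x h0 h1' h2' hx => ?_
          exact congrArg ψ'' (Subtype.ext (congrArg χ (Subtype.ext (hψ'ie ⟨x, h0⟩ _))))
        refine extRel_comp hS hP.1 hf₁P (fun y => ?_) r1 r2
        obtain ⟨y, hy⟩ := y
        obtain ⟨x, hx', hxy⟩ := hψa.ge hy
        subst hxy
        have hx : (x : Ω) ∈ a := hx'
        have h2x : (χ.comp (φ.codRestrict T h)) ⟨x, ha hx⟩ ∈ normalizerIn S c :=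
          le_normalizerIn (hc ▸ imgOf_le F hχ) (hc.le ⟨_, ⟨_, hx, rfl⟩, rfl⟩)
        rw [hf ⟨x, ha hx⟩ x.2 _ h2x hx]
        refine congrArg ψ'' (Subtype.ext (congrArg χ (Subtype.ext ?_)))
        refine Eq.trans ?_ (hψ'ie ⟨_, hbN (hfb _)⟩ ⟨_, rfl⟩).symm
        exact (congrArg φ (Subtype.ext (hψie x _))).symm
      inv_mem := by
        rintro R φ ⟨hφ, h1⟩
        obtain ⟨φi, hφi, hφie, -, hφiimg⟩ := exists_inv_imgOf F hφ
        refine ⟨φi, ⟨hφi, fun c hc hPc b hb ψ hψ hψc ψ' hψ' hψb f hf => ?_⟩, fun x => hφie x _⟩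
        obtain ⟨a, ha, rfl⟩ := exists_preimg φ hc
        rw [hφiimg a ha] at hb
        subst hb
        have hPa : F.IsConj P a := isConj_trans hPc (isConj_symm (isConj_imgOf F hφ ha))
        have haN : a ≤ normalizerIn S a := le_normalizerIn (isConj_le_right hPa)
        obtain ⟨ψ'i, hψ'i, hψ'ie, -, -⟩ := exists_inv_imgOf F hψ'
        have hPr' : P ≤ ψ'.range := hψb ▸ imgOf_le_range ψ'
        have hib : ∀ z : P, ψ'i ⟨z, hPr' z.2⟩ ∈ a := by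
          rintro ⟨z, hy⟩
          obtain ⟨x, hx, rfl⟩ := hψb.ge hy
          exact (hψ'ie x ⟨x, rfl⟩).symm ▸ (hx : (x : Ω) ∈ a)
        have hbN : imgOf φ a ≤ normalizerIn S (imgOf φ a) := le_normalizerIn (imgOf_le F hφ)
        have hfb : ∀ z : P, φ ⟨ψ'i ⟨z, hPr' z.2⟩, ha (hib z)⟩ ∈ imgOf φ a := fun z => ⟨_, hib z, rfl⟩
        let g : P → Ω := fun z => ψ ⟨_, hbN (hfb z)⟩
        have hgP : ∀ z, g z ∈ P := fun z => hψc.le ⟨_, hfb z, rfl⟩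
        have r : ExtRel F p P g := by
          refine h1 a ha hPa _ rfl ψ' hψ' hψb ψ hψ hψc g fun x h0 h1' h2' hx => ?_
          exact congrArg ψ (Subtype.ext (congrArg φ (Subtype.ext (hψ'ie ⟨x, h0⟩ _))))
        refine extRel_inv hS hP.1 hgP (fun z => ?_) r
        obtain ⟨z, hz⟩ := z
        obtain ⟨x, hx', hxy⟩ := hψb.ge hz
        subst hxy
        have hx : (x : Ω) ∈ a := hx'
        have e1 : ψ'i ⟨ψ' x, hPr' hz⟩ = x := hψ'ie x _
        let r₀ : R := ⟨ψ'i ⟨ψ' x, hPr' hz⟩, ha (hib ⟨ψ' x, hz⟩)⟩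
        have e2 : φi ⟨φ r₀, r₀, rfl⟩ = (x : Ω) := (hφie r₀ ⟨r₀, rfl⟩).trans e1
        refine (hf ⟨φ r₀, r₀, rfl⟩ (hbN (hfb ⟨_, hz⟩)) (hgP ⟨_, hz⟩) (e2.symm ▸ x.2) (hfb ⟨_, hz⟩)).trans ?_
        exact congrArg ψ' (Subtype.ext e2) }
  have hFE := hgen E fun R hR φ hφ =>
    ⟨hφ, fun a ha hPa => stepRel_of_lt hS hsat hP hgood hφ (lt_of_le_of_ne ha (hne R hR a hPa)) hPa⟩
  have hαm := (mem_autGroup_iff F hP.1 α).1 hα
  have hr : imgOf (P.subtype.comp α.toMonoidHom) P = P := by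
    rw [imgOf_self, MonoidHom.range_comp, MonoidHom.range_eq_top.2 α.surjective, ← MonoidHom.range_eq_map,
      Subgroup.range_subtype]
  exact (hFE P hαm).2 P le_rfl (isConj_refl F hP.1) P hr _ (subtype_mem F (normalizerIn_le S P))
    (imgOf_subtype (le_normalizerIn hP.1)) _ (subtype_mem F (normalizerIn_le S P))
    (imgOf_subtype (le_normalizerIn hP.1)) _ fun x h0 h1 h2 hx => rfl

theorem satClass_of_larger (hS : IsPGroup p S) (hsat : ∀ R ≤ S, (∃ a ≤ R, F.IsConj P a) → Nat.card P < Nat.card R → SatClass F p R)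
    (hP : F.IsFullyNormalized P) (ℋ : Set (Subgroup Ω)) (hℋconj : ∀ P ∈ ℋ, ∀ Q, F.IsConj P Q → Q ∈ ℋ)
    (hgen : ∀ E : FusionSystem S, (∀ P ∈ ℋ, F.Hom P ⊆ E.Hom P) → F ≤ E) (hPn : P ∉ ℋ) (hSℋ : S ∈ ℋ)
    (hstar : F.IsCentric P → ∃ Q, F.IsConj P Q ∧
      ¬ (autInducedBy S Q ⊓ (Cfsg.pCore p (F.autGroup Q)).map (F.autGroup Q).subtype ≤ Inn Q)) :
    SatClass F p P := by
  have hgood := good_all hS hsat hP ℋ hℋconj hgen hPn hSℋ
  have hU := lt_coreExt hS hP hgood hstar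
  have hPS := hP.1
  have hUN := coreExt_le (p := p) F hPS
  have hUS : coreExt F p P ≤ S := hUN.trans (normalizerIn_le S P)
  haveI := finite_of_le hUS
  obtain ⟨Q, ⟨θ₁, hθ₁, hθ₁r⟩, hQA, hQR⟩ := hsat _ hUS ⟨P, hU.le, isConj_refl F hPS⟩ (Cfsg.Agent.FusionSys.card_lt_of_lt hU)
  haveI := finite_of_le hQA.1
  obtain ⟨γ, hγ, hsyl⟩ := exists_sylStab hS hQA (a := imgOf θ₁ P) (hθ₁r ▸ imgOf_le_range θ₁)
  have hγm := (mem_autGroup_iff F hQA.1 γ).1 hγ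
  have hθ := F.comp_mem hθ₁ hγm fun x => hθ₁r.le ⟨x, rfl⟩
  set θ := (Q.subtype.comp γ.toMonoidHom).comp (θ₁.codRestrict Q fun x => hθ₁r.le ⟨x, rfl⟩)
  rw [← imgOf_comp θ₁ (Q.subtype.comp γ.toMonoidHom) fun x => hθ₁r.le ⟨x, rfl⟩] at hsyl
  set b := imgOf θ P with hb
  have hr : θ.range = Q := by
    rw [range_comp_of_range _ _ _ hθ₁r, MonoidHom.range_comp, MonoidHom.range_eq_top.2 γ.surjective,
      ← MonoidHom.range_eq_map, Subgroup.range_subtype]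
  obtain ⟨k, hk, ψ, hψ, hψe⟩ := to_hub hS hQR hθ hr hU.le rfl hsyl
  have hW : normalizerIn S P ≤ normalizerIn S (coreExt F p P) ⊓ Subgroup.normalizer (P : Set Ω) :=
    fun g hg => ⟨⟨hg.1, coreExt_le_normalizer hS hPS hg⟩, hg.2⟩
  have hPN := le_normalizerIn hPS
  have hψ' := restrict_mem F hψ hW
  set ν := ψ.comp (Subgroup.inclusion hW)
  have hνe : ∀ (x : coreExt F p P) (hx : (x : Ω) ∈ normalizerIn S P),
      ν ⟨x, hx⟩ = ((k ⟨θ x, hr.le ⟨x, rfl⟩⟩ : Q) : Ω) := fun x hx => hψe x (hW hx)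
  have iP : imgOf ν P = b := imgOf_hub (F := F) hr hU.le hUN rfl hk.2 hνe
  have iU : imgOf ν (coreExt F p P) = Q := by
    refine imgOf_eq_of_mapsTo F hψ' hUN hQA.1 (fun x hx => ?_) (isConj_card ⟨θ, hθ, hr⟩).ge
    rw [hνe ⟨x, hx⟩ x.2]
    exact (k _).2
  have hPb : F.IsConj P b := isConj_imgOf F hθ hU.le
  have hbS := isConj_le_right hPb
  haveI := finite_of_le (normalizerIn_le S b)
  have hνN : ν.range ≤ normalizerIn S b := by
    rintro _ ⟨x, rfl⟩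
    exact iP ▸ imgOf_mem_normalizer F hψ' hPN x x.2.2
  have hνc : Nat.card ν.range = Nat.card (normalizerIn S P) := (isConj_card ⟨ν, hψ', rfl⟩).symm
  have hνr : ν.range = normalizerIn S b :=
    Subgroup.eq_of_le_of_card_ge hνN (hνc ▸ hP.2 b hPb)
  have hbfn : F.IsFullyNormalized b :=
    ⟨hbS, fun a ha => by rw [← hνr, hνc]; exact hP.2 a (isConj_trans hPb ha)⟩
  have hbU : coreExt F p b = Q := by
    refine le_antisymm (fun u hu => ?_) ?_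
    · obtain ⟨x, rfl⟩ := hνr.ge (coreExt_le F hbS hu)
      rw [← iP, apply_mem_coreExt_iff F hψ' hPN] at hu
      exact iU.le ⟨x, hu, rfl⟩
    · rintro y hy
      obtain ⟨x, hx, rfl⟩ := iU.ge hy
      exact iP ▸ apply_mem_coreExt (p := p) F hψ' hPN x hx
  have hbn : b ∉ ℋ := fun h => hPn (hℋconj b h P (isConj_symm hPb))
  have hcb := isConj_card hPb
  have hsat' : ∀ R ≤ S, (∃ a ≤ R, F.IsConj b a) → Nat.card b < Nat.card R → SatClass F p R :=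
    fun R hR ⟨a, ha, hac⟩ hc => hsat R hR ⟨a, ha, isConj_trans hPb hac⟩ (hcb ▸ hc)
  have hbQ : b ≤ Q := hr ▸ imgOf_le_range θ
  have hlift : ∀ α ∈ F.autGroup b, ∃ β : stabSub Q b, (β : MulAut Q) ∈ F.autGroup Q ∧ resHom hbQ β = α := by
    intro α hα
    obtain ⟨χ, hχ, hχe⟩ := autExt_all hS hsat' hbfn ℋ hℋconj hgen hbn hSℋ hα
    obtain ⟨hb', hv⟩ := extRel_values hS hbS (fun x => (α x).2) hχ hχe
    have hQU : Q ≤ coreExt F p b := hbU.ge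
    have hχQ := restrict_mem F hχ hQU
    have hrQ : (χ.comp (Subgroup.inclusion hQU)).range = Q := by
      refine Subgroup.eq_of_le_of_card_ge ?_ (isConj_card ⟨_, hχQ, rfl⟩).le
      rintro _ ⟨x, rfl⟩
      exact hbU.le (hv _)
    obtain ⟨β, hβ, hβe⟩ := exists_autGroup_of_range F hχQ hrQ
    have hst : β ∈ stabSub Q b := fun x => by
      rw [hβe]
      have h1 := apply_mem_imgOf_iff F hχ (a := b) (Subgroup.inclusion hQU x)
      rw [hb'] at h1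
      exact h1
    exact ⟨⟨β, hst⟩, hβ, MulEquiv.ext fun x =>
      Subtype.ext ((hβe _).trans (hχe x (hQU (hbQ x.2))))⟩
  haveI := finite_of_le hbS
  have hres : ∀ β : stabSub Q b, (β : MulAut Q) ∈ F.autGroup Q → resHom hbQ β ∈ F.autGroup b := by
    intro β hβ
    rw [mem_autGroup_iff F hbS]
    exact hom_congr F (restrict_mem F ((mem_autGroup_iff F hQA.1 _).1 hβ) hbQ) fun x => rfl
  set T := autInducedBy S Q ⊓ stabSub Q b with hT
  set B := F.autGroup Q ⊓ stabSub Q b with hB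
  have hsylTB : IsSyl p T B := hsyl
  have hsyl' : IsSyl p (T.subgroupOf (stabSub Q b)) (B.subgroupOf (stabSub Q b)) :=
    ⟨fun x hx => hsylTB.1 (Subgroup.mem_subgroupOf.1 hx), isPGroup_subgroupOf hsylTB.2.1,
      by rw [Subgroup.relIndex_subgroupOf inf_le_right]; exact hsylTB.2.2⟩
  have himgB : (B.subgroupOf (stabSub Q b)).map (resHom hbQ) = F.autGroup b := by
    refine le_antisymm ?_ fun α hα => ?_
    · rintro _ ⟨β, hβ, rfl⟩
      exact hres β (Subgroup.mem_subgroupOf.1 hβ).1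
    · obtain ⟨β, hβ, hβe⟩ := hlift α hα
      exact ⟨β, Subgroup.mem_subgroupOf.2 ⟨hβ, β.2⟩, hβe⟩
  have himgT : (T.subgroupOf (stabSub Q b)).map (resHom hbQ) ≤ autInducedBy S b := by
    rintro _ ⟨β, hβ, rfl⟩
    obtain ⟨g, hg, hge⟩ := (mem_autInducedBy_iff _).1 (Subgroup.mem_subgroupOf.1 hβ).1
    exact (mem_autInducedBy_iff _).2 ⟨g, hg, fun x => hge _⟩
  have hsylb := hsyl'.map (resHom hbQ)
  rw [himgB] at hsylb
  have heq := hsylb.eq_of_le himgT (autInducedBy_le_autGroup F hbS) (autInducedBy_isPGroup hS)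
  refine ⟨b, hPb, fullyAutomized_of_isSyl_aut hbS (heq ▸ hsylb), hbS, ?_⟩
  intro P' φ hφ hφr
  have hP'b : F.IsConj b P' := isConj_symm ⟨φ, hφ, hφr⟩
  obtain ⟨χ, hχ, hχb⟩ := good_all hS hsat' hbfn ℋ hℋconj hgen hbn hSℋ P' hP'b
  have hP'N : P' ≤ normalizerIn S P' := le_normalizerIn (isConj_le_right hP'b)
  have hχr : (χ.comp (Subgroup.inclusion hP'N)).range = b := (range_restrict χ hP'N).trans hχb
  set e₁ := mapEquiv F (restrict_mem F hχ hP'N) hχr with he₁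
  set e₂ := mapEquiv F hφ hφr with he₂
  have he₁s := mapEquiv_symm_mem F (restrict_mem F hχ hP'N) hχr
  have he₂m : b.subtype.comp e₂.toMonoidHom ∈ F.Hom P' := hom_congr F hφ fun _ => rfl
  set α : MulAut b := e₁.symm.trans e₂ with hαdef
  have hα : α ∈ F.autGroup b :=
    (mem_autGroup_iff F hbS α).2 (hom_congr F (F.comp_mem he₁s he₂m fun x => (e₁.symm x).2) fun _ => rfl)
  obtain ⟨β, hβ, hβα⟩ := hlift α hα
  -- the part of `T` that `α` carries into `Aut_S(b)`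
  let L : Subgroup (MulAut b) := (autInducedBy S b).map (MulAut.conj α⁻¹).toMonoidHom
  set X := T ⊓ (L.comap (resHom hbQ)).map (stabSub Q b).subtype with hX
  set K := B ⊓ ((autInducedBy S b).comap (resHom hbQ)).map (stabSub Q b).subtype with hK
  have hTK : T ≤ K := fun x hx => ⟨hsylTB.1 hx, ⟨x, hx.2⟩, heq.le ⟨⟨x, hx.2⟩, hx, rfl⟩, rfl⟩
  have hsylK : IsSyl p T K :=
    ⟨hTK, hsylTB.2.1, fun hd => hsylTB.2.2 (hd.trans (Dvd.intro _ (Subgroup.relIndex_mul_relIndex T K B hTK inf_le_left)))⟩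
  have hXK : X.map (MulAut.conj (β : MulAut Q)).toMonoidHom ≤ K := by
    rintro _ ⟨x, ⟨hxT, y, hy, rfl⟩, rfl⟩
    refine ⟨B.mul_mem (B.mul_mem ⟨hβ, β.2⟩ (hsylTB.1 hxT)) (B.inv_mem ⟨hβ, β.2⟩), β * y * β⁻¹, ?_, rfl⟩
    obtain ⟨z, hz, hzy⟩ := hy
    rw [SetLike.mem_coe, Subgroup.mem_comap, map_mul, map_mul, map_inv, ← hzy, hβα]
    show α * (α⁻¹ * z * α⁻¹⁻¹) * α⁻¹ ∈ autInducedBy S b
    have e : α * (α⁻¹ * z * α⁻¹⁻¹) * α⁻¹ = z := by group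
    rw [e]
    exact hz
  obtain ⟨c, hc, hcle⟩ := hsylK.exists_conj ((hsylTB.2.1.to_le inf_le_left).map _) hXK
  obtain ⟨c', hc', hcc⟩ := hc.2
  obtain ⟨t, ht, hte⟩ := heq.ge hc'
  set n : MulAut Q := ((t⁻¹ * c' * β : stabSub Q b) : MulAut Q) with hn
  have hc'A : (c' : MulAut Q) ∈ F.autGroup Q := by
    have := hc.1.1
    rw [← hcc] at this
    exact this
  have htA : (t : MulAut Q) ∈ F.autGroup Q := (hsylTB.1 (Subgroup.mem_subgroupOf.1 ht)).1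
  have hnB : n ∈ B :=
    ⟨(F.autGroup Q).mul_mem ((F.autGroup Q).mul_mem ((F.autGroup Q).inv_mem htA) hc'A) hβ,
      (t⁻¹ * c' * β).2⟩
  have hnres : resHom hbQ (t⁻¹ * c' * β) = α := by
    rw [map_mul, map_mul, map_inv, hte, inv_mul_cancel, one_mul, hβα]
  have hnT : ∀ x ∈ X, n * x * n⁻¹ ∈ T := by
    intro x hx
    have h3 : c * ((β : MulAut Q) * x * (β : MulAut Q)⁻¹) * c⁻¹ ∈ T := hcle ⟨_, ⟨x, hx, rfl⟩, rfl⟩
    have e : n * x * n⁻¹ = (t : MulAut Q)⁻¹ * (c * ((β : MulAut Q) * x * (β : MulAut Q)⁻¹) * c⁻¹) * (t : MulAut Q) := by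
      rw [hn, ← hcc]
      push_cast
      simp only [Subgroup.coe_subtype]
      group
    rw [e]
    exact T.mul_mem (T.mul_mem (T.inv_mem (Subgroup.mem_subgroupOf.1 ht)) h3) (Subgroup.mem_subgroupOf.1 ht)
  have hnm := (mem_autGroup_iff F hQA.1 n).1 hnB.1
  have hrn : (Q.subtype.comp n.toMonoidHom).range = Q := by
    rw [MonoidHom.range_comp, MonoidHom.range_eq_top.2 n.surjective, ← MonoidHom.range_eq_map,
      Subgroup.range_subtype]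
  obtain ⟨ψn, hψn, hψne⟩ := hQR.2 Q _ hnm hrn
  have hQN : normalizerIn S b ≤ Subgroup.normalizer (Q : Set Ω) := hbU ▸ coreExt_le_normalizer hS hbS
  have hExt : extender S P' φ ≤ ((extender S Q (Q.subtype.comp n.toMonoidHom)).comap χ).map
      (normalizerIn S P').subtype := by
    refine (Subgroup.closure_le _).2 ?_
    rintro g ⟨hgS, hgN, h, hh, hhe⟩
    have hg : g ∈ normalizerIn S P' := ⟨hgS, hgN⟩
    refine ⟨⟨g, hg⟩, ?_, rfl⟩
    show χ ⟨g, hg⟩ ∈ extender S Q _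
    set d := χ ⟨g, hg⟩ with hd
    have hdN : d ∈ normalizerIn S b := hχb ▸ imgOf_mem_normalizer F hχ hP'N ⟨g, hg⟩ hgN
    obtain ⟨cd, hcd, hcde⟩ := exists_conjAut (P := Q) (K := S) hdN.1 (hQN hdN)
    have hst : cd ∈ stabSub Q b := fun x => by
      rw [hcde]; exact (Subgroup.mem_normalizer_iff.1 hdN.2 _).symm
    have hL : α * resHom hbQ ⟨cd, hst⟩ * α⁻¹ ∈ autInducedBy S b := by
      refine (mem_autInducedBy_iff _).2 ⟨h, hh, fun y => ?_⟩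
      obtain ⟨z, rfl⟩ := e₂.surjective y
      have hz : g * (z : Ω) * g⁻¹ ∈ P' := (Subgroup.mem_normalizer_iff.1 hgN _).1 z.2
      have e3 : (α⁻¹ (e₂ z) : b) = e₁ z := by
        apply α.injective
        rw [MulAut.apply_inv_self]
        exact (congrArg e₂ (e₁.symm_apply_apply z)).symm
      have e4 : resHom hbQ ⟨cd, hst⟩ (e₁ z) = e₁ ⟨_, hz⟩ := Subtype.ext <|
        (hcde _).trans (map_apply_conj χ hg (hP'N z.2) (hP'N hz)).symm
      rw [MulAut.mul_apply, MulAut.mul_apply, e3, e4]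
      exact (congrArg (fun w => ((e₂ w : b) : Ω)) (e₁.symm_apply_apply ⟨_, hz⟩)).trans (hhe z hz)
    have hcdX : cd ∈ X := by
      refine ⟨⟨hcd, hst⟩, ⟨cd, hst⟩, ⟨_, hL, ?_⟩, rfl⟩
      show α⁻¹ * (α * resHom hbQ ⟨cd, hst⟩ * α⁻¹) * α⁻¹⁻¹ = _
      group
    obtain ⟨h', hh', hhe'⟩ := (mem_autInducedBy_iff _).1 (hnT cd hcdX).1
    refine Subgroup.subset_closure ⟨hdN.1, hQN hdN, h', hh', fun x hx => ?_⟩
    have h2 := hhe' (n x)
    rw [MulAut.mul_apply, MulAut.mul_apply, MulAut.inv_apply_self] at h2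
    refine Eq.trans ?_ h2
    show ((n ⟨_, hx⟩ : Q) : Ω) = _
    rw [show (⟨d * (x : Ω) * d⁻¹, hx⟩ : Q) = cd x from Subtype.ext (hcde x).symm]
  have hEN : extender S P' φ ≤ normalizerIn S P' := extender_le_normalizerIn φ
  have hv : ∀ y, (χ.comp (Subgroup.inclusion hEN)) y ∈ extender S Q (Q.subtype.comp n.toMonoidHom) := by
    rintro ⟨y, hy⟩
    obtain ⟨z, hz, hzy⟩ := hExt hy
    have ez : z = Subgroup.inclusion hEN ⟨y, hy⟩ := Subtype.ext hzy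
    subst ez
    exact hz
  refine ⟨_, F.comp_mem (restrict_mem F hχ hEN) hψn hv, fun x hP' hN => ?_⟩
  have hxb : χ ⟨x, hP'N hP'⟩ ∈ b := hχb.le ⟨_, hP', rfl⟩
  refine (hψne _ (hbQ hxb) (hv ⟨x, hN⟩)).trans ?_
  have h5 := congrArg (fun f : MulAut b => ((f ⟨_, hxb⟩ : b) : Ω)) hnres
  refine (h5 :).trans ?_
  show ((e₂ (e₁.symm (e₁ ⟨x, hP'⟩)) : b) : Ω) = _
  rw [MulEquiv.symm_apply_apply]
  rfl

end Cfsg.Agent.RelProd
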