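import Cfsg.Agent.Lib.RelProd.Lift

/-!
# The focal step for automorphisms trivial modulo a normal subsystem

`gAut F E Q` consists of the automorphisms of `Q` in `F` that are trivial modulo `T` and restrict to an element
of `E` on `Q ∩ T`. Commutators of its elements of order prime to `p` with elements of `Aut_S(Q)` are induced
by `T`.
-/

set_option autoImplicit false
set_option linter.unusedSectionVars false
set_option linter.style.haveILetI false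

namespace Cfsg.Agent.RelProd

open Cfsg Cfsg.FusionSystem Cfsg.Agent.FusionSys Cfsg.Agent.FusionSys.FocCent
  Cfsg.Agent.FusionSys.LayerCore Cfsg.Agent.FusionMeet

variable {Ω : Type*} [Group Ω] {S T : Subgroup Ω}

/-- The automorphisms of `Q` trivial modulo `T`. -/
def modTriv (T Q : Subgroup Ω) : Subgroup (MulAut Q) where
  carrier := {a | ∀ q : Q, (q : Ω)⁻¹ * ((a q : Q) : Ω) ∈ T}
  one_mem' := fun q => by simp [T.one_mem]
  mul_mem' := fun {a b} ha hb q => by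
    have h1 := T.mul_mem (hb q) (ha (b q))
    simpa [mul_assoc] using h1
  inv_mem' := fun {a} ha q => by
    have h1 := T.inv_mem (ha (a⁻¹ q))
    simpa using h1

/-- The automorphisms trivial modulo `T` with restriction to `Q ∩ T` in `E`. -/
def gAut (F : FusionSystem S) (E : FusionSystem T) (Q : Subgroup Ω) : Subgroup (MulAut Q) :=
  F.autGroup Q ⊓ modTriv T Q ⊓ relSub (inf_le_left : Q ⊓ T ≤ Q) (E.autGroup (Q ⊓ T))

variable [Finite S] {p : ℕ} [hp : Fact p.Prime] {F : FusionSystem S} {E : FusionSystem T}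

theorem gAut_le (F : FusionSystem S) (E : FusionSystem T) (Q : Subgroup Ω) : gAut F E Q ≤ F.autGroup Q :=
  inf_le_left.trans inf_le_left

/-- Isomorphisms transport the automorphisms trivial modulo `T`. -/
theorem congr_mem_gAut (hE : E.IsInvariantIn F) {Q Q' : Subgroup Ω} {θ : Q ≃* Q'}
    (hθ : equivHom θ ∈ F.Hom Q) {a : MulAut Q} (ha : a ∈ gAut F E Q) :
    MulAut.congr θ a ∈ gAut F E Q' := by
  obtain ⟨-, hT, hAI, hfr⟩ := hE
  have hθ' : equivHom θ.symm ∈ F.Hom Q' := equivHom_symm_mem F θ hθ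
  have hQ'S : Q' ≤ S := hom_le F hθ'
  obtain ⟨⟨haF, haT⟩, β, hβ, haβ⟩ := ha
  refine ⟨⟨congr_mem_autGroup F θ hθ hθ' haF, fun q => ?_⟩, ?_⟩
  · obtain ⟨r, rfl⟩ := θ.surjective q
    rw [congr_apply, θ.symm_apply_apply, ← Subgroup.coe_inv, ← Subgroup.coe_mul, ← map_inv, ← map_mul]
    exact stronglyClosed_apply_mem hT hθ (r⁻¹ * a r) (haT r)
  -- the restriction to the intersections
  have hle : Q ⊓ T ≤ Q := inf_le_left
  have hres := restrict_mem F hθ hle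
  have hr : ((equivHom θ).comp (Subgroup.inclusion hle)).range = Q' ⊓ T := by
    ext y
    constructor
    · rintro ⟨x, rfl⟩
      exact ⟨(θ _).2, stronglyClosed_apply_mem hT hθ (Subgroup.inclusion hle x) x.2.2⟩
    · rintro ⟨hy, hyT⟩
      have h1 : ((θ.symm ⟨y, hy⟩ : Q) : Ω) ∈ T := stronglyClosed_apply_mem hT hθ' ⟨y, hy⟩ hyT
      refine ⟨⟨(θ.symm ⟨y, hy⟩ : Q), (θ.symm ⟨y, hy⟩).2, h1⟩, ?_⟩
      show ((θ (θ.symm ⟨y, hy⟩) : Q') : Ω) = y
      rw [θ.apply_symm_apply]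
  set e := mapEquiv F hres hr with he
  refine ⟨MulAut.congr e β, congr_mem_of_frattini hAI inf_le_right e
    (hfr _ inf_le_right _ (equivHom_mapEquiv F hres hr)) hβ, fun y => ?_⟩
  obtain ⟨x, rfl⟩ := e.surjective y
  rw [congr_apply, congr_apply, e.symm_apply_apply,
    show Subgroup.inclusion (inf_le_left : Q' ⊓ T ≤ Q') (e x) = θ (Subgroup.inclusion hle x) from Subtype.ext rfl,
    θ.symm_apply_apply, haβ x]
  exact Subtype.ext rfl

theorem conj_mem_gAut (hE : E.IsInvariantIn F) {Q : Subgroup Ω} (hQS : Q ≤ S) {g a : MulAut Q}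
    (hg : g ∈ F.autGroup Q) (ha : a ∈ gAut F E Q) : g * a * g⁻¹ ∈ gAut F E Q :=
  congr_mem_gAut hE ((equivHom_autGroup F hQS).1 hg) ha

/-- The focal step at a subgroup whose intersection with `T` is nice and centric. -/
theorem focal_core (hS : IsPGroup p S) (hE : E.IsNormalIn F p) {Q : Subgroup Ω} (hQ : F.IsFullyNormalized Q)
    (h0 : Nice F T (Q ⊓ T)) (h0c : E.IsCentric (Q ⊓ T)) {k : MulAut Q} (hk : k ∈ gAut F E Q)
    (hco : (orderOf k).Coprime p) {s : Ω} (hs : s ∈ S) {a : MulAut Q} (ha : a ∈ gAut F E Q)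
    (hae : ∀ q : Q, ((a q : Q) : Ω) = s * (q : Ω) * s⁻¹) (hb : k * a * k⁻¹ ∈ autInducedBy S Q) :
    a⁻¹ * (k * a * k⁻¹) ∈ autInducedBy T Q := by
  obtain ⟨hEs, hF, hsub, hT, hAI, hfr⟩ := id hE.1
  haveI : Finite T := finite_of_le (S := S) hT.1
  have hQS := hQ.1
  haveI := finite_of_le hQS
  set Q0 := Q ⊓ T with hQ0
  have h0Q : Q0 ≤ Q := inf_le_left
  have h0S : Q0 ≤ S := h0Q.trans hQS
  haveI := finite_of_le h0S
  have h0n := h0.fn hT
  have h0fc := (fullyNormalized_imp hS hF h0n).1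
  obtain ⟨⟨hkF, hkT⟩, e, he, hke⟩ := hk
  obtain ⟨v, hv, hve⟩ := (mem_autInducedBy_iff _).1 hb
  have hsn := mem_normalizer_of_autInduced hae
  have hTn := stronglyClosed_le_normalizer hT
  have hN0 : ∀ g ∈ S, g ∈ Subgroup.normalizer (Q : Set Ω) → g ∈ Subgroup.normalizer (Q0 : Set Ω) :=
    fun g hg hgn => mem_normalizer_of_conj_mem_finite fun y hy =>
      ⟨(Subgroup.mem_normalizer_iff.1 hgn y).1 hy.1, (Subgroup.mem_normalizer_iff.1 (hTn hg) y).1 hy.2⟩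
  set U := rc S Q0 with hU
  have hUS : U ≤ S := rc_le h0S
  set W := U ⊔ Q with hW
  have hUW : U ≤ W := le_sup_left
  have hQW : Q ≤ W := le_sup_right
  have hWS : W ≤ S := sup_le hUS hQS
  haveI := finite_of_le hWS
  haveI := finite_of_le hUS
  have hlift : ∃ ψ : MulAut U, IsLift F Q0 ψ ∧ Rel (le_rc Q0) ψ e := exists_lift hS hE Q0 h0 h0c e he
  obtain ⟨ψ, hψ, hψe⟩ := hlift
  have hkh : equivHom k ∈ F.Hom Q := (equivHom_autGroup F hQS).1 hkF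
  have heF : equivHom e ∈ F.Hom Q0 := hom_congr F (restrict_mem F hkh h0Q) fun x => (hke.apply x).symm
  have hdiff : ∀ (φ : W →* Ω) (hφ : φ ∈ F.Hom W) (q : Q),
      (∀ (x : Q0) (h : (x : Ω) ∈ W), φ ⟨x, h⟩ = ((e x : Q0) : Ω)) →
        ((k q : Q) : Ω)⁻¹ * φ ⟨q, hQW q.2⟩ ∈ centralizerIn S Q0 := by
    intro φ hφ q hφ0
    refine ⟨S.mul_mem (S.inv_mem (hQS (k q).2)) (hom_apply_mem F hφ _), Subgroup.mem_centralizer_iff.2 fun y hy => ?_⟩
    obtain ⟨x, hx⟩ := e.surjective ⟨y, hy⟩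
    have hqn := hN0 q (hQS q.2) (Subgroup.le_normalizer q.2)
    have hqx : (q : Ω) * x * (q : Ω)⁻¹ ∈ Q0 := (Subgroup.mem_normalizer_iff.1 hqn _).1 x.2
    have h1 : φ ⟨(q : Ω) * x * (q : Ω)⁻¹, hQW (h0Q hqx)⟩ = ((k q : Q) : Ω) * y * ((k q : Q) : Ω)⁻¹ := by
      rw [hφ0 ⟨_, hqx⟩ _, ← hke.apply, show y = ((e x : Q0) : Ω) by rw [hx], ← hke.apply]
      have h2 : k ⟨(q : Ω) * x * (q : Ω)⁻¹, h0Q hqx⟩ = k q * k ⟨x, h0Q x.2⟩ * (k q)⁻¹ := by
        rw [← map_inv, ← map_mul, ← map_mul]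
        rfl
      exact congrArg Subtype.val h2
    rw [map_apply_conj φ (hQW q.2) (hQW (h0Q x.2)), hφ0 x _, hx] at h1
    set b := φ ⟨(q : Ω), hQW q.2⟩
    set c := ((k q : Q) : Ω)
    change b * y * b⁻¹ = c * y * c⁻¹ at h1
    calc y * (c⁻¹ * b) = c⁻¹ * (c * y * c⁻¹) * b := by group
      _ = c⁻¹ * (b * y * b⁻¹) * b := by rw [h1]
      _ = c⁻¹ * b * y := by group
  have hWaut : ∀ (φ : W →* Ω) (hφ : φ ∈ F.Hom W) (Φ : MulAut U), Rel (le_rc Q0) Φ e →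
      (∀ u : U, φ (Subgroup.inclusion hUW u) = ((Φ u : U) : Ω)) → ∀ y, φ y ∈ W := by
    intro φ hφ Φ hΦ hφΦ
    refine apply_mem_of_sup φ (fun u => by rw [show φ (Subgroup.inclusion le_sup_left u) = _ from hφΦ u]
                                           exact hUW (Φ u).2) fun q => ?_
    have h1 := hdiff φ hφ q fun x hx =>
      (hφΦ (Subgroup.inclusion (le_rc Q0) x)).trans (congrArg Subtype.val (hΦ x))
    have h2 := W.mul_mem (hQW (k q).2) (hUW (cent_le_rc Q0 h1))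
    rwa [mul_inv_cancel_left] at h2
  have hQe : Q ≤ extender S Q0 (equivHom e) := fun q hq =>
    Subgroup.subset_closure ⟨hQS hq, hN0 q (hQS hq) (Subgroup.le_normalizer hq), (k ⟨q, hq⟩ : Q),
      hQS (k _).2, fun x hx => by
        rw [equivHom_apply, equivHom_apply, ← hke.apply, ← hke.apply, ← Subgroup.coe_inv, ← Subgroup.coe_mul,
          ← Subgroup.coe_mul, ← map_inv, ← map_mul, ← map_mul]
        rfl⟩
  -- first extension
  obtain ⟨φ₀, hφ₀, hφ₀e⟩ := exists_extension_of_lift hS hF h0fc hψ hψe hUW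
    (sup_le (centralizerIn_sup_le_extender F heF) hQe)
  obtain ⟨A₀, hA₀, hA₀e⟩ := exists_aut_of_invariant F hφ₀ (hWaut φ₀ hφ₀ ψ hψe hφ₀e)
  have hA₀ψ : Rel hUW A₀ ψ := fun u => Subtype.ext ((hA₀e _).trans (hφ₀e u))
  obtain ⟨n, hn, hne⟩ := exists_pprime_exp p A₀ k hco
  set A₁ := A₀ ^ n
  set ψ₁ := ψ ^ n
  have hψ₁ : IsLift F Q0 ψ₁ := Subgroup.pow_mem (liftGroup F h0S) hψ n
  have hA₁ψ : Rel hUW A₁ ψ₁ := hA₀ψ.pow n
  have hken : e ^ n = e := by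
    have h1 := (show Rel h0Q k e from hke).pow n
    rw [hne] at h1
    exact rel_unique h1 hke
  have hψ₁e : Rel (le_rc Q0) ψ₁ e := by rw [← hken]; exact hψe.pow n
  have hA₁F : A₁ ∈ F.autGroup W := Subgroup.pow_mem _ hA₀ n
  have hA₁h := (equivHom_autGroup F hWS).1 hA₁F
  -- `A₁` is trivial modulo `T` on `W`
  have hU_T : ∀ (Φ : MulAut U), IsLift F Q0 Φ → ∀ u : U, (u : Ω)⁻¹ * ((Φ u : U) : Ω) ∈ T := by
    intro Φ hΦ u
    let D : Subgroup Ω :=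
      { carrier := {x | ∃ hx : x ∈ U, x⁻¹ * ((Φ ⟨x, hx⟩ : U) : Ω) ∈ T}
        one_mem' := ⟨U.one_mem, by rw [show (⟨1, U.one_mem⟩ : U) = 1 from rfl, map_one]; simp [T.one_mem]⟩
        mul_mem' := by
          rintro x y ⟨hx, hx'⟩ ⟨hy, hy'⟩
          refine ⟨U.mul_mem hx hy, ?_⟩
          rw [show (⟨x * y, U.mul_mem hx hy⟩ : U) = ⟨x, hx⟩ * ⟨y, hy⟩ from rfl, map_mul, Subgroup.coe_mul]
          have h1 := (Subgroup.mem_normalizer_iff.1 (hTn (S.inv_mem (hUS hy))) _).1 hx'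
          have := T.mul_mem h1 hy'
          simpa [mul_assoc] using this
        inv_mem' := by
          rintro x ⟨hx, hx'⟩
          refine ⟨U.inv_mem hx, ?_⟩
          rw [show (⟨x⁻¹, U.inv_mem hx⟩ : U) = (⟨x, hx⟩ : U)⁻¹ from rfl, map_inv, Subgroup.coe_inv]
          have h1 := (Subgroup.mem_normalizer_iff.1 (hTn (hUS hx)) _).1 (T.inv_mem hx')
          simpa [mul_assoc] using h1 }
    have hUD : U ≤ D := sup_le
      (fun y hy => ⟨le_rc Q0 hy, T.mul_mem (T.inv_mem hy.2) (hΦ.2.1 ⟨y, le_rc Q0 hy⟩ hy).2⟩)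
      fun y hy => ⟨cent_le_rc Q0 hy, (hΦ.2.2 ⟨y, cent_le_rc Q0 hy⟩ hy).1.2⟩
    obtain ⟨_, h⟩ := hUD u.2
    exact h
  have hA₁Q : ∀ q : Q, ((A₁ ⟨q, hQW q.2⟩ : W) : Ω) ∈ Q ∧
      (q : Ω)⁻¹ * ((A₁ ⟨q, hQW q.2⟩ : W) : Ω) ∈ T := by
    intro q
    have h1 := hdiff _ hA₁h q fun x hx =>
      ((hA₁ψ.apply (Subgroup.inclusion (le_rc Q0) x))).trans (hψ₁e.apply x)
    set c := ((k q : Q) : Ω)⁻¹ * ((A₁ ⟨q, hQW q.2⟩ : W) : Ω) with hc
    have hkq := hkT q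
    have hd : (q : Ω)⁻¹ * ((A₁ ⟨q, hQW q.2⟩ : W) : Ω) = ((q : Ω)⁻¹ * ((k q : Q) : Ω)) * c := by rw [hc]; group
    have hstep : (q : Ω)⁻¹ * ((A₁ ⟨q, hQW q.2⟩ : W) : Ω) ∈ T ⊓ W := by
      refine step_mod (hS.to_le hWS) hn (K := U ⊔ T) (N := T ⊓ W) (fun x hx => ?_)
        (inf_le_left.trans le_sup_right) (y := ⟨q, hQW q.2⟩) ?_
      · obtain ⟨u, hu, t, ht, hut⟩ := exists_mul_of_mem_sup hT hUS hx
        refine ⟨?_, W.mul_mem (W.inv_mem x.2) (A₁ x).2⟩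
        have htW : t ∈ W := by
          have := W.mul_mem (W.inv_mem (hUW hu)) x.2
          rwa [hut, inv_mul_cancel_left] at this
        have hAt : ((A₁ ⟨t, htW⟩ : W) : Ω) ∈ T := stronglyClosed_apply_mem hT hA₁h ⟨t, htW⟩ ht
        have hu' := hU_T ψ₁ hψ₁ ⟨u, hu⟩
        rw [← hA₁ψ.apply ⟨u, hu⟩] at hu'
        rw [show x = ⟨u, hUW hu⟩ * ⟨t, htW⟩ from Subtype.ext hut, map_mul, Subgroup.coe_mul, Subgroup.coe_mul]
        have := T.mul_mem (T.mul_mem (T.inv_mem ht) hu') hAt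
        simpa [mul_assoc] using this
      · show (q : Ω)⁻¹ * ((A₁ ⟨q, hQW q.2⟩ : W) : Ω) ∈ U ⊔ T
        rw [hd]
        exact Subgroup.mul_mem _ (Subgroup.mem_sup_right hkq) (Subgroup.mem_sup_left (cent_le_rc Q0 h1))
    have hcT : c ∈ T := by
      have := T.mul_mem (T.inv_mem hkq) hstep.1
      rwa [hd, inv_mul_cancel_left] at this
    have := Q.mul_mem (k q).2 (h0Q (centralizerIn_le_of_centric h0c ⟨hcT, h1.2⟩))
    rw [hc, mul_inv_cancel_left] at this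
    exact ⟨this, hstep.1⟩
  obtain ⟨k₁, hk₁F, hk₁⟩ := exists_rel F hQW hWS hA₁F fun x hx => (hA₁Q ⟨x, hx⟩).1
  have hk₁e : Rel h0Q k₁ e := rel_descend hk₁ (rel_trans hA₁ψ hψ₁e)
  -- the difference is induced by an element centralizing `Q ∩ T`
  set Ker := F.autGroup Q ⊓ modTriv T Q ⊓ relSub h0Q (⊥ : Subgroup (MulAut Q0)) with hKer
  have hk₁T : k₁ ∈ modTriv T Q := fun q => by
    rw [← hk₁.apply q]
    exact (hA₁Q q).2
  have hκ : k₁⁻¹ * k ∈ Ker := ⟨⟨Subgroup.mul_mem _ (Subgroup.inv_mem _ hk₁F) hkF,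
    Subgroup.mul_mem _ (Subgroup.inv_mem _ hk₁T) hkT⟩, 1, Subgroup.mem_bot.2 rfl, by
      have h := hk₁e.inv.mul (show Rel h0Q k e from hke)
      rwa [inv_mul_cancel] at h⟩
  have hKerp : IsPGroup p Ker := by
    rintro ⟨d, ⟨-, hdT⟩, b, hb, hdb⟩
    rw [Subgroup.mem_bot.1 hb] at hdb
    obtain ⟨j, hj⟩ := pElement_of_disp (hS.to_le hQS) h0Q hdb fun y =>
      ⟨Q.mul_mem (Q.inv_mem y.2) (d y).2, hdT y⟩
    exact ⟨j, Subtype.ext hj⟩
  have hKern : ∀ g ∈ F.autGroup Q, ∀ d ∈ Ker, g * d * g⁻¹ ∈ Ker := by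
    rintro g hg d ⟨⟨hdF, hdT⟩, b, hb, hdb⟩
    rw [Subgroup.mem_bot.1 hb] at hdb
    have hgh := (equivHom_autGroup F hQS).1 hg
    have hgh' := (equivHom_autGroup F hQS).1 (Subgroup.inv_mem _ hg)
    refine ⟨⟨Subgroup.mul_mem _ (Subgroup.mul_mem _ hg hdF) (Subgroup.inv_mem _ hg), fun y => ?_⟩,
      1, Subgroup.mem_bot.2 rfl, fun x => ?_⟩
    · obtain ⟨r, rfl⟩ := g.surjective y
      rw [MulAut.mul_apply, MulAut.mul_apply, MulAut.inv_apply_self, ← Subgroup.coe_inv, ← Subgroup.coe_mul,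
        ← map_inv, ← map_mul]
      exact stronglyClosed_apply_mem hT hgh (r⁻¹ * d r) (hdT r)
    · have hx : ((g⁻¹ (Subgroup.inclusion h0Q x) : Q) : Ω) ∈ Q0 :=
        ⟨(g⁻¹ _).2, stronglyClosed_apply_mem hT hgh' (Subgroup.inclusion h0Q x) x.2.2⟩
      rw [MulAut.mul_apply, MulAut.mul_apply, show g⁻¹ (Subgroup.inclusion h0Q x) =
        Subgroup.inclusion h0Q ⟨_, hx⟩ from Subtype.ext rfl, hdb ⟨_, hx⟩]
      exact g.apply_symm_apply _
  obtain ⟨b, hbm, hbW⟩ := (isSyl_of_fullyAutomized (fullyNormalized_imp hS hF hQ).2).exists_conj hKerp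
    (inf_le_left.trans inf_le_left)
  have h1 := hbW ⟨_, hKern b⁻¹ (Subgroup.inv_mem _ hbm) _ hκ, rfl⟩
  simp only [MulEquiv.coe_toMonoidHom, MulAut.conj_apply] at h1
  rw [show b * (b⁻¹ * (k₁⁻¹ * k) * b⁻¹⁻¹) * b⁻¹ = k₁⁻¹ * k by group] at h1
  obtain ⟨w, hw, hwe⟩ := (mem_autInducedBy_iff _).1 h1
  obtain ⟨-, b₁, hb₁, hκ0⟩ := hκ
  rw [Subgroup.mem_bot.1 hb₁] at hκ0
  have hwC : w ∈ centralizerIn S Q0 := ⟨hw, Subgroup.mem_centralizer_iff.2 fun y hy => by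
    have h2 := hwe ⟨y, h0Q hy⟩
    rw [show (k₁⁻¹ * k) ⟨y, h0Q hy⟩ = ⟨y, h0Q hy⟩ from hκ0 ⟨y, hy⟩] at h2
    exact eq_mul_inv_iff_mul_eq.1 h2⟩
  -- the second extension restricts to `k` and to a lift
  have hwW : w ∈ W := hUW (cent_le_rc Q0 hwC)
  obtain ⟨cw, hcw, hcwe⟩ := exists_conjAut (K := S) (P := W) hw (Subgroup.le_normalizer hwW)
  obtain ⟨cU, hcU, hcUe⟩ := exists_conjAut (K := S) (P := U) hw (Subgroup.le_normalizer (cent_le_rc Q0 hwC))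
  have hcwU : Rel hUW cw cU := fun u => Subtype.ext ((hcwe _).trans (hcUe u).symm)
  have hcwQ : Rel hQW cw (k₁⁻¹ * k) := fun q => Subtype.ext ((hcwe _).trans (hwe q).symm)
  have hcU0 : Rel (le_rc Q0) cU 1 := fun x => Subtype.ext (by
    rw [hcUe]
    show w * (x : Ω) * w⁻¹ = x
    rw [← Subgroup.mem_centralizer_iff.1 hwC.2 x x.2, mul_inv_cancel_right])
  set A₂ := A₁ * cw
  have hA₂Q : Rel hQW A₂ k := by
    have := hk₁.mul hcwQ
    rwa [mul_inv_cancel_left] at this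
  obtain ⟨j, hj⟩ := autInducedBy_isPGroup (P := U) hS ⟨cU, hcU⟩
  have hcUj : cU ^ p ^ j = 1 := congrArg Subtype.val hj
  obtain ⟨i, hi⟩ := exists_pow_eq_self_of_coprime (x := k) (n := p ^ j)
    ((hco.pow_right j).symm)
  set m := p ^ j * i
  have hkm : k ^ m = k := by rw [pow_mul]; exact hi
  have hcUm : cU ^ m = 1 := by rw [pow_mul, hcUj, one_pow]
  have hcUF := autInducedBy_le_autGroup F hUS hcU
  have hpow : ∀ r : ℕ, ∃ Φ, IsLift F Q0 Φ ∧ (ψ₁ * cU) ^ r = Φ * cU ^ r := by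
    intro r
    induction r with
    | zero => exact ⟨1, (liftGroup F h0S).one_mem, by simp⟩
    | succ r ih =>
      obtain ⟨Φ, hΦ, hΦe⟩ := ih
      refine ⟨Φ * (cU ^ r * ψ₁ * (cU ^ r)⁻¹),
        hΦ.mul h0S (hψ₁.conj h0S (Subgroup.pow_mem _ hcUF r) (hcU0.pow r)), ?_⟩
      rw [pow_succ, hΦe, pow_succ]
      group
  obtain ⟨ψ₂, hψ₂, hψ₂e⟩ := hpow m
  rw [hcUm, mul_one] at hψ₂e
  set A := A₂ ^ m
  have hAψ : Rel hUW A ψ₂ := by rw [← hψ₂e]; exact (hA₁ψ.mul hcwU).pow m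
  have hAQ : Rel hQW A k := by rw [← hkm]; exact hA₂Q.pow m
  have hψ₂0 : Rel (le_rc Q0) ψ₂ e := rel_descend hAψ (rel_trans hAQ (show Rel h0Q k e from hke))
  -- extension to `W ⟨s⟩`
  set M := W ⊔ Subgroup.zpowers s with hM
  have hWM : W ≤ M := le_sup_left
  have hsM : s ∈ M := Subgroup.mem_sup_right (Subgroup.mem_zpowers s)
  have hvn := mem_normalizer_of_autInduced hve
  have hse : s ∈ extender S Q0 (equivHom e) := Subgroup.subset_closure ⟨hs, hN0 s hs hsn, v, hv, fun x hx => by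
    have h2 := hve (k ⟨x, h0Q x.2⟩)
    rw [MulAut.mul_apply, MulAut.mul_apply, MulAut.inv_apply_self] at h2
    rw [equivHom_apply, equivHom_apply, ← hke.apply, ← hke.apply]
    refine Eq.trans ?_ h2
    exact congrArg (fun z : Q => ((k z : Q) : Ω)) (Subtype.ext (hae ⟨x, h0Q x.2⟩).symm)⟩
  obtain ⟨χ, hχ, hχe⟩ := exists_extension_of_lift hS hF h0fc hψ₂ hψ₂0 (hUW.trans hWM)
    (sup_le (sup_le (centralizerIn_sup_le_extender F heF) hQe) (Subgroup.zpowers_le.2 hse))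
  have hχW := restrict_mem F hχ hWM
  set χW := χ.comp (Subgroup.inclusion hWM) with hχWdef
  obtain ⟨B, hB, hBe⟩ := exists_aut_of_invariant F hχW (hWaut χW hχW ψ₂ hψ₂0 fun u => hχe u)
  have hBψ : Rel hUW B ψ₂ := fun u => Subtype.ext ((hBe _).trans (hχe u))
  have hAF : A ∈ F.autGroup W := Subgroup.pow_mem _
    (Subgroup.mul_mem _ hA₁F (autInducedBy_le_autGroup F hWS hcw)) m
  have hδU : Rel hUW (A⁻¹ * B) 1 := by rw [← inv_mul_cancel ψ₂]; exact hAψ.inv.mul hBψ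
  have hUn : W ≤ Subgroup.normalizer (U : Set Ω) := sup_le Subgroup.le_normalizer fun q hq =>
    mem_normalizer_rc h0S ⟨hQS hq, hN0 q (hQS hq) (Subgroup.le_normalizer hq)⟩
  obtain ⟨z, hzU, hzc, hze⟩ := exists_conj_of_fix hS hF hUW hUn (rc_centric h0fc)
    (Subgroup.mul_mem _ (Subgroup.inv_mem _ hAF) hB) hWS fun y hy => Subtype.ext (hδU.apply ⟨y, hy⟩)
  have hzM : z ∈ M := hWM (hUW hzU)
  -- decomposition of `s`
  obtain ⟨-, β, hβ, haβ⟩ := ha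
  have hβS : β ∈ autInducedBy S Q0 := (mem_autInducedBy_iff _).2 ⟨s, hs, fun x => (haβ.apply x).symm.trans (hae _)⟩
  obtain ⟨t, ht, hte⟩ := (mem_autInducedBy_iff _).1 (autT_of_mem hS hE.1 inf_le_right h0n hβS hβ)
  set c := t⁻¹ * s with hc
  have hcC : c ∈ centralizerIn S Q0 := ⟨S.mul_mem (S.inv_mem (hT.1 ht)) hs,
    Subgroup.mem_centralizer_iff.2 fun y hy => by
      have h2 : t * y * t⁻¹ = s * y * s⁻¹ :=
        ((hte ⟨y, hy⟩).symm.trans (haβ.apply ⟨y, hy⟩).symm).trans (hae _)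
      calc y * (t⁻¹ * s) = t⁻¹ * (t * y * t⁻¹) * s := by group
        _ = t⁻¹ * (s * y * s⁻¹) * s := by rw [h2]
        _ = t⁻¹ * s * y := by group⟩
  have hcU' : c ∈ U := cent_le_rc Q0 hcC
  have hcM : c ∈ M := hWM (hUW hcU')
  have htM : t ∈ M := by
    have := M.mul_mem hsM (M.inv_mem hcM)
    rwa [hc, mul_inv_rev, inv_inv, mul_inv_cancel_left] at this
  set d := s⁻¹ * z⁻¹ * s * z with hd
  have hdT : d ∈ T := by
    have hzc' := Subgroup.mem_centralizer_iff.1 hzc c hcU'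
    have hzS := hUS hzU
    have h2 : t⁻¹ * z⁻¹ * t * z ∈ T := by
      have := T.mul_mem (T.inv_mem ht) ((Subgroup.mem_normalizer_iff.1 (hTn (S.inv_mem hzS)) t).1 ht)
      simpa [mul_assoc] using this
    have h3 := (Subgroup.mem_normalizer_iff.1 (hTn (S.inv_mem (hUS hcU'))) _).1 h2
    rw [inv_inv] at h3
    have h4 : d = c⁻¹ * (t⁻¹ * z⁻¹ * t * z) * c := by
      rw [hd, show s = t * c by rw [hc, mul_inv_cancel_left]]
      calc (t * c)⁻¹ * z⁻¹ * (t * c) * z = c⁻¹ * (t⁻¹ * z⁻¹ * t) * (c * z) := by group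
        _ = _ := by rw [hzc']; group
    rwa [h4]
  have hdM : d ∈ M := M.mul_mem (M.mul_mem (M.mul_mem (M.inv_mem hsM) (M.inv_mem hzM)) hsM) hzM
  -- the image of `s`
  set g : M := (⟨z, hzM⟩ : M)⁻¹ * ⟨s, hsM⟩ * ⟨z, hzM⟩ with hg
  have hgv : (g : Ω) = s * d := by rw [hd, hg]; simp [mul_assoc]
  have hu : s⁻¹ * χ g ∈ T := by
    have hg' : g = ⟨t, htM⟩ * ⟨c, hcM⟩ * ⟨d, hdM⟩ := Subtype.ext (by
      rw [hgv]
      show s * d = t * c * d
      rw [hc, mul_inv_cancel_left])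
    rw [hg', map_mul, map_mul]
    have h2 := stronglyClosed_apply_mem hT hχ ⟨t, htM⟩ ht
    have h3 := stronglyClosed_apply_mem hT hχ ⟨d, hdM⟩ hdT
    have h4 : c⁻¹ * χ ⟨c, hcM⟩ ∈ T := by
      rw [show χ ⟨c, hcM⟩ = _ from hχe ⟨c, hcU'⟩]
      exact (hψ₂.2.2 ⟨c, hcU'⟩ hcC).1.2
    have h5 := (Subgroup.mem_normalizer_iff.1 (hTn (S.inv_mem (hUS hcU'))) _).1 (T.mul_mem (T.inv_mem ht) h2)
    rw [inv_inv] at h5
    have h6 := T.mul_mem (T.mul_mem h5 h4) h3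
    convert h6 using 1
    rw [show s = t * c by rw [hc, mul_inv_cancel_left]]
    group
  refine (mem_autInducedBy_iff _).2 ⟨s⁻¹ * χ g, hu, fun q => ?_⟩
  obtain ⟨r, rfl⟩ := k.surjective q
  have hkval : ∀ (x : Q) (h : z⁻¹ * (x : Ω) * z ∈ M), χ ⟨z⁻¹ * (x : Ω) * z, h⟩ = ((k x : Q) : Ω) := by
    intro x h
    have hW' : z⁻¹ * (x : Ω) * z ∈ W :=
      W.mul_mem (W.mul_mem (W.inv_mem (hUW hzU)) (hQW x.2)) (hUW hzU)
    have h2 : (A⁻¹ * B) ⟨_, hW'⟩ = ⟨(x : Ω), hQW x.2⟩ := Subtype.ext (by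
      rw [hze]
      show z * (z⁻¹ * (x : Ω) * z) * z⁻¹ = x
      group)
    have h3 : B ⟨_, hW'⟩ = A ⟨(x : Ω), hQW x.2⟩ := by
      rw [← h2, MulAut.mul_apply, MulAut.apply_inv_self]
    calc χ ⟨z⁻¹ * (x : Ω) * z, h⟩ = ((B ⟨_, hW'⟩ : W) : Ω) := (hBe ⟨_, hW'⟩).symm
      _ = _ := by rw [h3]; exact hAQ.apply x
  have hzx : ∀ x : Q, z⁻¹ * (x : Ω) * z ∈ M := fun x =>
    M.mul_mem (M.mul_mem (M.inv_mem hzM) (hWM (hQW x.2))) hzM
  have hkar : ((k (a r) : Q) : Ω) = χ g * ((k r : Q) : Ω) * (χ g)⁻¹ := by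
    rw [← hkval (a r) (hzx _), ← hkval r (hzx r), ← map_inv, ← map_mul, ← map_mul]
    refine congrArg χ (Subtype.ext ?_)
    rw [Subgroup.coe_mul, Subgroup.coe_mul, Subgroup.coe_inv, hg]
    simp only [Subgroup.coe_mul, Subgroup.coe_inv, hae]
    group
  have hy : (a⁻¹ * (k * a * k⁻¹)) (k r) = a⁻¹ (k (a r)) := by simp [MulAut.mul_apply]
  have hsy := hae (a⁻¹ (k (a r)))
  rw [MulAut.apply_inv_self, hkar] at hsy
  rw [hy]
  calc ((a⁻¹ (k (a r)) : Q) : Ω) = s⁻¹ * (s * ((a⁻¹ (k (a r)) : Q) : Ω) * s⁻¹) * s := by group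
    _ = s⁻¹ * (χ g * ((k r : Q) : Ω) * (χ g)⁻¹) * s := by rw [← hsy]
    _ = _ := by group

/-- The focal step at a fully normalized subgroup. -/
theorem focal (hS : IsPGroup p S) (hE : E.IsNormalIn F p) {Q : Subgroup Ω} (hQ : F.IsFullyNormalized Q)
    (h0c : E.IsCentric (Q ⊓ T)) {k : MulAut Q} (hk : k ∈ gAut F E Q) (hco : (orderOf k).Coprime p)
    {a : MulAut Q} (ha : a ∈ gAut F E Q) (haS : a ∈ autInducedBy S Q)
    (hb : k * a * k⁻¹ ∈ autInducedBy S Q) : a⁻¹ * (k * a * k⁻¹) ∈ autInducedBy T Q := by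
  obtain ⟨hEs, hF, hinv⟩ := id hE.1
  have hT := hinv.2.1
  have hQS := hQ.1
  haveI := finite_of_le hQS
  obtain ⟨Q1, hQ1, hconj⟩ := exists_nice hS hF hT (P := Q ⊓ T) inf_le_right
  obtain ⟨θ, hθ, hθN, hθ0⟩ := exists_normalizer_map_fullyNormalized hS hF (hQ1.fn hT) hconj
  set N := normalizerIn S Q with hN
  have hN0 : N ≤ normalizerIn S (Q ⊓ T) := fun g hg => ⟨hg.1, Subgroup.inf_normalizer_le_normalizer_inf
    ⟨hg.2, stronglyClosed_le_normalizer hT hg.1⟩⟩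
  have hθ' := restrict_mem F hθ hN0
  set θ' := θ.comp (Subgroup.inclusion hN0) with hθ'def
  have hQN : Q ≤ N := le_normalizerIn hQS
  set Q' := (θ'.comp (Subgroup.inclusion hQN)).range with hQ'
  have hQQ' : F.IsConj Q Q' := ⟨_, restrict_mem F hθ' hQN, rfl⟩
  have hQ'S := isConj_le_right hQQ'
  haveI := finite_of_le hQ'S
  have hmemN : ∀ g : N, θ' g ∈ normalizerIn S Q' := fun g =>
    ⟨hom_apply_mem F hθ' g, apply_mem_normalizer θ' hQN rfl g g.2.2⟩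
  have hcard : Nat.card N ≤ Nat.card (normalizerIn S Q') :=
    card_le_of_hom F hθ' le_rfl (normalizerIn_le _ _) fun g hg => hmemN ⟨g, hg⟩
  have hQ'fn : F.IsFullyNormalized Q' :=
    ⟨hQ'S, fun X hX => (hQ.2 X (isConj_trans hQQ' hX)).trans hcard⟩
  have hsurj : ∀ y ∈ normalizerIn S Q', ∃ (x : Ω) (hx : x ∈ N), θ' ⟨x, hx⟩ = y := fun y hy =>
    exists_preimage_of_card_le F hθ' le_rfl (normalizerIn_le _ _) (fun g hg => hmemN ⟨g, hg⟩) (hQ.2 Q' hQQ') y hy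
  set f := mapEquiv F (restrict_mem F hθ' hQN) (rfl : (θ'.comp (Subgroup.inclusion hQN)).range = Q') with hf
  have hfh : equivHom f ∈ F.Hom Q := equivHom_mapEquiv F _ _
  have hfh' : equivHom f.symm ∈ F.Hom Q' := equivHom_symm_mem F f hfh
  have hfe : ∀ x : Q, ((f x : Q') : Ω) = θ' (Subgroup.inclusion hQN x) := fun x => rfl
  have hQ1' : Q' ⊓ T = Q1 := by
    rw [← hθ0]
    refine le_antisymm ?_ ?_
    · rintro y ⟨hyQ, hyT⟩
      obtain ⟨x, hx⟩ := f.surjective ⟨y, hyQ⟩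
      have hxT : (x : Ω) ∈ T := by
        have h1 : ((f.symm ⟨y, hyQ⟩ : Q) : Ω) ∈ T := stronglyClosed_apply_mem hT hfh' ⟨y, hyQ⟩ hyT
        rwa [← hx, f.symm_apply_apply] at h1
      exact (mem_map_subgroupOf θ y).2
        ⟨x, hN0 (hQN x.2), ⟨x.2, hxT⟩, (hfe x).symm.trans (congrArg Subtype.val hx)⟩
    · intro y hy
      obtain ⟨x, hxN, hx, rfl⟩ := (mem_map_subgroupOf θ y).1 hy
      exact ⟨⟨⟨x, hx.1⟩, rfl⟩, stronglyClosed_apply_mem hT hθ ⟨x, hxN⟩ hx.2⟩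
  have h0c' : E.IsCentric (Q' ⊓ T) := hQ1'.symm ▸ centric_of_conj hinv h0c hconj
  have hto : ∀ {b : MulAut Q}, b ∈ autInducedBy S Q → ∃ g : N,
      (∀ x : Q, ((b x : Q) : Ω) = (g : Ω) * x * (g : Ω)⁻¹) ∧
      ∀ y : Q', ((MulAut.congr f b y : Q') : Ω) = θ' g * (y : Ω) * (θ' g)⁻¹ := by
    intro b hb
    obtain ⟨g, hg, hge⟩ := (mem_autInducedBy_iff _).1 hb
    refine ⟨⟨g, hg, mem_normalizer_of_autInduced hge⟩, hge, fun y => ?_⟩
    obtain ⟨x, rfl⟩ := f.surjective y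
    rw [congr_apply, f.symm_apply_apply, hfe, hfe, ← map_inv, ← map_mul, ← map_mul]
    exact congrArg θ' (Subtype.ext (hge x))
  obtain ⟨g, -, hg'⟩ := hto haS
  obtain ⟨g₁, -, hg₁'⟩ := hto hb
  have hco' : (orderOf (MulAut.congr f k)).Coprime p := by
    rw [MulEquiv.orderOf_eq]; exact hco
  have hb' : MulAut.congr f k * MulAut.congr f a * (MulAut.congr f k)⁻¹ ∈ autInducedBy S Q' := by
    rw [← map_inv, ← map_mul, ← map_mul]
    exact (mem_autInducedBy_iff _).2 ⟨θ' g₁, hom_apply_mem F hθ' g₁, hg₁'⟩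
  have h := focal_core hS hE hQ'fn (hQ1'.symm ▸ hQ1) h0c' (congr_mem_gAut hinv hfh hk) hco'
    (hom_apply_mem F hθ' g) (congr_mem_gAut hinv hfh ha) hg' hb'
  rw [← map_inv, ← map_inv, ← map_mul, ← map_mul, ← map_mul] at h
  obtain ⟨u, hu, hue⟩ := (mem_autInducedBy_iff _).1 h
  obtain ⟨x₀, hx₀, hx₀e⟩ := hsurj u ⟨hT.1 hu, mem_normalizer_of_autInduced hue⟩
  obtain ⟨θi, hθi, -, hθie, -⟩ := exists_inv F hθ'
  have hxT : x₀ ∈ T := by
    have h1 := stronglyClosed_apply_mem hT hθi ⟨u, ⟨_, hx₀e⟩⟩ hu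
    have e := (apply_congr θi hx₀e.symm (⟨_, hx₀e⟩ : u ∈ θ'.range) ⟨_, rfl⟩).trans (hθie ⟨x₀, hx₀⟩ ⟨_, rfl⟩)
    exact (congrArg (· ∈ T) e).mp h1
  refine (mem_autInducedBy_iff _).2 ⟨x₀, hxT, fun q => ?_⟩
  have h2 := hue (f q)
  rw [congr_apply, f.symm_apply_apply, hfe, hfe, ← hx₀e, ← map_inv, ← map_mul, ← map_mul] at h2
  exact congrArg Subtype.val (F.injective_of_mem hθ' h2)

end Cfsg.Agent.RelProd
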