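import Cfsg.Agent.Lib.RelProd.Claim

/-!
# Automorphisms of `T` acting on a subgroup as maps of the system
-/

set_option autoImplicit false
set_option linter.unusedSectionVars false
set_option linter.style.haveILetI false

namespace Cfsg.Agent.RelProd

open Cfsg Cfsg.FusionSystem Cfsg.Agent.FusionSys Cfsg.Agent.FusionSys.FocCent
  Cfsg.Agent.FusionSys.KerClass Cfsg.Agent.FusionMeet

variable {Ω : Type*} [Group Ω] {S T R : Subgroup Ω} {p : ℕ} [hp : Fact p.Prime] [Finite S]
variable {F : FusionSystem S} {E : FusionSystem T}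
variable {C : Data p F E R} {Q : Subgroup Ω}

/-- An identification of `P` with `Q` extending to `N_T(P)`, with one of its classes. -/
def Rep (C : Data p F E R) {Q P : Subgroup Ω} (e : P ≃* Q) (a : MulAut ↥R) : Prop :=
  ∃ ψ ∈ F.Hom (normalizerIn R P),
    (∀ (x : P) (h : (x : Ω) ∈ normalizerIn R P), ψ ⟨x, h⟩ = ((e x : Q) : Ω)) ∧
    Cls F (relSys C) (normalizerIn R P) ψ a

/-- A map with the expected class. -/
def GoodMap (X : Ctx C Q) (P : Subgroup Ω) (φ : P →* Ω) : Prop :=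
  ∀ (e : P ≃* Q) (a : MulAut ↥R), Rep C e a → ∀ (P' : Subgroup Ω) (e' : P' ≃* Q)
    (a' : MulAut ↥R), Rep C e' a' → φ.range = P' →
    ∀ g : MulAut Q, (∀ (x : P) (h : φ x ∈ P'), g (e x) = e' ⟨φ x, h⟩) → (g, a' * a⁻¹) ∈ lamGroup X

theorem exists_rep (X : Ctx C Q) {P : Subgroup Ω} (hP : P ≤ R) (hc : F.IsConj P Q) :
    ∃ (e : P ≃* Q) (a : MulAut ↥R), Rep C e a := by
  obtain ⟨ψ, hψ, -, hψP⟩ := exists_normalizer_map_fullyNormalized C.pg C.sat X.fn hc
  have hle : normalizerIn R P ≤ normalizerIn S P := inf_le_inf_right _ C.le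
  have hPm : Mem T R P := C.mem_conj X.hc.1 (isConj_symm hc) hP
  obtain ⟨a, ha⟩ := exists_cls C (hPm.mono (le_normalizerIn hP) (normalizerIn_le _ P)) (restrict_mem F hψ hle) (by
    rintro _ ⟨x, rfl⟩
    exact C.apply_mem' hψ (le_normalizerIn (hP.trans C.le)) hPm (extend_restrict_range _ hψP) X.hc.le x.2.1)
  exact ⟨mapEquiv F (restrict_mem F hψ (le_normalizerIn (hP.trans C.le))) (extend_restrict_range _ hψP), a,
    _, restrict_mem F hψ hle, fun x _ => rfl, ha⟩

/-- Restrictions of maps of the system on larger subgroups. -/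
theorem goodMap_of_extends (X : Ctx C Q) {P M : Subgroup Ω} (hPM : P < M) {d : M →* Ω}
    (hd : d ∈ (relSys C).Hom M) {φ : P →* Ω} (hφ : ∀ x : P, φ x = d (Subgroup.inclusion hPM.le x)) :
    GoodMap X P φ := by
  intro e a ⟨ψ, hψ, hψe, hψc⟩ P' e' a' ⟨ψ', hψ', hψ'e, hψ'c⟩ hr g hg
  have hAI := relSys_autInvariant C
  have hMT : M ≤ R := hom_le _ hd
  have hMS := hMT.trans C.le
  haveI := finite_of_le hMS
  haveI := finite_of_le (hPM.le.trans hMS)
  set M₁ := normalizerIn M P
  have hM₁M : M₁ ≤ M := normalizerIn_le M P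
  have hPM₁ : P < M₁ := lt_normalizerIn (C.pg.to_le hMS) hPM
  have hM₁N : M₁ ≤ normalizerIn R P := inf_le_inf_right _ hMT
  have hd₁ := restrict_mem (relSys C) hd hM₁M
  set d₁ := d.comp (Subgroup.inclusion hM₁M) with hd₁def
  have hrd : (d₁.comp (Subgroup.inclusion hPM₁.le)).range = P' := by
    rw [← hr]
    congr 1
    exact MonoidHom.ext fun x => (hφ x).symm
  have hP'S : P' ≤ S := hr ▸ (by
    rintro _ ⟨x, rfl⟩
    rw [hφ]
    exact C.le (hom_apply_mem _ hd _))
  haveI := finite_of_le hP'S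
  have hd₁N : ∀ x : M₁, d₁ x ∈ normalizerIn R P' := fun x =>
    ⟨hom_apply_mem _ hd₁ x, apply_mem_normalizer d₁ hPM₁.le hrd x x.2.2⟩
  have hψM := restrict_mem F hψ hM₁N
  set L := (ψ.comp (Subgroup.inclusion hM₁N)).range with hL
  set ε : M₁ ≃* L := mapEquiv F hψM rfl with hε
  have hεc : Cls F (relSys C) M₁ (equivHom ε) a := (hψc.restrict hM₁N).congr fun _ => rfl
  have h1 := Cls.comp hAI (cls_of_mem hd₁ : Cls F (relSys C) M₁ d₁ 1) hψ'c hd₁N
  have h2 := Cls.comp hAI (hεc.symm hAI ε) h1 fun y => (ε.symm y).2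
  rw [mul_one] at h2
  have hPN : P ≤ normalizerIn R P := hPM₁.le.trans hM₁N
  have hQL : Q ≤ L := fun y hy => ⟨⟨e.symm ⟨y, hy⟩, hPM₁.le (e.symm ⟨y, hy⟩).2⟩, by
    show ψ ⟨_, _⟩ = y
    rw [hψe, e.apply_symm_apply]⟩
  have hLR : L ≤ normalizerIn R Q := by
    have hrP : ((ψ.comp (Subgroup.inclusion hM₁N)).comp (Subgroup.inclusion hPM₁.le)).range = Q := by
      ext y
      constructor
      · rintro ⟨x, rfl⟩
        show ψ ⟨(x : Ω), hPN x.2⟩ ∈ Q
        rw [hψe]
        exact (e x).2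
      · intro hy
        refine ⟨e.symm ⟨y, hy⟩, ?_⟩
        show ψ ⟨((e.symm ⟨y, hy⟩ : P) : Ω), hPN (e.symm ⟨y, hy⟩).2⟩ = y
        rw [hψe, e.apply_symm_apply]
    haveI := finite_of_le X.leS
    rintro _ ⟨x, rfl⟩
    exact ⟨C.apply_mem' hψM hPM₁.le (C.mem_conj X.hc.1 (isConj_symm ⟨_, restrict_mem F hψM hPM₁.le, hrP⟩)
      (hPM.le.trans hMT)) hrP X.hc.le (hMT (hM₁M x.2)), apply_mem_normalizer _ hPM₁.le hrP x x.2.2⟩
  have hQlt : Q < L := by
    haveI := finite_of_le (hLR.trans ((normalizerIn_le _ _).trans C.le))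
    refine lt_of_le_of_ne hQL fun he => ?_
    haveI := finite_of_le (hM₁M.trans hMS)
    have h3 := card_lt_of_lt hPM₁
    rw [Nat.card_congr e.toEquiv, Nat.card_congr ε.toEquiv, ← he] at h3
    exact lt_irrefl _ h3
  refine (claim X L hQL hLR hQlt).map _ ?_ g (fun q h => ?_) (a' * a⁻¹) h2
  · exact F.comp_mem (equivHom_mapEquiv_symm F hψM rfl)
      (F.comp_mem (relSys_sub C M₁ hd₁) hψ' hd₁N) fun y => (ε.symm y).2
  · obtain ⟨x, rfl⟩ := e.surjective q
    have e1 : ε.symm ⟨((e x : Q) : Ω), h⟩ = Subgroup.inclusion hPM₁.le x := by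
      rw [MulEquiv.symm_apply_eq]
      exact Subtype.ext (hψe x (hPN x.2)).symm
    have hxP : φ x ∈ P' := hr.le ⟨x, rfl⟩
    show ψ' ⟨d₁ (ε.symm ⟨((e x : Q) : Ω), h⟩), _⟩ = ((g (e x) : Q) : Ω)
    rw [hg x hxP, ← hψ'e ⟨φ x, hxP⟩ (le_normalizerIn
      (by rw [← hr]; rintro _ ⟨z, rfl⟩; rw [hφ]; exact hom_apply_mem _ hd _) hxP)]
    refine apply_congr ψ' ?_ _ _
    rw [e1]
    exact (hφ x).symm

/-- The generators have the expected class. -/
theorem goodMap_of_gen (X : Ctx C Q) {P : Subgroup Ω} (hPc : Hc F E R P) (hPlt : P < R) {x : MulAut P}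
    (hx : Gen p F E P x) : GoodMap X P (equivHom x) := by
  intro e a he P' e' a' he' hr g hg
  rw [equivHom_range] at hr
  subst hr
  have heF : equivHom e ∈ F.Hom P := by
    obtain ⟨ψ, hψ, hψe, -⟩ := he
    exact hom_congr F (restrict_mem F hψ (le_normalizerIn hPc.le)) fun y => (hψe y (le_normalizerIn hPc.le y.2)).symm
  obtain ⟨hco, hxJ⟩ := hx
  have h1 := congr_mem_gAut C.inv heF hxJ
  set xQ := MulAut.congr e x with hxQ
  have h2 : (xQ, (1 : MulAut ↥R)) ∈ lamGroup X :=
    lam_bGroup_mem X (Subgroup.mem_sup_left (mem_opOf h1 (by rw [hxQ, MulEquiv.orderOf_eq]; exact hco)))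
  set g1 : MulAut Q := e.symm.trans e' with hg1
  have h3 : (g1, a' * a⁻¹) ∈ lamGroup X :=
    goodMap_of_extends X hPlt (subtype_mem (relSys C) le_rfl) (φ := P.subtype) (fun _ => rfl) e a he P e' a' he'
      P.range_subtype g1 fun y h => by
        show e' (e.symm (e y)) = _
        rw [e.symm_apply_apply]
        rfl
  have h4 : g = g1 * xQ := by
    refine MulEquiv.ext fun q => ?_
    obtain ⟨y, rfl⟩ := e.surjective q
    rw [hg y (x y).2, MulAut.mul_apply, hxQ, congr_apply, e.symm_apply_apply]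
    show _ = e' (e.symm (e (x y)))
    rw [e.symm_apply_apply]
    rfl
  have h5 := (lamGroup X).mul_mem h3 h2
  rw [Prod.mk_mul_mk, mul_one, ← h4] at h5
  exact h5

/-- All maps of the system have the expected class. -/
theorem goodMap_of_mem (X : Ctx C Q) {P : Subgroup Ω} {φ : P →* Ω} (hφ : φ ∈ (relSys C).Hom P)
    (hP : F.IsConj P Q) : GoodMap X P φ := by
  haveI : Finite ↥R := finite_of_le (S := S) C.le
  have hlt : ∀ {U₀ : Subgroup Ω}, U₀ ≤ R → F.IsConj U₀ Q → U₀ < R := fun {U₀} hR hc =>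
    lt_of_le_of_ne hR fun he => by
      have := card_lt_of_lt X.lt
      rw [← isConj_card hc, he] at this
      exact lt_irrefl _ this
  let Y : FusionSystem R :=
    { Hom := fun U₀ => {φ | φ ∈ (relSys C).Hom U₀ ∧ (F.IsConj U₀ Q → GoodMap X U₀ φ)}
      le_of_mem := fun h => (relSys C).le_of_mem h.1
      injective_of_mem := fun h => (relSys C).injective_of_mem h.1
      conj_mem := by
        refine fun {U₀ g} hR hg => ⟨(relSys C).conj_mem hR hg, fun hc => ?_⟩
        exact goodMap_of_extends X (hlt hR hc) ((relSys C).conj_mem le_rfl hg) fun _ => rfl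
      comp_mem := by
        rintro U₀ U φ ψ ⟨hφ, hφg⟩ ⟨hψ, hψg⟩ h
        refine ⟨(relSys C).comp_mem hφ hψ h, fun hc => ?_⟩
        intro e a he P' e' a' he' hr g hg
        have hconj : F.IsConj U₀ φ.range := ⟨φ, relSys_sub C U₀ hφ, rfl⟩
        have hc1 : F.IsConj φ.range Q := isConj_trans (isConj_symm hconj) hc
        have hrU : φ.range ≤ U := by rintro _ ⟨x, rfl⟩; exact h x
        have hmid : GoodMap X φ.range (ψ.comp (Subgroup.inclusion hrU)) := by
          rcases eq_or_lt_of_le hrU with heq | hlt'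
          · subst heq
            exact hψg hc1
          · exact goodMap_of_extends X hlt' hψ fun _ => rfl
        obtain ⟨e1, a1, he1⟩ := exists_rep X (range_le _ hφ) hc1
        set f := mapEquiv (relSys C) hφ rfl
        set g1 : MulAut Q := e.symm.trans (f.trans e1) with hg1
        have h1 := hφg hc e a he φ.range e1 a1 he1 rfl g1 fun x hx => by
          show e1 (f (e.symm (e x))) = _
          rw [e.symm_apply_apply]
          rfl
        have hr' : (ψ.comp (Subgroup.inclusion hrU)).range = P' := by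
          rw [← hr]
          ext y
          constructor
          · rintro ⟨⟨_, x, rfl⟩, rfl⟩; exact ⟨x, rfl⟩
          · rintro ⟨x, rfl⟩; exact ⟨⟨φ x, x, rfl⟩, rfl⟩
        have h2 := hmid e1 a1 he1 P' e' a' he' hr' (g * g1⁻¹) fun y hy => by
          obtain ⟨x, rfl⟩ := f.surjective y
          have e2 : g1⁻¹ (e1 (f x)) = e x := by
            show g1.symm (e1 (f x)) = e x
            rw [MulEquiv.symm_apply_eq, hg1]
            show e1 (f x) = e1 (f (e.symm (e x)))
            rw [e.symm_apply_apply]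
          rw [MulAut.mul_apply, e2, hg x (hr.le ⟨x, rfl⟩)]
          rfl
        have h3 := (lamGroup X).mul_mem h2 h1
        rwa [Prod.mk_mul_mk, inv_mul_cancel_right, ← mul_assoc, inv_mul_cancel_right] at h3
      inv_mem := by
        rintro U₀ φ ⟨hφ, hφg⟩
        obtain ⟨ψ, hψ, hψe⟩ := (relSys C).inv_mem hφ
        refine ⟨ψ, ⟨hψ, fun hc => ?_⟩, hψe⟩
        intro e a he P' e' a' he' hr g hg
        have hP' : P' = U₀ := by
          rw [← hr]
          ext y
          constructor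
          · rintro ⟨⟨_, x, rfl⟩, rfl⟩; rw [hψe]; exact x.2
          · intro hy; exact ⟨⟨φ ⟨y, hy⟩, _, rfl⟩, hψe ⟨y, hy⟩⟩
        subst hP'
        have hconj : F.IsConj P' φ.range := ⟨φ, relSys_sub C P' hφ, rfl⟩
        have h1 := hφg (isConj_trans hconj hc) e' a' he' φ.range e a he rfl g⁻¹ fun x hx => by
          show g.symm (e' x) = e ⟨φ x, hx⟩
          rw [MulEquiv.symm_apply_eq, hg ⟨φ x, hx⟩ (by rw [hψe]; exact x.2)]
          exact congrArg e' (Subtype.ext (hψe x).symm)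
        have h2 := (lamGroup X).inv_mem h1
        rwa [Prod.inv_mk, inv_inv, mul_inv_rev, inv_inv] at h2 }
  have hY : GenClosed p F E Y := by
    intro U₀ hR x hx
    exact (mem_autGroup_iff Y hR.le x).2 ⟨(mem_autGroup_iff _ hR.le x).1 (genClosed_relSys C U₀ hR x hx),
      fun hc => goodMap_of_gen X hR (hlt hR.le hc) hx⟩
  exact (relSys_min hY P hφ).2 hP

/-- For nice `T`-centric subgroups `dRes` is as expected. -/
theorem dRes_le_gGroup (C : Data p F E R) : ∀ (Q : Subgroup Ω) (hQ : RNice F R Q),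
    Hc F E R Q → dRes C hQ.le ≤ gGroup C Q := by
  intro Q
  haveI : Finite ↥R := finite_of_le (S := S) C.le
  induction hk : Nat.card ↥R - Nat.card Q using Nat.strong_induction_on generalizing Q with
  | _ k ih =>
  intro hQ hQc
  rcases eq_or_lt_of_le hQ.le with heq | hlt
  · subst heq
    exact dRes_top_le C
  have X : Ctx C Q := ⟨hQc, hQ, hlt, fun M hM hMc hc => ih _ (by
    have : Nat.card M ≤ Nat.card ↥R := Subgroup.card_le_of_le hM.le
    omega) M rfl hM hMc⟩
  intro α hα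
  obtain ⟨hαF, hres⟩ := (mem_dRes_iff C hQ.le).1 hα
  set φ := (R.subtype.comp α.toMonoidHom).comp (Subgroup.inclusion hQ.le) with hφdef
  have hgood := goodMap_of_mem X hres (isConj_refl F X.leS)
  set P' := φ.range with hP'
  set f := mapEquiv (relSys C) hres rfl with hf
  have he : Rep C (MulEquiv.refl Q) 1 :=
    ⟨(normalizerIn R Q).subtype, subtype_mem F ((normalizerIn_le _ _).trans C.le), fun _ _ => rfl,
      cls_of_mem (subtype_mem _ (normalizerIn_le _ _))⟩
  have hNT : normalizerIn R P' ≤ R := normalizerIn_le _ _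
  have he' : Rep C f.symm α⁻¹ := by
    refine ⟨_, restrict_mem F ((mem_autGroup_iff F C.le α⁻¹).1 (Subgroup.inv_mem _ hαF)) hNT, fun y h => ?_,
      cls_of_aut (Subgroup.inv_mem _ hαF) hNT fun _ => rfl⟩
    obtain ⟨x, rfl⟩ := f.surjective y
    rw [f.symm_apply_apply]
    show ((α⁻¹ ⟨φ x, _⟩ : ↥R) : Ω) = x
    rw [show (⟨φ x, hNT h⟩ : ↥R) = α ⟨(x : Ω), hQ.le x.2⟩ from Subtype.ext rfl, MulAut.inv_apply_self]
  have h := hgood (MulEquiv.refl Q) 1 he P' f.symm α⁻¹ he' rfl 1 fun x hx => by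
    show x = f.symm (f x)
    rw [f.symm_apply_apply]
  rw [inv_one, mul_one] at h
  simpa using Subgroup.inv_mem _ (gGroup_of_lam X h)

end Cfsg.Agent.RelProd
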