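import Cfsg.Agent.Lib.FusionMeet.Nice
import Cfsg.Agent.Lib.Fusion.FactorLift

/-!
# Lifts of the automorphisms of a normal subsystem on centric subgroups

Every automorphism in `E` of a centric subgroup `Q` of `E` with iterated full normalization has a lift on
`Q C_S(Q)` acting trivially on `C_S(Q)` modulo `Z(Q)`.
-/

set_option autoImplicit false
set_option linter.unusedSectionVars false
set_option linter.style.haveILetI false

namespace Cfsg.Agent.RelProd

open Cfsg Cfsg.FusionSystem Cfsg.Agent.FusionSys Cfsg.Agent.FusionSys.FocCent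
  Cfsg.Agent.FusionSys.LayerCore Cfsg.Agent.FusionMeet

variable {Ω : Type*} [Group Ω] {S T : Subgroup Ω} [Finite S] {p : ℕ} [hp : Fact p.Prime]
variable {F : FusionSystem S} {E : FusionSystem T}

/-- The automorphisms induced by `S` and lying in a weakly normal subsystem come from its carrier. -/
theorem autT_of_mem (hS : IsPGroup p S) (hE : E.IsWeaklyNormalIn F p) {Q : Subgroup Ω} (hQT : Q ≤ T)
    (hQ : F.IsFullyNormalized Q) {a : MulAut Q} (ha : a ∈ autInducedBy S Q) (ha' : a ∈ E.autGroup Q) :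
    a ∈ autInducedBy T Q := by
  obtain ⟨hEs, hF, hsub, hT, -, -⟩ := hE
  haveI := finite_of_le hQ.1
  haveI : Finite T := finite_of_le (S := S) hT.1
  have hTp : IsPGroup p T := hS.to_le hT.1
  have hsyl := isSyl_of_fullyAutomized (fullyNormalized_imp hTp hEs
    (fullyNormalized_subsystem hS hF hT hsub hQT hQ)).2
  have heq := hsyl.eq_of_le (X := autInducedBy S Q ⊓ E.autGroup Q)
    (le_inf (autInducedBy_mono hT.1) hsyl.1) inf_le_right ((autInducedBy_isPGroup hS).to_le inf_le_left)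
  rw [heq]
  exact ⟨ha, ha'⟩

/-- The automorphisms of a weakly normal subsystem are normalized by those of the system. -/
theorem conj_mem_aut (hE : E.IsWeaklyNormalIn F p) {Q : Subgroup Ω} (hQT : Q ≤ T) {a b : MulAut Q}
    (ha : a ∈ F.autGroup Q) (hb : b ∈ E.autGroup Q) : a * b * a⁻¹ ∈ E.autGroup Q :=
  congr_mem_of_frattini hE.2.2.2.2.1 hQT a
    (hE.2.2.2.2.2 Q hQT _ ((equivHom_autGroup F (hQT.trans hE.2.2.2.1.1)).1 ha)) hb

/-- An element of order prime to `p` normalizing `Aut_T(Q)` lifts if the same holds on `N_T(Q)`. -/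
theorem lift_step (hS : IsPGroup p S) (hE : E.IsNormalIn F p) {Q : Subgroup Ω} (hQT : Q ≤ T)
    (hQc : E.IsCentric Q) (hNfc : F.IsFullyCentralized (normalizerIn T Q))
    (hIH : ∀ ν ∈ E.autGroup (normalizerIn T Q), ∃ Ψ : MulAut (rc S (normalizerIn T Q)),
      IsLift F (normalizerIn T Q) Ψ ∧ Rel (le_rc _) Ψ ν)
    {x : MulAut Q} (hx : x ∈ E.autGroup Q) (hco : (orderOf x).Coprime p)
    (hxn : x ∈ Subgroup.normalizer (autInducedBy T Q : Set (MulAut Q))) :
    ∃ ψ : MulAut (rc S Q), IsLift F Q ψ ∧ Rel (le_rc Q) ψ x := by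
  obtain ⟨hEs, hF, hsub, hT, hAI, hfr⟩ := id hE.1
  haveI : Finite T := finite_of_le (S := S) hT.1
  have hTp : IsPGroup p T := hS.to_le hT.1
  have hQS := hQT.trans hT.1
  set N := normalizerIn T Q with hNdef
  have hNT : N ≤ T := normalizerIn_le T Q
  have hNS := hNT.trans hT.1
  have hQN : Q ≤ N := le_normalizerIn hQT
  have hNn : N ≤ Subgroup.normalizer (Q : Set Ω) := fun g hg => hg.2
  haveI := finite_of_le hQS
  haveI := finite_of_le hNS
  -- the extension to `N` inside `E`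
  obtain ⟨χ, hχ, hχe⟩ := (fullyCentralized_receptive hTp hEs (KerClass.centric_fullyCentralized hQc)).2 Q _
    ((equivHom_autGroup E hQT).1 hx) (equivHom_range x)
  have hNe : N ≤ extender T Q (equivHom x) := by
    intro g hg
    obtain ⟨c, hc, hce⟩ := exists_conjAut (K := T) (P := Q) hg.1 hg.2
    obtain ⟨h, hh, hhe⟩ := (mem_autInducedBy_iff _).1 ((Subgroup.mem_normalizer_iff.1 hxn c).1 hc)
    refine Subgroup.subset_closure ⟨hg.1, hg.2, h, hh, fun q hq => ?_⟩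
    have h2 := hhe (x q)
    simp only [MulAut.mul_apply, MulAut.inv_apply_self] at h2
    refine Eq.trans ?_ h2
    rw [equivHom_apply, show (⟨g * (q : Ω) * g⁻¹, hq⟩ : Q) = c q from Subtype.ext (hce q).symm]
  have hχN := restrict_mem E hχ hNe
  set χN := χ.comp (Subgroup.inclusion hNe) with hχNdef
  have hχQ : ∀ q : Q, χN (Subgroup.inclusion hQN q) = ((x q : Q) : Ω) := fun q => hχe q q.2 _
  have hrQ : (χN.comp (Subgroup.inclusion hQN)).range = Q := by
    rw [show χN.comp (Subgroup.inclusion hQN) = equivHom x from MonoidHom.ext hχQ, equivHom_range]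
  obtain ⟨ν₀, hν₀, hν₀e⟩ := exists_aut_of_invariant E hχN fun g =>
    ⟨hom_apply_mem E hχN g, apply_mem_normalizer χN hQN hrQ g g.2.2⟩
  have hν₀x : Rel hQN ν₀ x := fun q => Subtype.ext ((hν₀e _).trans (hχQ q))
  obtain ⟨n₁, hn₁, hn₁e⟩ := exists_pprime_exp p ν₀ x hco
  set ν := ν₀ ^ n₁ with hνdef
  have hν : ν ∈ E.autGroup N := Subgroup.pow_mem _ hν₀ n₁
  have hνx : Rel hQN ν x := by have := hν₀x.pow n₁; rwa [hn₁e] at this
  obtain ⟨Ψ, hΨ, hΨν⟩ := hIH ν hν
  -- the extension to `N C_S(Q)`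
  set M := rc S N ⊔ centralizerIn S Q with hMdef
  have hUM : rc S N ≤ M := le_sup_left
  have hMS : M ≤ S := sup_le (rc_le hNS) (centralizerIn_le _ _)
  haveI := finite_of_le hMS
  have hνF := autGroup_mono hsub N hν
  have hνh : equivHom ν ∈ F.Hom N := (equivHom_autGroup F hNS).1 hνF
  have hcz : ∀ c ∈ centralizerIn S Q, c ∈ Subgroup.normalizer (N : Set Ω) ∧ ∃ z ∈ zc Q,
      ∀ (y : N) (h : c * (y : Ω) * c⁻¹ ∈ N),
        ((ν ⟨c * y * c⁻¹, h⟩ : N) : Ω) = (z * c) * ((ν y : N) : Ω) * (z * c)⁻¹ := by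
    intro c hc
    have hcT := stronglyClosed_le_normalizer hT hc.1
    have hcn : c ∈ Subgroup.normalizer (Q : Set Ω) := Subgroup.centralizer_le_normalizer _ hc.2
    have hcN : c ∈ Subgroup.normalizer (N : Set Ω) := mem_normalizer_of_conj_mem_finite fun y hy =>
      ⟨(Subgroup.mem_normalizer_iff.1 hcT y).1 hy.1,
        Subgroup.mul_mem _ (Subgroup.mul_mem _ hcn hy.2) (Subgroup.inv_mem _ hcn)⟩
    refine ⟨hcN, ?_⟩
    obtain ⟨cc, hcc, hcce⟩ := exists_conjAut (K := S) (P := N) hc.1 hcN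
    have hccF := autInducedBy_le_autGroup F hNS hcc
    have hccQ : Rel hQN cc 1 := fun q => Subtype.ext (by
      rw [hcce]
      show c * (q : Ω) * c⁻¹ = q
      rw [← Subgroup.mem_centralizer_iff.1 hc.2 q q.2, mul_inv_cancel_right])
    set δ := ν * (cc * ν⁻¹ * cc⁻¹) with hδ
    have hδE : δ ∈ E.autGroup N :=
      Subgroup.mul_mem _ hν (conj_mem_aut hE.1 hNT hccF (Subgroup.inv_mem _ hν))
    have hδQ : Rel hQN δ 1 := by
      have h1 := hνx.mul ((hccQ.mul hνx.inv).mul hccQ.inv)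
      simpa using h1
    obtain ⟨z, hz, hzc, hze⟩ := exists_conj_of_fix hTp hEs hQN hNn hQc hδE hNT fun y hy =>
      Subtype.ext (hδQ.apply ⟨y, hy⟩)
    refine ⟨z, ⟨hz, hzc⟩, fun y h => ?_⟩
    have h1 := hze (cc (ν y))
    rw [hcce] at h1
    have h2 : δ (cc (ν y)) = ν ⟨c * y * c⁻¹, h⟩ := by
      rw [hδ]
      simp only [MulAut.mul_apply, MulAut.inv_apply_self]
      exact congrArg ν (Subtype.ext (hcce y))
    rw [h2] at h1
    rw [h1]
    group
  have hMe : M ≤ extender S N (equivHom ν) := by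
    refine sup_le (centralizerIn_sup_le_extender F hνh) fun c hc => ?_
    obtain ⟨hcN, z, hz, he⟩ := hcz c hc
    exact Subgroup.subset_closure ⟨hc.1, hcN, z * c, S.mul_mem (hQS hz.1) hc.1, fun y hy => he y hy⟩
  obtain ⟨φ, hφ, hφe⟩ := exists_extension_of_lift hS hF hNfc hΨ hΨν hUM hMe
  have hQM : Q ≤ M := hQN.trans ((le_rc N).trans hUM)
  have hφQ : (φ.comp (Subgroup.inclusion hQM)).range = Q := by
    rw [show φ.comp (Subgroup.inclusion hQM) = equivHom x from MonoidHom.ext fun q =>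
      (hφe (Subgroup.inclusion (hQN.trans (le_rc N)) q)).trans
        ((congrArg Subtype.val (hΨν (Subgroup.inclusion hQN q))).trans
          (congrArg Subtype.val (hνx q))), equivHom_range]
  obtain ⟨A₀, hA₀, hA₀e⟩ := exists_aut_of_invariant F hφ fun y => apply_mem_of_sup φ
    (fun u => by
      rw [show φ (Subgroup.inclusion le_sup_left u) = _ from hφe u]
      exact Subgroup.mem_sup_left (Ψ u).2)
    (fun c => Subgroup.mem_sup_right (S := rc S N) (T := centralizerIn S Q)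
      ⟨hom_apply_mem F hφ _, apply_mem_centralizer φ hQM hφQ _ c.2.2⟩) y
  have hA₀Ψ : Rel hUM A₀ Ψ := fun u => Subtype.ext ((hA₀e _).trans (hφe u))
  obtain ⟨n, hn, hne⟩ := exists_pprime_exp p A₀ ν hn₁
  set A := A₀ ^ n with hAdef
  set Φ := Ψ ^ n with hΦdef
  have hA : A ∈ F.autGroup M := Subgroup.pow_mem _ hA₀ n
  have hΦ : IsLift F N Φ := Subgroup.pow_mem (liftGroup F hNS) hΨ n
  have hAΦ : Rel hUM A Φ := hA₀Ψ.pow n
  have hΦν : Rel (le_rc N) Φ ν := by rw [← hne]; exact hΨν.pow n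
  have hAν : Rel ((le_rc N).trans hUM) A ν := rel_trans hAΦ hΦν
  have hAx : Rel hQM A x := rel_trans hAν hνx
  -- the restriction to `Q C_S(Q)`
  have hrc : rc S Q ≤ M := sup_le hQM le_sup_right
  have hcentA : ∀ y : M, (y : Ω) ∈ centralizerIn S Q → ((A y : M) : Ω) ∈ centralizerIn S Q := fun y hy =>
    ⟨hMS (A y).2, by
      refine Subgroup.mem_centralizer_iff.2 fun q hq => ?_
      obtain ⟨q', hq'⟩ := x.surjective ⟨q, hq⟩
      rw [show q = ((A ⟨q', hQM q'.2⟩ : M) : Ω) by rw [hAx.apply, hq'], ← Subgroup.coe_mul, ← Subgroup.coe_mul,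
        ← map_mul, ← map_mul]
      exact congrArg (fun u : M => ((A u : M) : Ω)) (Subtype.ext (Subgroup.mem_centralizer_iff.1 hy.2 _ q'.2))⟩
  obtain ⟨h, hh, hAh⟩ := exists_rel F hrc hMS hA fun y hy => apply_mem_of_sup
    ((M.subtype.comp A.toMonoidHom).comp (Subgroup.inclusion hrc)) (R := rc S Q)
    (fun q => le_rc Q (by
      show ((A ⟨q, _⟩ : M) : Ω) ∈ Q
      rw [hAx.apply q]; exact (x q).2))
    (fun c => cent_le_rc Q (hcentA _ c.2)) ⟨y, hy⟩
  have hhx : Rel (le_rc Q) h x := rel_descend hAh hAx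
  have hhco : (orderOf h).Coprime p := Nat.Coprime.coprime_dvd_left (rel_orderOf_dvd hAh) hn
  have hval : ∀ (u : Ω) (hu : u ∈ rc S Q), ((h ⟨u, hu⟩ : rc S Q) : Ω) = (A ⟨u, hrc hu⟩ : M) :=
    fun u hu => (hAh.apply ⟨u, hu⟩).symm
  have hcomm : ∀ {z c : Ω}, z ∈ zc Q → c ∈ centralizerIn S Q → z * c = c * z := fun hz hc => zc_comm_cent hz hc
  let K : Subgroup Ω :=
    { carrier := {u | ∃ hu : u ∈ centralizerIn S Q, u⁻¹ * ((h ⟨u, cent_le_rc Q hu⟩ : rc S Q) : Ω) ∈ zc Q}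
      one_mem' := ⟨(centralizerIn S Q).one_mem, by
        rw [show (⟨1, cent_le_rc Q (centralizerIn S Q).one_mem⟩ : rc S Q) = 1 from rfl, map_one]
        simp [(zc Q).one_mem]⟩
      mul_mem' := by
        rintro a b ⟨ha, ha'⟩ ⟨hb, hb'⟩
        refine ⟨(centralizerIn S Q).mul_mem ha hb, ?_⟩
        rw [show (⟨a * b, cent_le_rc Q ((centralizerIn S Q).mul_mem ha hb)⟩ : rc S Q) =
          ⟨a, cent_le_rc Q ha⟩ * ⟨b, cent_le_rc Q hb⟩ from rfl, map_mul, Subgroup.coe_mul]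
        have e := hcomm ha' hb
        have := (zc Q).mul_mem ha' hb'
        convert this using 1
        calc (a * b)⁻¹ * (((h ⟨a, cent_le_rc Q ha⟩ : rc S Q) : Ω) * ((h ⟨b, cent_le_rc Q hb⟩ : rc S Q) : Ω))
            = b⁻¹ * ((a⁻¹ * ((h ⟨a, cent_le_rc Q ha⟩ : rc S Q) : Ω)) * b) *
                (b⁻¹ * ((h ⟨b, cent_le_rc Q hb⟩ : rc S Q) : Ω)) := by group
          _ = _ := by rw [e, inv_mul_cancel_left]
      inv_mem' := by
        rintro a ⟨ha, ha'⟩
        refine ⟨(centralizerIn S Q).inv_mem ha, ?_⟩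
        rw [show (⟨a⁻¹, cent_le_rc Q ((centralizerIn S Q).inv_mem ha)⟩ : rc S Q) =
          (⟨a, cent_le_rc Q ha⟩ : rc S Q)⁻¹ from rfl, map_inv, Subgroup.coe_inv]
        set d := a⁻¹ * ((h ⟨a, cent_le_rc Q ha⟩ : rc S Q) : Ω) with hd
        have := (zc Q).inv_mem ha'
        convert this using 1
        have e := hcomm ((zc Q).inv_mem ha') ((centralizerIn S Q).inv_mem ha)
        rw [show ((h ⟨a, cent_le_rc Q ha⟩ : rc S Q) : Ω) = a * d from (mul_inv_cancel_left _ _).symm,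
          inv_inv, mul_inv_rev, e, mul_inv_cancel_left] }
  have hKzc : zc Q ≤ K := by
    intro z hz
    refine ⟨zc_le_cent hQS hz, ?_⟩
    have h1 : ((h ⟨z, le_rc Q hz.1⟩ : rc S Q) : Ω) = (x ⟨z, hz.1⟩ : Q) := hhx.apply ⟨z, hz.1⟩
    refine (zc Q).mul_mem ((zc Q).inv_mem hz) ?_
    show ((h ⟨z, le_rc Q hz.1⟩ : rc S Q) : Ω) ∈ zc Q
    rw [h1]
    refine ⟨(x _).2, Subgroup.mem_centralizer_iff.2 fun q hq => ?_⟩
    obtain ⟨q', hq'⟩ := x.surjective ⟨q, hq⟩
    rw [show q = ((x q' : Q) : Ω) by rw [hq'], ← Subgroup.coe_mul, ← Subgroup.coe_mul, ← map_mul, ← map_mul]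
    exact congrArg (fun w : Q => ((x w : Q) : Ω)) (Subtype.ext (Subgroup.mem_centralizer_iff.1 hz.2 _ q'.2))
  have hCN : ∀ w ∈ centralizerIn S N, w ∈ K := by
    intro w hw
    have hwQ : w ∈ centralizerIn S Q := ⟨hw.1, Subgroup.centralizer_le hQN hw.2⟩
    refine ⟨hwQ, ?_⟩
    rw [hval, hAΦ.apply ⟨w, cent_le_rc N hw⟩]
    have hd := hΦ.2.2 ⟨w, cent_le_rc N hw⟩ hw
    have hd' : w⁻¹ * ((Φ ⟨w, cent_le_rc N hw⟩ : rc S N) : Ω) ∈ centralizerIn T Q :=
      ⟨hNT hd.1, Subgroup.centralizer_le hQN hd.2⟩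
    exact ⟨centralizerIn_le_of_centric hQc hd', hd'.2⟩
  refine ⟨h, ⟨hh, fun u hu => ?_, fun u hu => ?_⟩, hhx⟩
  · rw [show u = ⟨((⟨u, hu⟩ : Q) : Ω), le_rc Q hu⟩ from Subtype.ext rfl, hhx.apply ⟨u, hu⟩]
    exact (x _).2
  haveI := finite_of_le (rc_le (S := S) hQS)
  refine step_mod (hS.to_le (rc_le hQS)) hhco (K := K) (N := zc Q) (fun v hv => ?_) hKzc ?_
  · obtain ⟨hv', hd⟩ := hv
    exact hd
  obtain ⟨hcN, z, hz, he⟩ := hcz u hu
  set c := (u : Ω) with hc
  set a := ((A ⟨c, hrc u.2⟩ : M) : Ω) with ha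
  have hw : (z * c)⁻¹ * a ∈ centralizerIn S N := by
    refine ⟨S.mul_mem (S.inv_mem (S.mul_mem (hQS hz.1) hu.1)) (hMS (A _).2),
      Subgroup.mem_centralizer_iff.2 fun y hy => ?_⟩
    obtain ⟨y', hy'⟩ := ν.surjective ⟨y, hy⟩
    have hcy : c * (y' : Ω) * c⁻¹ ∈ N := (Subgroup.mem_normalizer_iff.1 hcN _).1 y'.2
    have h1 := he y' hcy
    have h2 : a * y * a⁻¹ = ((ν ⟨c * y' * c⁻¹, hcy⟩ : N) : Ω) := by
      rw [show y = ((A ⟨y', hUM (le_rc N y'.2)⟩ : M) : Ω) by rw [hAν.apply, hy'], ← hAν.apply, ha,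
        ← Subgroup.coe_inv, ← Subgroup.coe_mul, ← Subgroup.coe_mul, ← map_inv, ← map_mul, ← map_mul]
      exact congrArg (fun w : M => ((A w : M) : Ω)) (Subtype.ext rfl)
    rw [← h2, hy'] at h1
    change a * y * a⁻¹ = z * c * y * (z * c)⁻¹ at h1
    calc y * ((z * c)⁻¹ * a) = (z * c)⁻¹ * (z * c * y * (z * c)⁻¹) * a := by group
      _ = (z * c)⁻¹ * (a * y * a⁻¹) * a := by rw [h1]
      _ = (z * c)⁻¹ * a * y := by group
  have h3 : c⁻¹ * ((h u : rc S Q) : Ω) = z * ((z * c)⁻¹ * a) := by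
    rw [show ((h u : rc S Q) : Ω) = a from hval c u.2]
    calc c⁻¹ * a = c⁻¹ * (z * c) * ((z * c)⁻¹ * a) := by group
      _ = _ := by rw [hcomm hz hu, inv_mul_cancel_left]
  rw [h3]
  exact K.mul_mem (hKzc hz) (hCN _ hw)

/-- Every automorphism in `E` of a nice centric subgroup lifts. -/
theorem exists_lift (hS : IsPGroup p S) (hE : E.IsNormalIn F p) :
    ∀ Q : Subgroup Ω, Nice F T Q → E.IsCentric Q → ∀ x ∈ E.autGroup Q,
      ∃ ψ : MulAut (rc S Q), IsLift F Q ψ ∧ Rel (le_rc Q) ψ x := by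
  obtain ⟨hEs, hF, hsub, hT, hAI, hfr⟩ := id hE.1
  haveI : Finite T := finite_of_le (S := S) hT.1
  have hTp : IsPGroup p T := hS.to_le hT.1
  intro Q
  induction hk : Nat.card T - Nat.card Q using Nat.strong_induction_on generalizing Q with
  | _ k ih =>
  intro hQ hQc x hx
  rcases eq_or_lt_of_le hQ.le with rfl | hlt
  · obtain ⟨β, hβ, hβe, hβd⟩ := hE.2 x hx
    refine ⟨β, ⟨hβ, fun u hu => ?_, fun u hu => hβd u hu⟩, fun q => Subtype.ext (hβe q)⟩
    have e := hβe (⟨(u : Ω), hu⟩ : Q)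
    exact (congrArg (· ∈ Q) e).mpr (x _).2
  have hQn := hQ.fn hT
  have hQS := hQn.1
  have hQT := hQ.le
  haveI := finite_of_le hQS
  have hQfc := (fullyNormalized_imp hS hF hQn).1
  have hNnice := hQ.next hlt
  have hNfc := (fullyNormalized_imp hS hF (hNnice.fn hT)).1
  have hIH : ∀ ν ∈ E.autGroup (normalizerIn T Q), ∃ Ψ : MulAut (rc S (normalizerIn T Q)),
      IsLift F (normalizerIn T Q) Ψ ∧ Rel (le_rc _) Ψ ν := by
    refine ih _ ?_ _ rfl hNnice (isCentric_mono hQc (le_normalizerIn hQT) (normalizerIn_le _ _))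
    haveI := finite_of_le (S := S) ((normalizerIn_le T Q).trans hT.1)
    have h1 := card_lt_of_lt (lt_normalizerIn hTp hlt)
    have h2 : Nat.card (normalizerIn T Q) ≤ Nat.card T := Subgroup.card_le_of_le (normalizerIn_le T Q)
    omega
  set A := E.autGroup Q
  set L := A ⊓ resSub (le_rc Q) (liftGroup F hQS) with hL
  have hmemL : ∀ y ∈ A, (∃ ψ : MulAut (rc S Q), IsLift F Q ψ ∧ Rel (le_rc Q) ψ y) → y ∈ L :=
    fun y hy hl => ⟨hy, hl⟩
  have hLn : A ≤ Subgroup.normalizer (L : Set (MulAut Q)) := fun a ha => by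
    refine mem_normalizer_of_conj_mem_finite fun y hy => hmemL _ (A.mul_mem (A.mul_mem ha hy.1) (A.inv_mem ha)) ?_
    obtain ⟨ψ, hψ, hψy⟩ := hy.2
    obtain ⟨e, he, -, heQ, -, -⟩ := exists_rc_equiv hS hF hQfc hQfc
      ((equivHom_autGroup F hQS).1 (autGroup_mono hsub Q ha))
    have heF : (e : MulAut (rc S Q)) ∈ F.autGroup (rc S Q) := (equivHom_autGroup F (rc_le hQS)).2 he
    exact ⟨_, IsLift.conj hQS heF heQ hψ, ((show Rel (le_rc Q) (e : MulAut (rc S Q)) a from heQ).mul hψy).mul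
      (show Rel (le_rc Q) (e : MulAut (rc S Q)) a from heQ).inv⟩
  have hWA := isSyl_of_fullyAutomized (fullyNormalized_imp hTp hEs
    (fullyNormalized_subsystem hS hF hT hsub hQT hQn)).2
  set W := autInducedBy T Q with hW
  have hWL : W ≤ L := by
    intro w hw
    refine hmemL w (hWA.1 hw) ?_
    obtain ⟨t, ht, hte⟩ := (mem_autInducedBy_iff _).1 hw
    have htn := mem_normalizer_of_autInduced hte
    obtain ⟨c, hc, hce⟩ := exists_conjAut (K := S) (P := rc S Q) (hT.1 ht)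
      (mem_normalizer_rc hQS ⟨hT.1 ht, htn⟩)
    refine ⟨c, ⟨autInducedBy_le_autGroup F (rc_le hQS) hc, fun u hu => ?_, fun u hu => ?_⟩,
      fun q => Subtype.ext ((hce _).trans (hte q).symm)⟩
    · rw [hce]; exact (Subgroup.mem_normalizer_iff.1 htn u).1 hu
    · rw [hce]
      have hd : (u : Ω)⁻¹ * (t * u * t⁻¹) ∈ centralizerIn T Q := by
        refine ⟨?_, ?_⟩
        · have h1 := (Subgroup.mem_normalizer_iff.1 (stronglyClosed_le_normalizer hT (S.inv_mem hu.1)) t).1 ht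
          rw [inv_inv] at h1
          have := Subgroup.mul_mem _ h1 (Subgroup.inv_mem _ ht)
          simpa [mul_assoc] using this
        · refine Subgroup.mul_mem _ (Subgroup.inv_mem _ hu.2) (Subgroup.mem_centralizer_iff.2 fun r hr => ?_)
          have hr' : t⁻¹ * r * t ∈ Q := by
            simpa using (Subgroup.mem_normalizer_iff.1 (Subgroup.inv_mem _ htn) r).1 hr
          have hc := Subgroup.mem_centralizer_iff.1 hu.2 _ hr'
          calc r * (t * u * t⁻¹) = t * (t⁻¹ * r * t * u) * t⁻¹ := by group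
            _ = t * u * t⁻¹ * r := by rw [hc]; group
      exact ⟨centralizerIn_le_of_centric hQc hd, hd.2⟩
  have hWLs : IsSyl p W L := ⟨hWL, hWA.2.1, fun hd => hWA.2.2 (hd.trans
    (Dvd.intro _ (Subgroup.relIndex_mul_relIndex W L A hWL inf_le_left)))⟩
  obtain ⟨n, hn, b, hb, rfl, hnW⟩ := exists_frattini_syl hWLs inf_le_left hLn hx
  set NW := A ⊓ Subgroup.normalizer (W : Set (MulAut Q)) with hNW
  have hnN : n ∈ NW := ⟨hn, mem_normalizer_of_conj_mem_finite hnW⟩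
  have hWN : IsSyl p W NW := ⟨le_inf hWA.1 Subgroup.le_normalizer, hWA.2.1, fun hd => hWA.2.2 (hd.trans
    (Dvd.intro _ (Subgroup.relIndex_mul_relIndex W NW A (le_inf hWA.1 Subgroup.le_normalizer) inf_le_left)))⟩
  have hNL : NW ≤ L := (le_sylow_sup_opOf hWN).trans (sup_le hWL ((Subgroup.closure_le _).2 fun y hy =>
    hmemL y hy.1.1 (lift_step hS hE hQT hQc hNfc hIH hy.1.1 hy.2 hy.1.2)))
  exact (L.mul_mem (hNL hnN) hb).2

end Cfsg.Agent.RelProd
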