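import Cfsg.Agent.Lib.RelProd.System

/-!
# The local correspondence between `Aut_F(Q)` and classes in `Aut_F(T)`
-/

set_option autoImplicit false
set_option linter.unusedSectionVars false
set_option linter.style.haveILetI false

namespace Cfsg.Agent.RelProd

open Cfsg Cfsg.FusionSystem Cfsg.Agent.FusionSys Cfsg.Agent.FusionSys.FocCent
  Cfsg.Agent.FusionSys.KerClass Cfsg.Agent.FusionMeet

variable {Ω : Type*} [Group Ω] {S T R : Subgroup Ω} {p : ℕ} [hp : Fact p.Prime] [Finite S]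
variable {F : FusionSystem S} {E : FusionSystem T}

/-- The situation of the induction step. -/
structure Ctx (C : Data p F E R) (Q : Subgroup Ω) : Prop where
  hc : Hc F E R Q
  nice : RNice F R Q
  lt : Q < R
  ih : ∀ (M : Subgroup Ω) (hM : RNice F R M), Hc F E R M → Nat.card Q < Nat.card M →
    dRes C hM.le ≤ gGroup C M

variable {C : Data p F E R} {Q : Subgroup Ω}

theorem Ctx.leS (X : Ctx C Q) : Q ≤ S := X.hc.le.trans C.le

theorem Ctx.fn (X : Ctx C Q) : F.IsFullyNormalized Q := X.nice.fn C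

theorem Ctx.fc (X : Ctx C Q) : F.IsFullyCentralized Q := (fullyNormalized_imp C.pg C.sat X.fn).1

theorem Ctx.le_R (X : Ctx C Q) : Q ≤ normalizerIn R Q := le_normalizerIn X.hc.le

theorem Ctx.card_lt_R (X : Ctx C Q) : Nat.card Q < Nat.card (normalizerIn R Q) := by
  haveI := finite_of_le (S := S) ((normalizerIn_le R Q).trans C.le)
  haveI : Finite ↥R := finite_of_le (S := S) C.le
  exact card_lt_of_lt (lt_normalizerIn (C.pg.to_le C.le) X.lt)

theorem Ctx.R_dRes (X : Ctx C Q) :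
    dRes C (normalizerIn_le R Q) ≤ gGroup C Q :=
  (X.ih _ (X.nice.next X.lt) (X.hc.mono C X.le_R (normalizerIn_le _ _)) X.card_lt_R).trans (gGroup_mono C X.le_R)

theorem autGroup_of_rel {M : Subgroup Ω} (hQM : Q ≤ M) (hM : M ≤ S) {γ : MulAut M} (hγ : γ ∈ F.autGroup M)
    {g : MulAut Q} (hg : Rel hQM γ g) : g ∈ F.autGroup Q :=
  (equivHom_autGroup F (hQM.trans hM)).2 (hom_congr F (restrict_mem F ((equivHom_autGroup F hM).1 hγ) hQM)
    fun q => (hg.apply q).symm)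

/-- The automorphisms stabilizing `Q` are those of the normalizer system. -/
theorem mem_normAut {M : Subgroup Ω} (hQS : Q ≤ S) (hQM : Q ≤ M) (hM : M ≤ normalizerIn S Q) {γ : MulAut M} :
    γ ∈ (normSystem F hQS).autGroup M ↔ γ ∈ F.autGroup M ∧ ∃ g, Rel hQM γ g := by
  haveI := finite_of_le hQS
  have hMS : M ≤ S := hM.trans (normalizerIn_le _ _)
  constructor
  · intro h
    obtain ⟨hγ, -, -, ψ, -, e1, e2⟩ := (equivHom_autGroup (normSystem F hQS) hM).1 h
    have hγ' := (equivHom_autGroup F hMS).2 hγ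
    obtain ⟨g, -, hg⟩ := exists_rel F hQM hMS hγ' fun x hx => by
      have h1 : ψ ⟨x, Subgroup.mem_sup_left x.2⟩ ∈ Q :=
        ((map_subgroupOf_eq_iff ψ le_sup_right).1 e2).1 ⟨x, hx⟩
      rw [show ψ ⟨x, Subgroup.mem_sup_left x.2⟩ = ((γ x : M) : Ω) from e1 x] at h1
      exact h1
    exact ⟨hγ', g, hg⟩
  · rintro ⟨hγ, g, hg⟩
    have hh := (equivHom_autGroup F hMS).1 hγ
    refine (equivHom_autGroup (normSystem F hQS) hM).2 ⟨hh, hM, fun x => hM (γ x).2,
      (equivHom γ).comp (Subgroup.inclusion (sup_le le_rfl hQM)), restrict_mem F hh _, fun x => rfl,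
      (map_subgroupOf_eq_iff _ le_sup_right).2 ⟨fun q => ?_, fun y hy => ?_⟩⟩
    · have h1 : ((γ ⟨q, hQM q.2⟩ : M) : Ω) = (g q : Q) := hg.apply q
      show ((γ ⟨q, hQM q.2⟩ : M) : Ω) ∈ Q
      rw [h1]
      exact (g q).2
    · obtain ⟨q, hq⟩ := g.surjective ⟨y, hy⟩
      refine ⟨q, ?_⟩
      show ((γ ⟨q, hQM q.2⟩ : M) : Ω) = y
      rw [hg.apply, hq]

/-- Automorphisms fixing `Q` are induced by `C_S(Q)` on subgroups fully normalized in the normalizer system. -/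
theorem fix_conj (X : Ctx C Q) {M : Subgroup Ω} (hQM : Q ≤ M) (hM : M ≤ normalizerIn R Q)
    (hMn : (normSystem F X.leS).IsFullyNormalized M) {δ : MulAut M} (hδ : δ ∈ F.autGroup M) (hfix : Rel hQM δ 1) :
    ∃ s ∈ centralizerIn S Q, ∀ y : M, ((δ y : M) : Ω) = s * (y : Ω) * s⁻¹ := by
  set N := normSystem F X.leS
  have hMN : M ≤ normalizerIn S Q := hM.trans (inf_le_inf_right _ C.le)
  have hMT : M ≤ R := hM.trans (normalizerIn_le _ _)
  haveI := finite_of_le (hMT.trans C.le)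
  haveI : Finite (normalizerIn S Q) := finite_of_le (normalizerIn_le S Q)
  have hNp : IsPGroup p (normalizerIn S Q) := C.pg.to_le (normalizerIn_le _ _)
  have hNsat := normalizerSystem_saturated C.pg C.sat X.fn N (normSystem_spec F X.leS)
  have hsyl := isSyl_of_fullyAutomized (fullyNormalized_imp hNp hNsat hMn).2
  set Fx := N.autGroup M ⊓ relSub hQM (⊥ : Subgroup (MulAut Q)) with hFx
  have hFxp : IsPGroup p Fx := by
    rintro ⟨a, ha, b, hb, hab⟩
    rw [Subgroup.mem_bot.1 hb] at hab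
    obtain ⟨k, hk⟩ := pElement_of_disp (C.pg.to_le (hMT.trans C.le)) hQM hab fun y => by
      have h1 := disp_centralizes hQM (fun z hz => (hM hz).2) hab y
      exact X.hc.cent_le C ⟨Subgroup.mul_mem _ (Subgroup.inv_mem _ (hMT y.2)) (hMT (a y).2), h1⟩
    exact ⟨k, Subtype.ext hk⟩
  have hFxn : ∀ a ∈ N.autGroup M, ∀ d ∈ Fx, a * d * a⁻¹ ∈ Fx := by
    rintro a ha d ⟨hd, b, hb, hdb⟩
    obtain ⟨-, g, hg⟩ := (mem_normAut X.leS hQM hMN).1 ha
    exact ⟨Subgroup.mul_mem _ (Subgroup.mul_mem _ ha hd) (Subgroup.inv_mem _ ha), g * b * g⁻¹, by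
      rw [Subgroup.mem_bot.1 hb]; simp, (hg.mul hdb).mul hg.inv⟩
  obtain ⟨b, hb, hbW⟩ := hsyl.exists_conj hFxp inf_le_left
  have hδFx : δ ∈ Fx := ⟨(mem_normAut X.leS hQM hMN).2 ⟨hδ, 1, hfix⟩, 1, Subgroup.mem_bot.2 rfl, hfix⟩
  have h1 := hbW ⟨_, hFxn b⁻¹ (Subgroup.inv_mem _ hb) δ hδFx, rfl⟩
  simp only [MulEquiv.coe_toMonoidHom, MulAut.conj_apply] at h1
  rw [show b * (b⁻¹ * δ * b⁻¹⁻¹) * b⁻¹ = δ by group] at h1
  obtain ⟨s, hs, hse⟩ := (mem_autInducedBy_iff _).1 h1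
  refine ⟨s, ⟨hs.1, Subgroup.mem_centralizer_iff.2 fun q hq => ?_⟩, hse⟩
  have h2 := hse ⟨q, hQM hq⟩
  rw [hfix.apply ⟨q, hq⟩, MulAut.one_apply] at h2
  change q = s * q * s⁻¹ at h2
  calc q * s = (s * q * s⁻¹) * s := by rw [← h2]
    _ = s * q := by group

theorem R_fullyNormalized (X : Ctx C Q) :
    (normSystem F X.leS).IsFullyNormalized (normalizerIn R Q) := by
  haveI : Finite (normalizerIn S Q) := finite_of_le (normalizerIn_le S Q)
  refine ⟨inf_le_inf_right _ C.le, fun M _ => ?_⟩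
  have h : normalizerIn S Q ≤ normalizerIn (normalizerIn S Q) (normalizerIn R Q) := by
    refine fun g hg => ⟨hg, ?_⟩
    haveI := finite_of_le (S := S) ((normalizerIn_le R Q).trans C.le)
    refine mem_normalizer_of_conj_mem_finite fun y hy => ⟨?_, ?_⟩
    · exact (Subgroup.mem_normalizer_iff.1 (C.normalizer_le X.hc.1 hg.1 hg.2) y).1 hy.1
    · exact Subgroup.mul_mem _ (Subgroup.mul_mem _ hg.2 hy.2) (Subgroup.inv_mem _ hg.2)
  haveI := finite_of_le (S := S) ((normalizerIn_le (normalizerIn S Q) (normalizerIn R Q)).trans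
    (normalizerIn_le S Q))
  exact Subgroup.card_le_of_le ((normalizerIn_le _ M).trans h)

/-- A class of an automorphism of `N_T(Q)` inducing an element of `bGroup` lies in `gGroup`. -/
theorem cls_kernel (X : Ctx C Q) {ν : MulAut ↥(normalizerIn R Q)}
    (hν : ν ∈ F.autGroup (normalizerIn R Q)) {b : MulAut Q} (hb : b ∈ bGroup p F E R Q)
    (hνb : Rel X.le_R ν b) {μ : MulAut ↥R}
    (hμ : Cls F (relSys C) (normalizerIn R Q) (equivHom ν) μ) : μ ∈ gGroup C Q := by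
  set D := relSys C
  have hRT : (normalizerIn R Q) ≤ R := normalizerIn_le R Q
  have hRS := hRT.trans C.le
  haveI : Finite ↥R := finite_of_le (S := S) C.le
  haveI := finite_of_le hRS
  haveI := finite_of_le X.leS
  have hRn := X.nice.next X.lt
  have hRfc := (fullyNormalized_imp C.pg C.sat (hRn.fn C)).1
  set A := autInducedBy R Q with hA
  set NB := bGroup p F E R Q ⊓ Subgroup.normalizer (A : Set (MulAut Q)) with hNB
  have hW := isSyl_bGroup C X.hc X.fn
  have hWN : IsSyl p A NB := ⟨le_inf hW.1 Subgroup.le_normalizer, hW.2.1, fun hd => hW.2.2 (hd.trans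
    (Dvd.intro _ (Subgroup.relIndex_mul_relIndex A NB (bGroup p F E R Q)
      (le_inf hW.1 Subgroup.le_normalizer) inf_le_left)))⟩
  have hsub : NB ≤ resSub X.le_R (D.autGroup (normalizerIn R Q)) := by
    refine (le_sylow_sup_opOf hWN).trans (sup_le ?_ ((Subgroup.closure_le _).2 ?_))
    · intro a ha
      obtain ⟨t, ht, hte⟩ := (mem_autInducedBy_iff _).1 ha
      have htR : t ∈ (normalizerIn R Q) := ⟨ht, mem_normalizer_of_autInduced hte⟩
      obtain ⟨c, hc, hce⟩ := exists_conjAut (K := R) (P := (normalizerIn R Q)) ht (Subgroup.le_normalizer htR)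
      exact ⟨c, autInducedBy_le_autGroup D hRT hc, fun q => Subtype.ext ((hce _).trans (hte q).symm)⟩
    · rintro x ⟨⟨hxB, hxn⟩, hco⟩
      obtain ⟨ξ, hξ, hξco, hξx⟩ := exists_gAut_extension C X.hc X.fc X.le_R le_rfl
        (gAut_of_coprime C X.hc.1 (bGroup_le_sup p F E R Q hxB) hco) hco fun m hm => by
          obtain ⟨c, hc, hce⟩ := exists_conjAut (K := R) (P := Q) hm.1 hm.2
          obtain ⟨m', hm', hm'e⟩ := (mem_autInducedBy_iff _).1 ((Subgroup.mem_normalizer_iff.1 hxn c).1 hc)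
          refine ⟨m', ⟨hm', mem_normalizer_of_autInduced hm'e⟩, fun q h => ?_⟩
          have h1 := hm'e (x q)
          simp only [MulAut.mul_apply, MulAut.inv_apply_self] at h1
          rw [← h1, show (⟨m * q * m⁻¹, h⟩ : Q) = c q from Subtype.ext (hce q).symm]
      exact ⟨ξ, genClosed_relSys C _ (X.hc.mono C X.le_R hRT) ξ ⟨hξco, hξ⟩, hξx⟩
  have hbn : b ∈ Subgroup.normalizer (A : Set (MulAut Q)) := by
    refine mem_normalizer_of_conj_mem_finite fun a ha => ?_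
    obtain ⟨t, ht, hte⟩ := (mem_autInducedBy_iff _).1 ha
    have htR : t ∈ (normalizerIn R Q) := ⟨ht, mem_normalizer_of_autInduced hte⟩
    refine (mem_autInducedBy_iff _).2 ⟨(ν ⟨t, htR⟩ : (normalizerIn R Q)), hRT (ν _).2, fun q => ?_⟩
    obtain ⟨q, rfl⟩ := b.surjective q
    rw [MulAut.mul_apply, MulAut.mul_apply, MulAut.inv_apply_self, ← hνb.apply, ← hνb.apply,
      ← Subgroup.coe_inv, ← Subgroup.coe_mul, ← Subgroup.coe_mul, ← map_inv, ← map_mul, ← map_mul]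
    exact congrArg (fun w : (normalizerIn R Q) => ((ν w : (normalizerIn R Q)) : Ω)) (Subtype.ext (hte q))
  obtain ⟨ν₀, hν₀, hν₀b⟩ := hsub ⟨hb, hbn⟩
  have hν₀F := autGroup_mono (relSys_sub C) (normalizerIn R Q) hν₀
  have hδfix : Rel X.le_R (ν * ν₀⁻¹) 1 := by rw [← mul_inv_cancel b]; exact hνb.mul hν₀b.inv
  have hδF := Subgroup.mul_mem _ hν (Subgroup.inv_mem _ hν₀F)
  obtain ⟨s, hs, hse⟩ := fix_conj X X.le_R le_rfl (R_fullyNormalized X) hδF hδfix
  have hinv : Cls F D (normalizerIn R Q) (equivHom (ν₀⁻¹ : MulAut (normalizerIn R Q))) 1 :=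
    cls_of_mem ((equivHom_autGroup D hRT).1 (Subgroup.inv_mem _ hν₀))
  have hcls : Cls F D (normalizerIn R Q) (equivHom (ν * ν₀⁻¹)) μ := by
    have := (Cls.comp (relSys_autInvariant C) hinv hμ fun x => ((ν₀⁻¹ : MulAut (normalizerIn R Q)) x).2).congr
      (ψ := equivHom (ν * ν₀⁻¹)) fun _ => rfl
    rwa [mul_one] at this
  obtain ⟨c, hc, hce⟩ := exists_conjAut (K := centralizerIn S Q) (P := R) hs
    (C.normalizer_le X.hc.1 hs.1 (Subgroup.centralizer_le_normalizer _ hs.2))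
  have hcls' : Cls F D (normalizerIn R Q) (equivHom (ν * ν₀⁻¹)) c :=
    cls_of_aut (autInducedBy_le_autGroup F C.le (autInducedBy_mono (centralizerIn_le S Q) hc)) hRT
      fun x => (hse x).trans (hce ⟨(x : Ω), hRT x.2⟩).symm
  have hd := X.R_dRes (cls_unique C hRT ((equivHom_autGroup F hRS).1 hδF) hcls hcls')
  have := Subgroup.mul_mem _ (Subgroup.mem_sup_right (S := bGroup p F E R R) hc : c ∈ gGroup C Q) hd
  rwa [mul_inv_cancel_left] at this

/-- Classes of automorphisms of `N_T(Q)` stabilizing `Q` normalize `gGroup`. -/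
theorem cls_normalizes (X : Ctx C Q) {ν : MulAut ↥(normalizerIn R Q)}
    (hν : ν ∈ F.autGroup (normalizerIn R Q)) {g : MulAut Q}
    (hνg : Rel X.le_R ν g) {μ : MulAut ↥R}
    (hμ : Cls F (relSys C) (normalizerIn R Q) (equivHom ν) μ) {x : MulAut ↥R}
    (hx : x ∈ gGroup C Q) : μ * x * μ⁻¹ ∈ gGroup C Q := by
  set D := relSys C
  have hRT : (normalizerIn R Q) ≤ R := normalizerIn_le R Q
  have hRS := hRT.trans C.le
  haveI := finite_of_le hRS
  obtain ⟨s, hs, c, k, hk, hce, rfl⟩ := mem_gGroup C hx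
  rw [show μ * (c * k) * μ⁻¹ = (μ * c * μ⁻¹) * (μ * k * μ⁻¹) by group]
  refine Subgroup.mul_mem _ ?_ (Subgroup.mem_sup_left (conj_mem_top C hμ.1 hk))
  have hsn : s ∈ Subgroup.normalizer ((normalizerIn R Q) : Set Ω) := by
    refine mem_normalizer_of_conj_mem_finite fun y hy => ⟨?_, ?_⟩
    · exact (Subgroup.mem_normalizer_iff.1
        (C.normalizer_le X.hc.1 hs.1 (Subgroup.centralizer_le_normalizer _ hs.2)) y).1 hy.1
    · have hsN := Subgroup.centralizer_le_normalizer _ hs.2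
      exact Subgroup.mul_mem _ (Subgroup.mul_mem _ hsN hy.2) (Subgroup.inv_mem _ hsN)
  obtain ⟨cR, hcR, hcRe⟩ := exists_conjAut (K := S) (P := (normalizerIn R Q)) hs.1 hsn
  have hcRfix : Rel X.le_R cR 1 := fun q => Subtype.ext (by
    rw [hcRe]
    show s * (q : Ω) * s⁻¹ = q
    rw [← Subgroup.mem_centralizer_iff.1 hs.2 q q.2, mul_inv_cancel_right])
  have hcF := autInducedBy_le_autGroup F hRS hcR
  have hδF := Subgroup.mul_mem _ (Subgroup.mul_mem _ hν hcF) (Subgroup.inv_mem _ hν)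
  have hδfix : Rel X.le_R (ν * cR * ν⁻¹) 1 := by
    have := (hνg.mul hcRfix).mul hνg.inv
    rwa [mul_one, mul_inv_cancel] at this
  obtain ⟨s', hs', hse'⟩ := fix_conj X X.le_R le_rfl (R_fullyNormalized X) hδF hδfix
  have hcT : c ∈ autInducedBy (centralizerIn S Q) R := (mem_autInducedBy_iff _).2 ⟨s, hs, hce⟩
  have h1 : Cls F D (normalizerIn R Q) (equivHom (cR : MulAut (normalizerIn R Q))) c :=
    cls_of_aut (autInducedBy_le_autGroup F C.le (autInducedBy_mono (centralizerIn_le S Q) hcT)) hRT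
      fun y => (hcRe y).trans (hce ⟨(y : Ω), hRT y.2⟩).symm
  have h2 : Cls F D (normalizerIn R Q) (equivHom (ν * cR * ν⁻¹)) (μ * c * μ⁻¹) :=
    (Cls.comp (relSys_autInvariant C) (hμ.symm (relSys_autInvariant C) ν)
      ((Cls.comp (relSys_autInvariant C) h1 hμ fun y => (cR y).2)) fun y => (ν.symm y).2).congr fun _ => rfl
  obtain ⟨c', hc', hc'e⟩ := exists_conjAut (K := centralizerIn S Q) (P := R) hs'
    (C.normalizer_le X.hc.1 hs'.1 (Subgroup.centralizer_le_normalizer _ hs'.2))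
  have h3 : Cls F D (normalizerIn R Q) (equivHom (ν * cR * ν⁻¹)) c' :=
    cls_of_aut (autInducedBy_le_autGroup F C.le (autInducedBy_mono (centralizerIn_le S Q) hc')) hRT
      fun y => (hse' y).trans (hc'e ⟨(y : Ω), hRT y.2⟩).symm
  have hd := X.R_dRes (cls_unique C hRT ((equivHom_autGroup F hRS).1 hδF) h2 h3)
  have := Subgroup.mul_mem _ (Subgroup.mem_sup_right (S := bGroup p F E R R) hc' : c' ∈ gGroup C Q) hd
  rwa [mul_inv_cancel_left] at this

/-- The graph of the correspondence. -/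
def lamGroup (X : Ctx C Q) : Subgroup (MulAut Q × MulAut ↥R) where
  carrier := {z | ∃ b ∈ bGroup p F E R Q, ∃ ν ∈ F.autGroup (normalizerIn R Q), Rel X.le_R ν (b * z.1) ∧
    ∃ μ, Cls F (relSys C) (normalizerIn R Q) (equivHom ν) μ ∧ z.2 * μ⁻¹ ∈ gGroup C Q}
  one_mem' := by
    refine ⟨1, Subgroup.one_mem _, 1, Subgroup.one_mem _, by rw [one_mul]; exact Rel.one, 1, ?_, by simp [Subgroup.one_mem]⟩
    exact cls_of_mem (hom_congr _ (subtype_mem _ (normalizerIn_le _ _)) fun _ => rfl)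
  mul_mem' := by
    rintro ⟨g, l⟩ ⟨g', l'⟩ ⟨b, hb, ν, hν, hr, μ, hμ, hG⟩ ⟨b', hb', ν', hν', hr', μ', hμ', hG'⟩
    have hRS := (normalizerIn_le R Q).trans C.le
    have hg : g ∈ F.autGroup Q := by
      have := Subgroup.mul_mem _ (Subgroup.inv_mem _ (bGroup_le C X.leS hb)) (autGroup_of_rel X.le_R hRS hν hr)
      rwa [inv_mul_cancel_left] at this
    refine ⟨b * (g * b' * g⁻¹), Subgroup.mul_mem _ hb (conj_mem_bGroup C X.hc X.fn hg hb'), ν * ν',
      Subgroup.mul_mem _ hν hν', ?_, μ * μ', ?_, ?_⟩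
    · have := hr.mul hr'
      rw [show b * g * (b' * g') = b * (g * b' * g⁻¹) * (g * g') by group] at this
      exact this
    · exact (Cls.comp (relSys_autInvariant C) hμ' hμ fun y => (ν' y).2).congr fun _ => rfl
    · show l * l' * (μ * μ')⁻¹ ∈ gGroup C Q
      rw [show l * l' * (μ * μ')⁻¹ = (l * μ⁻¹) * (μ * (l' * μ'⁻¹) * μ⁻¹) by group]
      exact Subgroup.mul_mem _ hG (cls_normalizes X hν hr hμ hG')
  inv_mem' := by
    rintro ⟨g, l⟩ ⟨b, hb, ν, hν, hr, μ, hμ, hG⟩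
    have hRS := (normalizerIn_le R Q).trans C.le
    have hg : g ∈ F.autGroup Q := by
      have := Subgroup.mul_mem _ (Subgroup.inv_mem _ (bGroup_le C X.leS hb)) (autGroup_of_rel X.le_R hRS hν hr)
      rwa [inv_mul_cancel_left] at this
    refine ⟨g⁻¹ * b⁻¹ * g, ?_, ν⁻¹, Subgroup.inv_mem _ hν, ?_, μ⁻¹, ?_, ?_⟩
    · simpa using conj_mem_bGroup C X.hc X.fn (Subgroup.inv_mem _ hg) (Subgroup.inv_mem _ hb)
    · show Rel X.le_R ν⁻¹ (g⁻¹ * b⁻¹ * g * g⁻¹)
      rw [mul_inv_cancel_right, ← mul_inv_rev]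
      exact hr.inv
    · exact (hμ.symm (relSys_autInvariant C) ν).congr fun _ => rfl
    · show l⁻¹ * μ⁻¹⁻¹ ∈ gGroup C Q
      have h1 := cls_normalizes X (Subgroup.inv_mem _ hν) hr.inv
        ((hμ.symm (relSys_autInvariant C) ν).congr fun _ => rfl) (Subgroup.inv_mem _ hG)
      rw [show l⁻¹ * μ⁻¹⁻¹ = μ⁻¹ * (l * μ⁻¹)⁻¹ * μ⁻¹⁻¹ by group]
      exact h1

theorem lam_one_mem (X : Ctx C Q) {x : MulAut ↥R} (hx : x ∈ gGroup C Q) :
    ((1 : MulAut Q), x) ∈ lamGroup X :=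
  ⟨1, Subgroup.one_mem _, 1, Subgroup.one_mem _, by rw [one_mul]; exact Rel.one, 1,
    cls_of_mem (hom_congr _ (subtype_mem _ (normalizerIn_le _ _)) fun _ => rfl), by simpa using hx⟩

theorem lam_bGroup_mem (X : Ctx C Q) {b : MulAut Q} (hb : b ∈ bGroup p F E R Q) :
    (b, (1 : MulAut ↥R)) ∈ lamGroup X :=
  ⟨b⁻¹, Subgroup.inv_mem _ hb, 1, Subgroup.one_mem _, by rw [inv_mul_cancel]; exact Rel.one, 1,
    cls_of_mem (hom_congr _ (subtype_mem _ (normalizerIn_le _ _)) fun _ => rfl), by simp [Subgroup.one_mem]⟩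

theorem lam_R_mem (X : Ctx C Q) {ν : MulAut ↥(normalizerIn R Q)}
    (hν : ν ∈ F.autGroup (normalizerIn R Q)) {g : MulAut Q} (hr : Rel X.le_R ν g)
    {μ : MulAut ↥R} (hμ : Cls F (relSys C) (normalizerIn R Q) (equivHom ν) μ) :
    (g, μ) ∈ lamGroup X :=
  ⟨1, Subgroup.one_mem _, ν, hν, by rw [one_mul]; exact hr, μ, hμ, by simp [Subgroup.one_mem]⟩

theorem gGroup_of_lam (X : Ctx C Q) {x : MulAut ↥R} (hx : ((1 : MulAut Q), x) ∈ lamGroup X) :
    x ∈ gGroup C Q := by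
  obtain ⟨b, hb, ν, hν, hr, μ, hμ, hG⟩ := hx
  rw [mul_one] at hr
  have := Subgroup.mul_mem _ hG (cls_kernel X hν hb hr hμ)
  rwa [inv_mul_cancel_right] at this

theorem lam_normalizes (X : Ctx C Q) {g : MulAut Q} {l : MulAut ↥R} (h : (g, l) ∈ lamGroup X)
    {x : MulAut ↥R} (hx : x ∈ gGroup C Q) : l * x * l⁻¹ ∈ gGroup C Q := by
  refine gGroup_of_lam X ?_
  have := (lamGroup X).mul_mem ((lamGroup X).mul_mem h (lam_one_mem X hx)) ((lamGroup X).inv_mem h)
  rw [Prod.inv_mk, Prod.mk_mul_mk, Prod.mk_mul_mk, mul_one, mul_inv_cancel] at this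
  exact this

end Cfsg.Agent.RelProd
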