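import Cfsg.Agent.Lib.RelProd.Sat
import Cfsg.Agent.Lib.Fusion.CentNormSystem
import Cfsg.Agent.Lib.Fusion.KNormalizer
import Cfsg.Agent.Lib.Fusion.ResidualNormalExt
import Cfsg.Agent.Lib.Transfer.Basic
import Cfsg.Agent.S5110

/-!
# The normalizer of a covering subgroup in the relative product system

For a fully normalized `X ≤ R` with `R = XT` the normalizer system of `X` in the relative product system is
saturated and weakly normal in the normalizer system of `X`; its hyperfocal subgroup lies in `T`.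
-/

set_option autoImplicit false
set_option linter.unusedSectionVars false
set_option linter.style.haveILetI false

namespace Cfsg.Agent.RelProd

open Cfsg Cfsg.FusionSystem Cfsg.Agent.FusionSys Cfsg.Agent.FusionSys.FocCent
  Cfsg.Agent.FusionSys.KerClass Cfsg.Agent.FusionMeet

variable {Ω : Type*} [Group Ω] {S T R : Subgroup Ω} {p : ℕ} [hp : Fact p.Prime] [Finite S]
variable {F : FusionSystem S} {E : FusionSystem T} {X : Subgroup Ω}

/-- A map of the product system fixing `X`, on a subgroup between `X` and its normalizer. -/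
theorem mem_mSys (C : Data p F E R) (hXR : X ≤ R) {P : Subgroup Ω} (hXP : X ≤ P) (hP : P ≤ normalizerIn R X)
    {φ : P →* Ω} (hφ : φ ∈ (relSys C).Hom P) (h : ∀ x : X, φ (Subgroup.inclusion hXP x) ∈ X) :
    φ ∈ (normSystem (relSys C) hXR).Hom P := by
  haveI : Finite R := finite_of_le (S := S) C.le
  refine ⟨hφ, hP, apply_mem_normalizerIn hXR hXP hP hφ h, φ.comp (Subgroup.inclusion (sup_le le_rfl hXP)),
    restrict_mem _ hφ _, fun x => rfl, ?_⟩
  rw [map_subgroupOf_eq_iff _ le_sup_right]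
  refine ⟨h, fun y hy => ?_⟩
  obtain ⟨x, hx⟩ := mem_of_finite_image hXR hXP hφ h hy
  exact ⟨x, hx⟩

theorem mSys_apply_mem (C : Data p F E R) (hXR : X ≤ R) {P : Subgroup Ω} {φ : P →* Ω}
    (hφ : φ ∈ (normSystem (relSys C) hXR).Hom P) (hXP : X ≤ P) (x : X) :
    φ (Subgroup.inclusion hXP x) ∈ X := by
  obtain ⟨-, -, -, ψ, -, hψ1, hψ2⟩ := hφ
  rw [← hψ1 (Subgroup.inclusion hXP x)]
  rw [map_subgroupOf_eq_iff _ le_sup_right] at hψ2
  exact hψ2.1 x

theorem mSys_sub (C : Data p F E R) (hXR : X ≤ R) (hXS : X ≤ S) :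
    (normSystem (relSys C) hXR).IsSubsystemOf (normSystem F hXS) := by
  rintro P φ ⟨h1, h2, h3, ψ, hψ, h4, h5⟩
  exact ⟨relSys_sub C P h1, h2.trans (inf_le_inf_right _ C.le), fun x => inf_le_inf_right _ C.le (h3 x), ψ,
    relSys_sub C _ hψ, h4, h5⟩

/-- `N_R(X)` is strongly closed in the normalizer system. -/
theorem normalizerIn_closed (C : Data p F E R) (hXS : X ≤ S) (hXm : Mem T R X) :
    (normSystem F hXS).StronglyClosed (normalizerIn R X) := by
  refine ⟨inf_le_inf_right _ C.le, fun P hP φ hφ x => ?_⟩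
  obtain ⟨-, -, h3, ψ, hψ, h4, h5⟩ := hφ
  refine ⟨?_, (h3 x).2⟩
  rw [← h4 x]
  rw [map_subgroupOf_eq_iff _ le_sup_right] at h5
  exact C.apply_mem hψ le_sup_right hXm (fun y => hXm.1 (h5.1 y)) (hP x.2).1

/-- The conjugates of a fully normalized covering subgroup map onto it on their normalizers. -/
theorem exists_to_fn (C : Data p F E R) (hXfn : F.IsFullyNormalized X) (hXm : Mem T R X) {Y : Subgroup Ω}
    (hY : (relSys C).IsConj X Y) :
    ∃ χ ∈ (relSys C).Hom (normalizerIn R Y), (∀ x, χ x ∈ normalizerIn R X) ∧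
      (Y.subgroupOf (normalizerIn R Y)).map χ = X := by
  haveI : Finite R := finite_of_le (S := S) C.le
  have hRp : IsPGroup p R := C.pg.to_le C.le
  -- `X` is fully normalized in the product system
  have hfn : ∀ Y', (relSys C).IsConj X Y' →
      Nat.card (normalizerIn R Y') ≤ Nat.card (normalizerIn R X) := by
    rintro Y' ⟨φ, hφ, hr⟩
    have hY'R : Y' ≤ R := isConj_le_right ⟨φ, hφ, hr⟩
    have hc : F.IsConj X Y' := ⟨φ, relSys_sub C X hφ, hr⟩
    obtain ⟨c, hc, hcN, hcr⟩ := exists_normalizer_map_fullyNormalized C.pg C.sat hXfn (isConj_symm hc)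
    have hm : Mem T R Y' := C.mem_conj hXm ⟨φ, relSys_sub C X hφ, hr⟩ hY'R
    refine card_le_of_hom F hc (inf_le_inf_right _ C.le) (inf_le_left.trans C.le) fun g hg => ⟨?_, (hcN _).2⟩
    exact C.apply_mem' hc (le_normalizerIn (hY'R.trans C.le)) hm (extend_restrict_range _ hcr) hXm.1 hg.1
  obtain ⟨Z, hZ, hA, hR⟩ := satClass_mem C hXm
  obtain ⟨α, hα, hαN, hαr⟩ := exists_normalizer_map hRp hA hR hZ
  obtain ⟨β, hβ, hβN, hβr⟩ := exists_normalizer_map hRp hA hR (isConj_trans (isConj_symm hY) hZ)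
  haveI : Finite ↥(normalizerIn R Z) := finite_of_le (S := R) (normalizerIn_le R Z)
  have hαe : α.range = normalizerIn R Z := by
    refine Subgroup.eq_of_le_of_card_ge (by rintro _ ⟨x, rfl⟩; exact hαN x) ?_
    rw [← isConj_card ⟨α, hα, rfl⟩]
    exact hfn Z hZ
  obtain ⟨α', hα', hα'r, hα'1, -⟩ := exists_inv (relSys C) hα
  have hin : ∀ x, β x ∈ α.range := fun x => hαe ▸ hβN x
  refine ⟨_, (relSys C).comp_mem hβ hα' hin, fun x => hα'r.le ⟨_, rfl⟩, ?_⟩
  ext y
  constructor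
  · rintro ⟨x, hx, rfl⟩
    obtain ⟨u, hu, hue⟩ := hαr.ge (hβr.le ⟨x, hx, rfl⟩)
    show α' ⟨β x, hin x⟩ ∈ X
    refine (congrArg (· ∈ X) ((apply_congr α' hue.symm (hin x) ⟨u, rfl⟩).trans (hα'1 u _))).mpr ?_
    exact hu
  · intro hy
    have hyN : y ∈ normalizerIn R X := le_normalizerIn hXm.1 hy
    obtain ⟨x, hx, hxe⟩ := hβr.ge (hαr.le ⟨⟨y, hyN⟩, hy, rfl⟩)
    refine ⟨x, hx, ?_⟩
    show α' ⟨β x, hin x⟩ = y
    exact (apply_congr α' hxe (hin x) ⟨⟨y, hyN⟩, rfl⟩).trans (hα'1 _ _)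

/-- The normalizer system in the product system is saturated. -/
theorem mSys_saturated (C : Data p F E R) (hXfn : F.IsFullyNormalized X) (hXm : Mem T R X) :
    (normSystem (relSys C) hXm.1).IsSaturated p := by
  set D := relSys C
  set M := normSystem D hXm.1
  haveI : Finite R := finite_of_le (S := S) C.le
  haveI : Finite (normalizerIn R X) := finite_of_le (S := R) (normalizerIn_le R X)
  have hRp : IsPGroup p R := C.pg.to_le C.le
  refine Cfsg.Agent.S5110.result p (hRp.to_le (normalizerIn_le R X)) M {P | X ≤ P ∧ P ≤ (normalizerIn R X)} (fun P h => h.2)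
    ?_ ?_ ?_ ?_
  · rintro P ⟨hXP, hP⟩ Q ⟨φ, hφ, rfl⟩
    obtain ⟨h1, h2, h3, ψ, hψ, h4, h5⟩ := hφ
    refine ⟨fun y hy => ?_, by rintro _ ⟨x, rfl⟩; exact h3 x⟩
    rw [map_subgroupOf_eq_iff _ le_sup_right] at h5
    obtain ⟨x, hx⟩ := h5.2 y hy
    exact ⟨Subgroup.inclusion hXP x, (h4 _).symm.trans hx⟩
  · rintro P ⟨hXP, hP⟩
    have hPR : P ≤ R := hP.trans (normalizerIn_le R X)
    haveI := finite_of_le hPR
    have hPm : Mem T R P := hXm.mono hXP hPR
    obtain ⟨Q, ⟨θ, hθ, hθr⟩, hA, hRec⟩ := satClass_mem C hPm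
    have hQR : Q ≤ R := hA.1
    haveI := finite_of_le hQR
    set X' := imgOf θ X
    have hX'Q : X' ≤ Q := by rintro _ ⟨x, -, rfl⟩; exact hθr.le ⟨x, rfl⟩
    obtain ⟨γ, hγ, hsyl⟩ := exists_sylStab hRp hA hX'Q
    set θ₁ := (Q.subtype.comp γ.toMonoidHom).comp (θ.codRestrict Q fun x => hθr.le ⟨x, rfl⟩) with hθ₁
    have hθ₁m : θ₁ ∈ D.Hom P := D.comp_mem hθ ((mem_autGroup_iff D hQR γ).1 hγ) fun x => hθr.le ⟨x, rfl⟩
    set X'' := imgOf (Q.subtype.comp γ.toMonoidHom) X' with hX''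
    have hX''Q : X'' ≤ Q := by rintro _ ⟨x, -, rfl⟩; exact (γ x).2
    have hθ₁r : θ₁.range = Q := by
      refine le_antisymm (by rintro _ ⟨x, rfl⟩; exact (γ _).2) fun y hy => ?_
      obtain ⟨x, hx⟩ := hθr.ge (γ.symm ⟨y, hy⟩).2
      refine ⟨x, ?_⟩
      show ((γ ⟨θ x, _⟩ : Q) : Ω) = y
      rw [show (⟨θ x, hθr.le ⟨x, rfl⟩⟩ : Q) = γ.symm ⟨y, hy⟩ from Subtype.ext hx, γ.apply_symm_apply]
    have hθ₁X : (θ₁.comp (Subgroup.inclusion hXP)).range = X'' := by
      refine le_antisymm ?_ ?_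
      · rintro _ ⟨x, rfl⟩
        exact ⟨_, ⟨Subgroup.inclusion hXP x, x.2, rfl⟩, rfl⟩
      · rintro _ ⟨q, ⟨x, hx, hxe⟩, rfl⟩
        refine ⟨⟨x, hx⟩, ?_⟩
        show ((γ ⟨θ ⟨(x : Ω), _⟩, _⟩ : Q) : Ω) = ((γ q : Q) : Ω)
        exact congrArg (fun z : Q => ((γ z : Q) : Ω)) (Subtype.ext hxe)
    obtain ⟨χ, hχ, hχN, hχr⟩ := exists_to_fn C hXfn hXm ⟨_, restrict_mem D hθ₁m hXP, hθ₁X⟩
    have hX''R : X'' ≤ R := hX''Q.trans hQR
    haveI := finite_of_le hX''R
    have hQN : Q ≤ normalizerIn R X'' := fun q hq => by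
      refine ⟨hQR hq, ?_⟩
      obtain ⟨x, rfl⟩ := hθ₁r.ge hq
      exact apply_mem_normalizer θ₁ hXP hθ₁X x (hP x.2).2
    set e₀ := χ.comp (Subgroup.inclusion hQN) with he₀
    have he₀m : e₀ ∈ D.Hom Q := restrict_mem D hχ hQN
    set P' := e₀.range with hP'
    set e := mapEquiv D he₀m hP'.symm with he
    have hem : equivHom e ∈ D.Hom Q := equivHom_mapEquiv D he₀m hP'.symm
    have hem' : equivHom e.symm ∈ D.Hom P' := equivHom_symm_mem D e hem
    have heX : ∀ q : Q, ((e q : P') : Ω) ∈ X ↔ (q : Ω) ∈ X'' := by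
      intro q
      constructor
      · intro h
        obtain ⟨u, hu, hue⟩ := hχr.ge h
        rw [show u = Subgroup.inclusion hQN q from D.injective_of_mem hχ hue] at hu
        exact hu
      · intro h
        exact hχr.le ⟨Subgroup.inclusion hQN q, h, rfl⟩
    have hXP' : X ≤ P' := fun y hy => by
      obtain ⟨u, hu, hue⟩ := hχr.ge hy
      exact ⟨⟨u, hX''Q hu⟩, hue⟩
    have hP'R₀ : P' ≤ (normalizerIn R X) := by rintro _ ⟨q, rfl⟩; exact hχN _
    -- the map onto `P'`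
    set φ₀ := e₀.comp (θ₁.codRestrict Q fun x => hθ₁r.le ⟨x, rfl⟩) with hφ₀
    have hφ₀m : φ₀ ∈ M.Hom P := mem_mSys C hXm.1 hXP hP (D.comp_mem hθ₁m he₀m fun x => hθ₁r.le ⟨x, rfl⟩)
      fun x => (heX _).2 (hθ₁X.le ⟨x, rfl⟩)
    refine ⟨P', ⟨φ₀, hφ₀m, ?_⟩, ?_⟩
    · refine le_antisymm (by rintro _ ⟨x, rfl⟩; exact ⟨_, rfl⟩) ?_
      rintro _ ⟨q, rfl⟩
      obtain ⟨x, hx⟩ := hθ₁r.ge q.2
      exact ⟨x, congrArg e₀ (Subtype.ext hx)⟩
    -- the automizer
    have hMaut : M.autGroup P' = D.autGroup P' ⊓ stabSub P' X := by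
      refine le_antisymm (fun a ha => ?_) fun a ha => ?_
      · have h := (mem_autGroup_iff M hP'R₀ a).1 ha
        refine ⟨(mem_autGroup_iff D (hP'R₀.trans (normalizerIn_le R X)) a).2 h.1, fun x => ⟨fun hx => ?_, fun hx => ?_⟩⟩
        · have h' := (mem_autGroup_iff M hP'R₀ a⁻¹).1 (Subgroup.inv_mem _ ha)
          have := mSys_apply_mem C hXm.1 h' hXP' ⟨_, hx⟩
          rw [show Subgroup.inclusion hXP' ⟨((a x : P') : Ω), hx⟩ = a x from Subtype.ext rfl] at this
          simpa using this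
        · exact mSys_apply_mem C hXm.1 h hXP' ⟨x, hx⟩
      · exact (mem_autGroup_iff M hP'R₀ a).2 (mem_mSys C hXm.1 hXP' hP'R₀
          ((mem_autGroup_iff D (hP'R₀.trans (normalizerIn_le R X)) a).1 ha.1) fun x => (ha.2 _).2 x.2)
    have hstab : (stabSub Q X'').map (MulAut.congr e).toMonoidHom = stabSub P' X := by
      ext β
      rw [Subgroup.mem_map_equiv]
      refine ⟨fun h y => ?_, fun h q => ?_⟩
      · have h1 := h (e.symm y)
        rw [← heX, ← heX] at h1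
        simpa [congr_apply] using h1
      · have h1 := h (e q)
        rw [← heX, ← heX]
        simpa [congr_apply] using h1
    have himg : (autInducedBy R Q ⊓ stabSub Q X'').map (MulAut.congr e).toMonoidHom ≤ autInducedBy (normalizerIn R X) P' := by
      rintro _ ⟨a, ⟨ha, has⟩, rfl⟩
      obtain ⟨r, hr, hre⟩ := (mem_autInducedBy_iff _).1 ha
      have hrN : r ∈ normalizerIn R X'' := ⟨hr, mem_normalizer_of_conj_mem_finite fun y hy => by
        rw [show r * y * r⁻¹ = ((a ⟨y, hX''Q hy⟩ : Q) : Ω) from (hre ⟨y, hX''Q hy⟩).symm]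
        exact (has _).2 hy⟩
      refine (mem_autInducedBy_iff _).2 ⟨χ ⟨r, hrN⟩, hχN _, fun y => ?_⟩
      obtain ⟨q, rfl⟩ := e.surjective y
      show ((MulAut.congr e a (e q) : P') : Ω) = _
      rw [congr_apply, e.symm_apply_apply]
      show χ (Subgroup.inclusion hQN (a q)) = χ ⟨r, hrN⟩ * χ (Subgroup.inclusion hQN q) * (χ ⟨r, hrN⟩)⁻¹
      rw [← map_inv, ← map_mul, ← map_mul]
      exact congrArg χ (Subtype.ext (hre q))
    haveI : Finite (MulAut P') := by
      haveI : Finite P' := finite_of_le (hP'R₀.trans (normalizerIn_le R X))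
      exact Finite.of_injective _ DFunLike.coe_injective
    haveI : Finite (MulAut Q) := Finite.of_injective _ DFunLike.coe_injective
    have hBimg : (D.autGroup Q ⊓ stabSub Q X'').map (MulAut.congr e).toMonoidHom = M.autGroup P' := by
      rw [Subgroup.map_inf _ _ _ (MulAut.congr e).injective, map_autGroup D e hem hem', hstab, hMaut]
    have hS1 := hsyl.map (MulAut.congr e).toMonoidHom
    rw [hBimg] at hS1
    have heq : (autInducedBy R Q ⊓ stabSub Q X'').map (MulAut.congr e).toMonoidHom = autInducedBy (normalizerIn R X) P' :=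
      hS1.eq_of_le himg (autInducedBy_le_autGroup M hP'R₀)
        (autInducedBy_isPGroup (hRp.to_le (normalizerIn_le R X)))
    rw [heq] at hS1
    refine ⟨fullyAutomized_of_isSyl_aut hP'R₀ hS1, hP'R₀, fun U φ hφ hr => ?_⟩
    -- receptive
    have hUR₀ : U ≤ (normalizerIn R X) := hom_le M hφ
    have hXU : X ≤ U := by
      intro y hy
      obtain ⟨-, -, -, ψ, hψ, h4, h5⟩ := hφ
      rw [map_subgroupOf_eq_iff _ le_sup_right] at h5
      obtain ⟨u, hu⟩ := hr.ge (hXP' (h5.1 ⟨y, hy⟩))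
      rw [← h4 u] at hu
      have : (u : Ω) = y := (congrArg Subtype.val (D.injective_of_mem hψ hu) :)
      rw [← this]
      exact u.2
    set φ' := (equivHom e.symm).comp (φ.codRestrict P' fun x => hr.le ⟨x, rfl⟩) with hφ'
    have hφ'm : φ' ∈ D.Hom U := D.comp_mem hφ.1 hem' fun x => hr.le ⟨x, rfl⟩
    have hφ'v : ∀ x : U, φ' x = ((e.symm ⟨φ x, hr.le ⟨x, rfl⟩⟩ : Q) : Ω) := fun x => rfl
    have hφ'r : φ'.range = Q := by
      refine le_antisymm (by rintro _ ⟨x, rfl⟩; exact (e.symm _).2) fun y hy => ?_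
      obtain ⟨x, hx⟩ := hr.ge (e ⟨y, hy⟩).2
      refine ⟨x, ?_⟩
      rw [hφ'v, show (⟨φ x, hr.le ⟨x, rfl⟩⟩ : P') = e ⟨y, hy⟩ from Subtype.ext hx, e.symm_apply_apply]
    obtain ⟨ψ, hψ, hψe⟩ := hRec.2 U φ' hφ'm hφ'r
    haveI := finite_of_le (hUR₀.trans (normalizerIn_le R X))
    have hWle : extender (normalizerIn R X) U φ ≤ extender R U φ' := by
      refine Subgroup.closure_mono ?_
      rintro g ⟨hg, hgn, h, hh, hhe⟩
      refine ⟨hg.1, hgn, ?_⟩
      haveI : Finite P' := finite_of_le (hP'R₀.trans (normalizerIn_le R X))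
      have hhn : h ∈ Subgroup.normalizer (P' : Set Ω) := mem_normalizer_of_conj_mem_finite fun y hy => by
        obtain ⟨x, rfl⟩ := hr.ge hy
        rw [← hhe x ((Subgroup.mem_normalizer_iff.1 hgn x).1 x.2)]
        exact hr.le ⟨_, rfl⟩
      obtain ⟨ch, hch, hche⟩ := exists_conjAut (K := (normalizerIn R X)) (P := P') hh hhn
      obtain ⟨a, ha, hae⟩ := heq.ge hch
      obtain ⟨r, hr', hre⟩ := (mem_autInducedBy_iff _).1 ha.1
      refine ⟨r, hr', fun x hx => ?_⟩
      rw [hφ'v, hφ'v, ← hre]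
      refine congrArg Subtype.val (e.injective ?_)
      rw [e.apply_symm_apply]
      refine Subtype.ext ((hhe x hx).trans ?_)
      rw [← hche ⟨φ x, hr.le ⟨x, rfl⟩⟩, ← hae]
      show ((MulAut.congr e a ⟨φ x, hr.le ⟨x, rfl⟩⟩ : P') : Ω) = _
      rw [congr_apply]
    set W := extender (normalizerIn R X) U φ with hW
    have hUW : U ≤ W := le_extender M hφ
    have hWR₀ : W ≤ (normalizerIn R X) := (extender_le_normalizerIn φ).trans (normalizerIn_le _ _)
    set ψ₁ := ψ.comp (Subgroup.inclusion hWle) with hψ₁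
    have hψ₁m : ψ₁ ∈ D.Hom W := restrict_mem D hψ hWle
    have hψ₁v : ∀ (x : Ω) (hxU : x ∈ U) (hxW : x ∈ W), ψ₁ ⟨x, hxW⟩ = φ' ⟨x, hxU⟩ := fun x hxU hxW =>
      hψe x hxU (hWle hxW)
    have hψ₁X : (ψ₁.comp (Subgroup.inclusion (hXU.trans hUW))).range = X'' := by
      refine le_antisymm ?_ fun y hy => ?_
      · rintro _ ⟨x, rfl⟩
        show ψ₁ ⟨(x : Ω), _⟩ ∈ X''
        rw [hψ₁v x (hXU x.2), hφ'v, ← heX, e.apply_symm_apply]
        exact mSys_apply_mem C hXm.1 hφ hXU x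
      · obtain ⟨x, hx⟩ := hr.ge (hXP' ((heX ⟨y, hX''Q hy⟩).2 hy))
        have hxX : (x : Ω) ∈ X := by
          obtain ⟨-, -, -, ψ', hψ', h4, h5⟩ := hφ
          rw [map_subgroupOf_eq_iff _ le_sup_right] at h5
          obtain ⟨z, hz⟩ := h5.2 _ ((heX ⟨y, hX''Q hy⟩).2 hy)
          have := congrArg Subtype.val (D.injective_of_mem hψ' (hz.trans (hx.symm.trans (h4 x).symm)))
          exact this ▸ z.2
        refine ⟨⟨x, hxX⟩, ?_⟩
        show ψ₁ ⟨(x : Ω), _⟩ = y
        rw [hψ₁v x x.2, hφ'v, show (⟨φ x, hr.le ⟨x, rfl⟩⟩ : P') = e ⟨y, hX''Q hy⟩ from Subtype.ext hx,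
          e.symm_apply_apply]
    have hψ₁N : ∀ x, ψ₁ x ∈ normalizerIn R X'' := fun x =>
      ⟨hom_apply_mem D hψ₁m x, apply_mem_normalizer ψ₁ _ hψ₁X x (hWR₀ x.2).2⟩
    refine ⟨χ.comp (ψ₁.codRestrict _ hψ₁N), mem_mSys C hXm.1 (hXU.trans hUW) hWR₀
      (D.comp_mem hψ₁m hχ hψ₁N) (fun x => hχr.le ⟨⟨_, hψ₁N _⟩, hψ₁X.le ⟨x, rfl⟩, rfl⟩), fun x hxU hxW => ?_⟩
    show χ ⟨ψ₁ ⟨x, hxW⟩, _⟩ = φ ⟨x, hxU⟩
    have h1 : ψ₁ ⟨x, hxW⟩ = ((e.symm ⟨φ ⟨x, hxU⟩, hr.le ⟨_, rfl⟩⟩ : Q) : Ω) := hψ₁v x hxU hxW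
    rw [apply_congr χ h1 _ (hQN (e.symm _).2)]
    exact congrArg Subtype.val (e.apply_symm_apply ⟨φ ⟨x, hxU⟩, hr.le ⟨_, rfl⟩⟩)
  · intro E' hE' P φ hφ
    obtain ⟨h1, h2, h3, ψ, hψ, h4, h5⟩ := id hφ
    have hle : P ⊔ X ≤ (normalizerIn R X) := sup_le h2 (le_normalizerIn hXm.1)
    have h6 := map_subgroupOf_eq_iff ψ (le_sup_right : X ≤ P ⊔ X) |>.1 h5
    have hψM : ψ ∈ M.Hom (P ⊔ X) := mem_mSys C hXm.1 le_sup_right hle hψ h6.1
    exact hom_congr E' (restrict_mem E' (hE' _ ⟨le_sup_right, hle⟩ hψM) le_sup_left) fun x => (h4 x).symm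
  · intro P hPc hPn
    have hXP : ¬ X ≤ P := fun h => hPn ⟨h, hPc.1⟩
    refine ⟨P, isConj_refl M hPc.1, fun hle => ?_⟩
    haveI := finite_of_le (hPc.1.trans (normalizerIn_le R X))
    have hlt : P < P ⊔ X := lt_of_le_of_ne le_sup_left fun h => hXP (le_sup_right.trans h.ge)
    have hsupR : P ⊔ X ≤ R := sup_le (hPc.1.trans (normalizerIn_le R X)) hXm.1
    haveI := finite_of_le hsupR
    obtain ⟨g, hgN, hgP⟩ := SetLike.exists_of_lt (lt_normalizerIn (hRp.to_le hsupR) hlt)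
    have hPX : P ≤ Subgroup.normalizer (X : Set Ω) := fun y hy => (hPc.1 hy).2
    have hg1 : g ∈ (↑(P ⊔ X) : Set Ω) := hgN.1
    rw [Subgroup.coe_mul_of_left_le_normalizer_right _ _ hPX] at hg1
    obtain ⟨u, hu, x, hx, rfl⟩ := hg1
    have hxn : x ∈ Subgroup.normalizer (P : Set Ω) := by
      have := Subgroup.mul_mem _ (Subgroup.inv_mem _ (Subgroup.le_normalizer hu)) hgN.2
      rwa [inv_mul_cancel_left] at this
    have hxP : x ∉ P := fun h => hgP (P.mul_mem hu h)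
    set A := autInducedBy X P with hA
    have hAM : A ≤ M.autGroup P :=
      (autInducedBy_mono (le_normalizerIn hXm.1)).trans (autInducedBy_le_autGroup M hPc.1)
    have hAn : (A.subgroupOf (M.autGroup P)).Normal := by
      refine ⟨fun a ha b => ?_⟩
      obtain ⟨z, hz, hze⟩ := (mem_autInducedBy_iff _).1 (show (a : MulAut P) ∈ A from ha)
      obtain ⟨-, -, -, ψ, hψ, h4, h5⟩ := (mem_autGroup_iff M hPc.1 _).1 b.2
      rw [map_subgroupOf_eq_iff _ le_sup_right] at h5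
      refine (mem_autInducedBy_iff _).2 ⟨_, h5.1 ⟨z, hz⟩, fun y => ?_⟩
      obtain ⟨w, rfl⟩ := (b : MulAut P).surjective y
      show ((((b : MulAut P) * (a : MulAut P) * (b : MulAut P)⁻¹) ((b : MulAut P) w) : P) : Ω) = _
      rw [MulAut.mul_apply, MulAut.mul_apply, MulAut.inv_apply_self]
      rw [show (((b : MulAut P) w : P) : Ω) = ψ (Subgroup.inclusion le_sup_left w) from (h4 w).symm,
        ← map_inv, ← map_mul, ← map_mul,
        show (((b : MulAut P) ((a : MulAut P) w) : P) : Ω) = ψ (Subgroup.inclusion le_sup_left ((a : MulAut P) w))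
          from (h4 _).symm]
      exact congrArg ψ (Subtype.ext (hze w))
    have hAp : IsPGroup p (A.subgroupOf (M.autGroup P)) :=
      (autInducedBy_isPGroup (hRp.to_le hXm.1)).of_equiv (Subgroup.subgroupOfEquivOfLe hAM).symm
    obtain ⟨c, hc, hce⟩ := exists_conjAut (K := X) (P := P) hx hxn
    have hcO := Cfsg.Agent.PBasic.le_pCore hAn hAp (show (⟨c, hAM hc⟩ : M.autGroup P) ∈ A.subgroupOf _ from hc)
    exact hxP (mem_of_conj_mem_inn (F := M) (hPc.2 P (isConj_refl M hPc.1)) (le_normalizerIn hXm.1 hx) hPc.1 hce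
      (hle ⟨autInducedBy_mono (le_normalizerIn hXm.1) hc, ⟨⟨c, hAM hc⟩, hcO, rfl⟩⟩))

/-- The normalizer system in the product system is weakly normal in the normalizer system. -/
theorem mSys_weaklyNormal (C : Data p F E R) (hXfn : F.IsFullyNormalized X) (hXm : Mem T R X) :
    (normSystem (relSys C) hXm.1).IsWeaklyNormalIn (normSystem F hXfn.1) p := by
  set D := relSys C
  set M := normSystem D hXm.1
  set N := normSystem F hXfn.1
  haveI : Finite R := finite_of_le (S := S) C.le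
  haveI : Finite (normalizerIn S X) := finite_of_le (normalizerIn_le S X)
  have hNs : N.IsSaturated p := normalizerSystem_saturated C.pg C.sat hXfn N (normSystem_spec F hXfn.1)
  have hcl := normalizerIn_closed C hXfn.1 hXm
  have hR₀S : (normalizerIn R X) ≤ normalizerIn S X := hcl.1
  have hXR₀ : X ≤ (normalizerIn R X) := le_normalizerIn hXm.1
  have hR₀R : (normalizerIn R X) ≤ R := normalizerIn_le R X
  have hAI : AutInvariant N M := by
    intro P hP φ hφ α hα
    obtain ⟨-, -, -, ψ, hψ, h4, h5⟩ := id hφ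
    rw [map_subgroupOf_eq_iff _ le_sup_right] at h5
    have hαN := (mem_autGroup_iff N hR₀S α).1 hα
    have hαX : ∀ x : (normalizerIn R X), (x : Ω) ∈ X → ((α x : (normalizerIn R X)) : Ω) ∈ X := by
      intro x hx
      obtain ⟨-, -, -, a, ha, ha4, ha5⟩ := hαN
      rw [map_subgroupOf_eq_iff _ le_sup_right] at ha5
      show ((normalizerIn R X).subtype.comp α.toMonoidHom) x ∈ X
      rw [← ha4 x]
      exact ha5.1 ⟨x, hx⟩
    set α₀ := (normalizerIn R X).subtype.comp α.toMonoidHom with hα₀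
    have hα₀F : α₀ ∈ F.Hom (normalizerIn R X) := hαN.1
    have hQ : P ⊔ X ≤ (normalizerIn R X) := sup_le hP hXR₀
    set B := (((P ⊔ X).subgroupOf (normalizerIn R X)).map α₀) with hB
    have hm : Mem T R (P ⊔ X) := hXm.mono le_sup_right (hQ.trans hR₀R)
    -- classes
    obtain ⟨β, hβ⟩ := exists_cls C (hXm.mono hXR₀ hR₀R) hα₀F (by rintro _ ⟨x, rfl⟩; exact hR₀R (α x).2)
    have hψQ : ∀ u, ψ u ∈ (normalizerIn R X) := apply_mem_of_sup ψ (fun x => by rw [h4]; exact hom_apply_mem M hφ x)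
      fun x => hXR₀ (h5.1 x)
    set eQ := mapEquiv F (restrict_mem F hα₀F hQ) (range_restrict α₀ hQ) with heQ
    have hc1 : Cls F D (P ⊔ X) (equivHom eQ) β := (hβ.restrict hQ).congr fun _ => rfl
    have hc2 := Cls.comp (relSys_autInvariant C)
      (Cls.comp (relSys_autInvariant C) (hc1.symm (relSys_autInvariant C) eQ) (cls_of_mem (F := F) hψ)
        fun y => (eQ.symm y).2)
      hβ fun y => hψQ _
    rw [one_mul, mul_inv_cancel] at hc2
    obtain ⟨-, χ, hχ, hχe⟩ := hc2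
    have hB0 : (P.subgroupOf (normalizerIn R X)).map α₀ ≤ B := by
      rintro _ ⟨x, hx, rfl⟩; exact ⟨x, Subgroup.mem_sup_left hx, rfl⟩
    have hsurj : ∀ y ∈ X, ∃ x : X, ((α ⟨(x : Ω), hXR₀ x.2⟩ : (normalizerIn R X)) : Ω) = y := by
      haveI := finite_of_le hXfn.1
      intro y hy
      obtain ⟨x, hx⟩ := (Finite.surjective_of_injective (f := fun x : X => (⟨_, hαX ⟨x, hXR₀ x.2⟩ x.2⟩ : X))
        fun a b hab => Subgroup.inclusion_injective hXR₀
          (α.injective (Subtype.ext (congrArg Subtype.val hab :)))) ⟨y, hy⟩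
      exact ⟨x, congrArg Subtype.val hx⟩
    have hXB : X ≤ B := fun y hy => by
      obtain ⟨x, hx⟩ := hsurj y hy
      exact ⟨⟨x, hXR₀ x.2⟩, Subgroup.mem_sup_right x.2, hx⟩
    have hBR₀ : B ≤ (normalizerIn R X) := by rintro _ ⟨x, -, rfl⟩; exact (α x).2
    have hχv : ∀ (q : ↥(P ⊔ X)) (h : ((α ⟨q, hQ q.2⟩ : (normalizerIn R X)) : Ω) ∈ B),
        χ ⟨((α ⟨q, hQ q.2⟩ : (normalizerIn R X)) : Ω), h⟩ = ((α ⟨ψ q, hψQ q⟩ : (normalizerIn R X)) : Ω) := by
      intro q h
      have h1 := hχe ⟨_, h⟩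
      rw [MulAut.one_apply] at h1
      refine h1.symm.trans ?_
      have e1 : eQ.symm ⟨_, h⟩ = q := eQ.injective ((eQ.apply_symm_apply _).trans (Subtype.ext rfl))
      show ((α ⟨ψ (eQ.symm ⟨_, h⟩), _⟩ : (normalizerIn R X)) : Ω) = _
      exact congrArg (fun z : (normalizerIn R X) => ((α z : (normalizerIn R X)) : Ω)) (Subtype.ext (congrArg ψ e1))
    have hχM : χ ∈ M.Hom B := by
      refine mem_mSys C hXm.1 hXB hBR₀ hχ fun y => ?_
      obtain ⟨z, hzQ, hze⟩ := hXB y.2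
      have hzQ' : (z : Ω) ∈ P ⊔ X := hzQ
      have hzX : (z : Ω) ∈ X := by
        obtain ⟨x, hx⟩ := hsurj y y.2
        have : z = ⟨x, hXR₀ x.2⟩ := α.injective (Subtype.ext (hze.trans hx.symm))
        rw [this]; exact x.2
      have he' : Subgroup.inclusion hXB y = ⟨((α ⟨z, hQ hzQ'⟩ : (normalizerIn R X)) : Ω), z, hzQ, rfl⟩ :=
        Subtype.ext hze.symm
      rw [he']
      refine (congrArg (· ∈ X) (hχv ⟨z, hzQ'⟩ _)).mpr (hαX _ ?_)
      exact h5.1 ⟨z, hzX⟩
    refine ⟨_, restrict_mem M hχM hB0, fun x hφx hαx => ?_⟩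
    show χ ⟨_, _⟩ = _
    rw [hχv ⟨x, Subgroup.mem_sup_left x.2⟩ _]
    exact congrArg (fun z : (normalizerIn R X) => ((α z : (normalizerIn R X)) : Ω)) (Subtype.ext (h4 x))
  refine ⟨mSys_saturated C hXfn hXm, hNs, mSys_sub C hXm.1 hXfn.1, hcl, hAI,
    fun P hP φ hφ => frattini_of_strong (C.pg.to_le (normalizerIn_le S X)) hNs (mSys_sub C hXm.1 hXfn.1) hcl hAI
      (fun Q hQ a ha b hb => ?_) hP hφ⟩
  obtain ⟨-, -, -, a', ha', ha4, ha5⟩ := (mem_autGroup_iff N (hQ.trans hR₀S) a).1 ha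
  obtain ⟨-, -, -, b', hb', hb4, hb5⟩ := (mem_autGroup_iff M hQ b).1 hb
  rw [map_subgroupOf_eq_iff _ le_sup_right] at ha5 hb5
  set U := Q ⊔ X with hU
  have hUR₀ : U ≤ (normalizerIn R X) := sup_le hQ hXR₀
  have hUS : U ≤ S := hUR₀.trans (hR₀R.trans C.le)
  haveI := finite_of_le hUS
  have hrange : ∀ {g : U →* Ω} {c : MulAut Q}, g ∈ F.Hom U →
      (∀ x : Q, g (Subgroup.inclusion le_sup_left x) = ((c x : Q) : Ω)) →
      (∀ x : X, g (Subgroup.inclusion le_sup_right x) ∈ X) → g.range = U := fun {g c} hg h1 h2 =>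
    Subgroup.eq_of_le_of_card_ge (by
      rintro _ ⟨u, rfl⟩
      exact apply_mem_of_sup g (fun x => by rw [h1]; exact Subgroup.mem_sup_left (c x).2)
        (fun x => Subgroup.mem_sup_right (h2 x)) u) (isConj_card ⟨g, hg, rfl⟩).le
  obtain ⟨A, hA, hAe⟩ := exists_autGroup_of_range F ha' (hrange ha' ha4 ha5.1)
  obtain ⟨B, hB, hBe⟩ := exists_autGroup_of_range D hb' (hrange (relSys_sub C _ hb') hb4 hb5.1)
  have hABA := (mem_autGroup_iff D (hUR₀.trans hR₀R) _).1
    (conj_mem_relSys C (hXm.mono le_sup_right (hUR₀.trans hR₀R)) hA hB)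
  have hM : (U.subtype.comp (A * B * A⁻¹).toMonoidHom) ∈ M.Hom U := mem_mSys C hXm.1 le_sup_right hUR₀ hABA fun x => by
    have hstabA : A ∈ stabSub U X := by
      intro u
      haveI := finite_of_le hXfn.1
      constructor
      · intro hu
        obtain ⟨z, hz⟩ := ha5.2 _ hu
        rw [← hAe] at hz
        rw [← A.injective (Subtype.ext hz)]
        exact z.2
      · intro hu
        rw [hAe]
        exact ha5.1 ⟨u, hu⟩
    have hstabB : B ∈ stabSub U X := by
      intro u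
      constructor
      · intro hu
        obtain ⟨z, hz⟩ := hb5.2 _ hu
        rw [← hBe] at hz
        rw [← B.injective (Subtype.ext hz)]
        exact z.2
      · intro hu
        rw [hBe]
        exact hb5.1 ⟨u, hu⟩
    exact (Subgroup.mul_mem _ (Subgroup.mul_mem _ hstabA hstabB) (Subgroup.inv_mem _ hstabA) _).2 x.2
  refine (mem_autGroup_iff M hQ _).2 (hom_congr M (restrict_mem M hM le_sup_left) fun x => ?_)
  have hA' : ∀ q : Q, A (Subgroup.inclusion le_sup_left q) = Subgroup.inclusion le_sup_left (a q) := fun q =>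
    Subtype.ext ((hAe _).trans (ha4 q))
  have hB' : ∀ q : Q, B (Subgroup.inclusion le_sup_left q) = Subgroup.inclusion le_sup_left (b q) := fun q =>
    Subtype.ext ((hBe _).trans (hb4 q))
  obtain ⟨y, rfl⟩ := a.surjective x
  show (((a * b * a⁻¹) (a y) : Q) : Ω) = (((A * B * A⁻¹) (Subgroup.inclusion le_sup_left (a y)) : U) : Ω)
  rw [← hA', MulAut.mul_apply, MulAut.mul_apply, MulAut.mul_apply, MulAut.mul_apply, MulAut.inv_apply_self,
    MulAut.inv_apply_self, hB', hA']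
  rfl

/-- The `p'`-residual is normal in the normalizer system. -/
theorem mSys_residual_normal (C : Data p F E R) (hXfn : F.IsFullyNormalized X) (hXm : Mem T R X) :
    (pPrimeSys (normSystem (relSys C) hXm.1) p).IsNormalIn (normSystem F hXfn.1) p := by
  haveI : Finite (normalizerIn S X) := finite_of_le (normalizerIn_le S X)
  haveI : Finite (normalizerIn R X) := finite_of_le ((normalizerIn_le R X).trans C.le)
  exact pPrimeResidual_isNormalIn (C.pg.to_le (normalizerIn_le S X)) (mSys_weaklyNormal C hXfn hXm)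
    (exists_pPrimeResidual ((C.pg.to_le C.le).to_le (normalizerIn_le R X)) (mSys_saturated C hXfn hXm))

/-- The hyperfocal subgroup lies in `T`. -/
theorem mSys_hyperfocal_le (C : Data p F E R) (hXR : X ≤ R) :
    (normSystem (relSys C) hXR).hyperfocalSubgroup p ≤ T := by
  refine (Subgroup.closure_le _).2 ?_
  rintro _ ⟨P, α, x, hP, hα, rfl⟩
  have hPR : P ≤ R := hP.trans (normalizerIn_le R X)
  haveI : Finite R := finite_of_le (S := S) C.le
  have hle : pResidual p ((normSystem (relSys C) hXR).autGroup P) ≤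
      (modTriv T P).comap ((normSystem (relSys C) hXR).autGroup P).subtype := by
    refine (Subgroup.closure_le _).2 fun a ha => ?_
    obtain ⟨r, hr, hre⟩ := relSys_mod C ((mem_autGroup_iff _ hP _).1 a.2).1
    have hn : ∀ s ∈ R, ∀ t ∈ T, s * t * s⁻¹ ∈ T := fun s hs t ht =>
      (Subgroup.mem_normalizer_iff.1 (stronglyClosed_le_normalizer C.closed (C.le hs)) t).1 ht
    have hpow : ∀ (n : ℕ) (y : P), (r ^ n * (y : Ω) * (r ^ n)⁻¹)⁻¹ * ((((a : MulAut P) ^ n) y : P) : Ω) ∈ T := by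
      intro n
      induction n with
      | zero => intro y; simp
      | succ n ih =>
        intro y
        have h1 := T.mul_mem (hn r hr _ (ih y)) (hre (((a : MulAut P) ^ n) y))
        rw [pow_succ', pow_succ', MulAut.mul_apply]
        simpa [mul_assoc] using h1
    obtain ⟨k, hk⟩ := C.pg ⟨r, C.le hr⟩
    have hk' : r ^ p ^ k = 1 := congrArg Subtype.val hk
    have hb : (a : MulAut P) ^ p ^ k ∈ modTriv T P := fun y => by
      have := hpow (p ^ k) y
      simpa [hk'] using this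
    show (a : MulAut P) ∈ modTriv T P
    have hco : (orderOf (a : MulAut P)).Coprime (p ^ k) := by
      rw [Subgroup.orderOf_coe]
      exact Nat.Coprime.pow_right k ha
    obtain ⟨m, hm⟩ := exists_pow_eq_self_of_coprime hco.symm
    rw [← hm]
    exact Subgroup.pow_mem _ hb m
  exact hle hα x

end Cfsg.Agent.RelProd
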