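import Cfsg.Agent.Lib.RelProd.PPrimeGen
import Cfsg.Agent.Lib.FusionMeet.System
import Cfsg.Agent.Lib.Fusion.FocCentralizer

/-!
# The automizer in a system generated by automorphisms of order prime to `p`

`Aut(P)` is generated by `O^p(Aut(P))` and the automorphisms induced by the carrier.
-/

set_option autoImplicit false
set_option linter.unusedSectionVars false
set_option linter.style.haveILetI false

namespace Cfsg.Agent.RelProd

open Cfsg Cfsg.FusionSystem Cfsg.Agent.FusionSys Cfsg.Agent.FusionSys.FocCent Cfsg.Agent.FusionMeet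

variable {Ω : Type*} [Group Ω] {S T : Subgroup Ω} [Finite S] {p : ℕ} [hp : Fact p.Prime]
variable {D : FusionSystem S} {P : Subgroup Ω}

/-- `O^p(Aut(P))` and the induced automorphisms. -/
def jGroup (p : ℕ) (D : FusionSystem S) (P : Subgroup Ω) : Subgroup (MulAut P) :=
  opOf p (D.autGroup P) ⊔ autInducedBy S P

theorem jGroup_le (hP : P ≤ S) : jGroup p D P ≤ D.autGroup P :=
  sup_le (opOf_le _) (autInducedBy_le_autGroup D hP)

/-- A map of the system restricted to a stabilized subgroup. -/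
theorem exists_res {M : Subgroup Ω} {μ : M →* Ω} (hμ : μ ∈ D.Hom M) (hPM : P ≤ M) (hi : imgOf μ P = P) :
    ∃ m ∈ D.autGroup P, ∀ x : P, ((m x : P) : Ω) = μ (Subgroup.inclusion hPM x) :=
  exists_autGroup_of_range D (restrict_mem D hμ hPM) ((range_restrict μ hPM).trans hi)

/-- Automorphisms extending to the normalizer normalize `jGroup`. -/
theorem mem_normalizer_jGroup (hP : P ≤ S) {h : normalizerIn S P →* Ω} (hh : h ∈ D.Hom (normalizerIn S P))
    {m : MulAut P} (hm : m ∈ D.autGroup P)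
    (hmh : ∀ (x : P) (hx : (x : Ω) ∈ normalizerIn S P), ((m x : P) : Ω) = h ⟨x, hx⟩) :
    m ∈ Subgroup.normalizer (jGroup p D P : Set (MulAut P)) := by
  haveI := finite_of_le hP
  refine mem_normalizer_of_conj_mem_finite fun j hj => ?_
  have key : jGroup p D P ≤ (jGroup p D P).comap (MulAut.conj m).toMonoidHom := by
    refine sup_le (fun y hy => Subgroup.mem_sup_left ?_) fun y hy => Subgroup.mem_sup_right ?_
    · exact conj_mem_opOf (fun z hz => Subgroup.mul_mem _ (Subgroup.mul_mem _ hm hz) (Subgroup.inv_mem _ hm)) hy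
    · obtain ⟨g, hg, hge⟩ := (mem_autInducedBy_iff _).1 hy
      have hgN : g ∈ normalizerIn S P := ⟨hg, mem_normalizer_of_autInduced hge⟩
      refine (mem_autInducedBy_iff _).2 ⟨h ⟨g, hgN⟩, hom_apply_mem D hh _, fun x => ?_⟩
      obtain ⟨u, rfl⟩ := m.surjective x
      show ((m (y (m⁻¹ (m u))) : P) : Ω) = _
      rw [MulAut.inv_apply_self, hmh _ (le_normalizerIn hP (y u).2), hmh u (le_normalizerIn hP u.2),
        ← map_inv, ← map_mul, ← map_mul]
      exact congrArg h (Subtype.ext (hge u))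
  exact key hj

/-- Elements of a well placed stabilizer act on `P` through `jGroup`. -/
theorem stab_mem_jGroup {Q b : Subgroup Ω} (hQS : Q ≤ S) (hbQ : b ≤ Q) (hsyl : SylStab D p Q b)
    {χ : normalizerIn S b →* Ω} (hχ : χ ∈ D.Hom (normalizerIn S b)) (hχP : imgOf χ b = P) {β : MulAut Q}
    (hβ : β ∈ D.autGroup Q ⊓ stabSub Q b) {m : MulAut P}
    (hm : ∀ (y : b) (h1 : (y : Ω) ∈ normalizerIn S b)
      (h2 : ((β (Subgroup.inclusion hbQ y) : Q) : Ω) ∈ normalizerIn S b) (h3 : χ ⟨y, h1⟩ ∈ P),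
      ((m ⟨χ ⟨y, h1⟩, h3⟩ : P) : Ω) = χ ⟨_, h2⟩) :
    m ∈ jGroup p D P := by
  haveI := finite_of_le hQS
  have hbS := hbQ.trans hQS
  haveI := finite_of_le hbS
  have hbN : b ≤ normalizerIn S b := le_normalizerIn hbS
  set e := mapEquiv D (restrict_mem D hχ hbN) ((range_restrict χ hbN).trans hχP)
  have heh : equivHom e ∈ D.Hom b := equivHom_mapEquiv D _ _
  set f := (MulAut.congr e).toMonoidHom.comp (resHom hbQ) with hf
  have hmf : m = f ⟨β, hβ.2⟩ := by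
    refine MulEquiv.ext fun z => Subtype.ext ?_
    obtain ⟨y, rfl⟩ := e.surjective z
    show _ = ((e (resHom hbQ ⟨β, hβ.2⟩ (e.symm (e y))) : P) : Ω)
    rw [e.symm_apply_apply]
    exact hm y (hbN y.2) (hbN ((hβ.2 _).2 y.2)) (e y).2
  suffices h : D.autGroup Q ⊓ stabSub Q b ≤ ((jGroup p D P).comap f).map (stabSub Q b).subtype by
    obtain ⟨β', hβ', he⟩ := h hβ
    obtain rfl : β' = ⟨β, hβ.2⟩ := Subtype.ext he
    exact hmf ▸ hβ'
  refine (le_sylow_sup_opOf hsyl).trans (sup_le (fun c hc => ⟨⟨c, hc.2⟩, Subgroup.mem_sup_right ?_, rfl⟩)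
    ((Subgroup.closure_le _).2 fun c hc => ⟨⟨c, hc.1.2⟩, Subgroup.mem_sup_left (mem_opOf ?_ ?_), rfl⟩))
  · obtain ⟨s, hs, hse⟩ := (mem_autInducedBy_iff _).1 hc.1
    have hsn : s ∈ normalizerIn S b := ⟨hs, mem_normalizer_of_conj_mem_finite fun y hy => by
      have h1 := (hc.2 ⟨y, hbQ hy⟩).2 hy
      rwa [hse] at h1⟩
    refine (mem_autInducedBy_iff _).2 ⟨χ ⟨s, hsn⟩, hom_apply_mem D hχ _, fun z => ?_⟩
    obtain ⟨y, rfl⟩ := e.surjective z
    show ((e (resHom hbQ ⟨c, hc.2⟩ (e.symm (e y))) : P) : Ω) = _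
    rw [e.symm_apply_apply]
    show χ ⟨_, _⟩ = χ _ * χ ⟨(y : Ω), hbN y.2⟩ * (χ _)⁻¹
    rw [← map_inv, ← map_mul, ← map_mul]
    exact congrArg χ (Subtype.ext (hse (Subgroup.inclusion hbQ y)))
  · refine congr_mem_autGroup D e heh (equivHom_symm_mem D e heh) ?_
    exact (mem_autGroup_iff D hbS _).2 (hom_congr D (restrict_mem D ((mem_autGroup_iff D hQS c).1 hc.1.1) hbQ)
      fun _ => rfl)
  · refine Nat.Coprime.coprime_dvd_left (orderOf_map_dvd f _) ?_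
    rw [← Subgroup.orderOf_coe]
    exact hc.2

/-- The automorphisms of `P` extending inside `N_T(P)` to a larger subgroup. -/
theorem res_mem_jGroup (hS : IsPGroup p S) (hT : D.StronglyClosed T) (hPT : P ≤ T)
    (hsat : ∀ R ≤ T, (∃ a ≤ R, D.IsConj P a) → Nat.card P < Nat.card R → SatClass D p R)
    (hP : D.IsFullyNormalized P) (hgood : ∀ a, D.IsConj P a → Arrow D a P) {M : Subgroup Ω} {μ : M →* Ω}
    (hμ : μ ∈ D.Hom M) (hPM : P < M) (hMN : M ≤ normalizerIn T P) (hv : ∀ x, μ x ∈ normalizerIn T P)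
    {m : MulAut P} (hm : ∀ x : P, ((m x : P) : Ω) = μ (Subgroup.inclusion hPM.le x)) : m ∈ jGroup p D P := by
  induction hk : Nat.card T - Nat.card M using Nat.strong_induction_on generalizing M m with
  | _ n ih =>
  have hTn := stronglyClosed_le_normalizer hT
  have hTp := hS.to_le hT.1
  have hPS := hP.1
  have hMT : M ≤ T := hMN.trans (normalizerIn_le _ _)
  have hMS := hMT.trans hT.1
  haveI := finite_of_le hMS
  haveI := finite_of_le hT.1
  haveI := finite_of_le hPS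
  haveI := finite_of_le (normalizerIn_le S P)
  haveI : Finite (normalizerIn T P) := finite_of_le ((normalizerIn_le T P).trans hT.1)
  have hPc := isConj_refl D hPS
  obtain ⟨Q, ⟨θ₀, hθ₀, hθ₀r⟩, hQA, hQR⟩ := hsat M hMT ⟨P, hPM.le, hPc⟩ (Cfsg.Agent.FusionSys.card_lt_of_lt hPM)
  obtain ⟨γ, hγ, hsyl⟩ := exists_sylStab hS hQA (a := imgOf θ₀ P) (hθ₀r ▸ imgOf_le_range θ₀)
  have hγm := (mem_autGroup_iff D hQA.1 γ).1 hγ
  have hθ := D.comp_mem hθ₀ hγm fun x => hθ₀r.le ⟨x, rfl⟩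
  set θ := (Q.subtype.comp γ.toMonoidHom).comp (θ₀.codRestrict Q fun x => hθ₀r.le ⟨x, rfl⟩)
  rw [← imgOf_comp θ₀ (Q.subtype.comp γ.toMonoidHom) fun x => hθ₀r.le ⟨x, rfl⟩] at hsyl
  set b := imgOf θ P with hbdef
  have hr : θ.range = Q := by
    rw [range_comp_of_range _ _ _ hθ₀r, MonoidHom.range_comp, MonoidHom.range_eq_top.2 γ.surjective,
      ← MonoidHom.range_eq_map, Subgroup.range_subtype]
  have hbQ : b ≤ Q := hr ▸ imgOf_le_range θ
  have hbP : D.IsConj P b := isConj_imgOf D hθ hPM.le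
  haveI := finite_of_le (hbQ.trans hQA.1)
  obtain ⟨χ, hχ, hχP⟩ := hgood b hbP
  set W₁ := normalizerIn S M ⊓ Subgroup.normalizer (P : Set Ω) with hW₁
  obtain ⟨k₁, hk₁, ψ₁, hψ₁, hψ₁e⟩ := to_hub hS hQR hθ hr hPM.le rfl hsyl
  have hMW₁ : M ≤ W₁ := fun x hx =>
    ⟨le_normalizerIn hMS hx, (hMN hx).2⟩
  have i₁ := imgOf_hub (F := D) hr hPM.le hMW₁ rfl hk₁.2 hψ₁e
  have hv₁ : ∀ x : W₁, ψ₁ x ∈ normalizerIn S b := fun x =>
    (congrArg (normalizerIn S) i₁).le (imgOf_mem_normalizer D hψ₁ (hPM.le.trans hMW₁) x x.2.2)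
  have hh₁ := D.comp_mem hψ₁ hχ hv₁
  set h₁ := χ.comp (ψ₁.codRestrict _ hv₁) with hh₁def
  have hh₁P : imgOf h₁ P = P := by rw [imgOf_comp, i₁, hχP]
  obtain ⟨m₁, hm₁a, hm₁⟩ := exists_res hh₁ (hPM.le.trans hMW₁) hh₁P
  have hPP : ∀ x : P, θ ⟨x, hPM.le x.2⟩ ∈ b := fun x => ⟨⟨x, hPM.le x.2⟩, x.2, rfl⟩
  -- every element of `b` comes from `P`
  have hsurj : ∀ y : b, ∃ x : P, ((k₁ ⟨θ ⟨x, hPM.le x.2⟩, hbQ (hPP x)⟩ : Q) : Ω) = y := by
    intro y
    obtain ⟨u, hu, he⟩ := i₁.ge y.2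
    exact ⟨⟨u, hu⟩, ((hψ₁e ⟨u, hPM.le hu⟩ (hMW₁ (hPM.le hu))).symm.trans he)⟩
  have hμP : ∀ x : M, (x : Ω) ∈ P ↔ μ x ∈ P := by
    have hi : imgOf μ P = P := imgOf_eq_of_mapsTo D hμ hPM.le hPS (fun x hx => by
      rw [show x = Subgroup.inclusion hPM.le ⟨x, hx⟩ from rfl, ← hm]
      exact (m _).2) le_rfl
    intro x
    exact (apply_mem_imgOf_iff D hμ x (a := P)).symm.trans (by rw [hi])
  rcases eq_or_lt_of_le hMN with he | hlt
  · have hMi : ∀ x, μ x ∈ M := fun x => he.ge (hv x)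
    obtain ⟨μA, hμA, hμAe⟩ := exists_aut_of_invariant D hμ hMi
    have hrk : ∀ x : M, θ x ∈ Q := fun x => hr.le ⟨x, rfl⟩
    have hkθ := D.comp_mem hθ ((mem_autGroup_iff D hQA.1 k₁).1 hk₁.1) hrk
    have hkr : ((Q.subtype.comp k₁.toMonoidHom).comp (θ.codRestrict Q hrk)).range = Q := by
      rw [range_comp_of_range _ _ _ hr, MonoidHom.range_comp, MonoidHom.range_eq_top.2 k₁.surjective,
        ← MonoidHom.range_eq_map, Subgroup.range_subtype]
    set e := mapEquiv D hkθ hkr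
    have hee : ∀ x : M, ((e x : Q) : Ω) = ((k₁ ⟨θ x, hrk x⟩ : Q) : Ω) := fun x => rfl
    have heh : equivHom e ∈ D.Hom M := equivHom_mapEquiv D _ _
    have heb : ∀ x : M, ((e x : Q) : Ω) ∈ b ↔ (x : Ω) ∈ P := fun x => by
      rw [hee, hk₁.2]; exact apply_mem_imgOf_iff D hθ x
    set β := MulAut.congr e μA with hβdef
    have hβ : β ∈ D.autGroup Q ⊓ stabSub Q b := by
      refine ⟨congr_mem_autGroup D e heh (equivHom_symm_mem D e heh) hμA, fun q => ?_⟩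
      obtain ⟨x, rfl⟩ := e.surjective q
      rw [hβdef, congr_apply, e.symm_apply_apply, heb, heb, hμAe]
      exact (hμP x).symm
    have hJ : m₁ * m * m₁⁻¹ ∈ jGroup p D P := by
      refine stab_mem_jGroup hQA.1 hbQ hsyl hχ hχP hβ fun y h1 h2 h3 => ?_
      obtain ⟨x, hx⟩ := hsurj y
      have e1 : (⟨χ ⟨y, h1⟩, h3⟩ : P) = m₁ x := Subtype.ext (by
        rw [hm₁]
        show χ ⟨y, h1⟩ = χ ⟨ψ₁ _, _⟩
        exact congrArg χ (Subtype.ext ((hψ₁e _ (hMW₁ (hPM.le x.2))).trans hx).symm))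
      rw [e1, MulAut.mul_apply, MulAut.mul_apply, MulAut.inv_apply_self, hm₁]
      show χ ⟨ψ₁ _, _⟩ = χ ⟨_, h2⟩
      refine congrArg χ (Subtype.ext ?_)
      show ψ₁ ⟨(m x : Ω), _⟩ = ((β (Subgroup.inclusion hbQ y) : Q) : Ω)
      rw [show Subgroup.inclusion hbQ y = e ⟨x, hPM.le x.2⟩ from Subtype.ext hx.symm, hβdef, congr_apply,
        e.symm_apply_apply, hee]
      refine (hψ₁e ⟨(m x : Ω), hPM.le (m x).2⟩ _).trans ?_
      refine congrArg (fun z : M => ((k₁ ⟨θ z, hrk z⟩ : Q) : Ω)) (Subtype.ext ?_)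
      exact (hm x).trans (hμAe _).symm
    have hNW : normalizerIn S P ≤ W₁ := by
      intro g hg
      refine ⟨⟨hg.1, ?_⟩, hg.2⟩
      rw [he]
      exact mem_normalizer_of_conj_mem_finite fun y hy =>
        ⟨(Subgroup.mem_normalizer_iff.1 (hTn hg.1) y).1 hy.1,
          Subgroup.mul_mem _ (Subgroup.mul_mem _ hg.2 hy.2) (Subgroup.inv_mem _ hg.2)⟩
    have hn := mem_normalizer_jGroup (p := p) hPS (restrict_mem D hh₁ hNW) hm₁a fun x hx => hm₁ x
    have h2 := (Subgroup.mem_normalizer_iff.1 (Subgroup.inv_mem _ hn) _).1 hJ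
    simpa [mul_assoc] using h2
  · set M' := μ.range
    obtain ⟨μi, hμi, hμie, hμir, hμiimg⟩ := exists_inv_imgOf D hμ
    have hM'N : M' ≤ normalizerIn T P := by rintro _ ⟨x, rfl⟩; exact hv x
    have hcM : Nat.card M' = Nat.card M := (isConj_card ⟨μ, hμ, rfl⟩).symm
    have hlt' : M' < normalizerIn T P := lt_of_le_of_ne hM'N fun he => by
      have h1 := Cfsg.Agent.FusionSys.card_lt_of_lt hlt
      have h2 : Nat.card M' = Nat.card (normalizerIn T P) := by rw [he]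
      omega
    have hM'T : M' ≤ T := hM'N.trans (normalizerIn_le _ _)
    have hM'S := hM'T.trans hT.1
    haveI := finite_of_le hM'S
    have hiP : imgOf μ P = P := imgOf_eq_of_mapsTo D hμ hPM.le hPS (fun x hx => (hμP x).1 hx) le_rfl
    have hPM' : P ≤ M' := hiP ▸ imgOf_le_range μ
    have hμiP : imgOf μi P = P := by
      have := hμiimg P hPM.le
      rwa [hiP] at this
    have hv₂ : ∀ y, μi y ∈ M := fun y => hμir.le ⟨y, rfl⟩
    have hθ₂ := D.comp_mem hμi hθ hv₂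
    set θ₂ := θ.comp (μi.codRestrict M hv₂)
    have hr₂ : θ₂.range = Q := by rw [range_comp_of_range _ _ _ hμir, hr]
    have hb₂ : imgOf θ₂ P = b := by rw [imgOf_comp, hμiP]
    set W₂ := normalizerIn S M' ⊓ Subgroup.normalizer (P : Set Ω) with hW₂
    obtain ⟨k₂, hk₂, ψ₂, hψ₂, hψ₂e⟩ := to_hub hS hQR hθ₂ hr₂ hPM' hb₂ hsyl
    have hMW₂ : M' ≤ W₂ := fun x hx =>
      ⟨le_normalizerIn hM'S hx, (hM'N hx).2⟩
    have i₂ := imgOf_hub (F := D) hr₂ hPM' hMW₂ hb₂ hk₂.2 hψ₂e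
    have hv₂' : ∀ x : W₂, ψ₂ x ∈ normalizerIn S b := fun x =>
      (congrArg (normalizerIn S) i₂).le (imgOf_mem_normalizer D hψ₂ (hPM'.trans hMW₂) x x.2.2)
    have hh₂ := D.comp_mem hψ₂ hχ hv₂'
    set h₂ := χ.comp (ψ₂.codRestrict _ hv₂')
    have hh₂P : imgOf h₂ P = P := by rw [imgOf_comp, i₂, hχP]
    obtain ⟨m₂, -, hm₂⟩ := exists_res hh₂ (hPM'.trans hMW₂) hh₂P
    have hrec : ∀ {W N : Subgroup Ω}, N < normalizerIn T P → P ≤ N → Nat.card N = Nat.card M →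
        W = normalizerIn S N ⊓ Subgroup.normalizer (P : Set Ω) → ∀ {h : W →* Ω}, h ∈ D.Hom W →
        imgOf h P = P → ∀ {m' : MulAut P} (hPW : P ≤ W),
        (∀ x : P, ((m' x : P) : Ω) = h (Subgroup.inclusion hPW x)) → m' ∈ jGroup p D P := by
      intro W N hN hPN hcN hW h hh hhP m' hPW hm'
      subst hW
      haveI := finite_of_le (hom_le D hh)
      have hlt2 : N < (normalizerIn S N ⊓ Subgroup.normalizer (P : Set Ω)) ⊓ T :=
        lt_of_lt_of_le (lt_hub_domain hTp (normalizerIn_le T P) hN)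
          fun x hx => ⟨⟨⟨hT.1 hx.1.1, hx.1.2⟩, hx.2⟩, hx.1.1⟩
      set W' := (normalizerIn S N ⊓ Subgroup.normalizer (P : Set Ω)) ⊓ T
      have hW'N : W' ≤ normalizerIn T P := fun x hx => ⟨hx.2, hx.1.2⟩
      haveI : Finite W' := finite_of_le (inf_le_right.trans hT.1)
      have hc1 := Cfsg.Agent.FusionSys.card_lt_of_lt hlt2
      have hc2 : Nat.card W' ≤ Nat.card T := Subgroup.card_le_of_le inf_le_right
      refine ih _ ?_ (restrict_mem D hh inf_le_left) (lt_of_le_of_lt hPN hlt2) hW'N (fun x => ?_)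
        (fun x => hm' x) rfl
      · show Nat.card T - Nat.card W' < n
        omega
      · exact ⟨stronglyClosed_apply_mem hT hh _ x.2.2,
          (hhP ▸ imgOf_mem_normalizer D hh hPW _ x.2.1.2).2⟩
    have hj₁ := hrec hlt hPM.le rfl hW₁ hh₁ hh₁P _ hm₁
    have hj₂ := hrec hlt' hPM' hcM hW₂ hh₂ hh₂P _ hm₂
    have hβ : k₂ * k₁⁻¹ ∈ D.autGroup Q ⊓ stabSub Q b := Subgroup.mul_mem _ hk₂ (Subgroup.inv_mem _ hk₁)
    have hJ : m₂ * m * m₁⁻¹ ∈ jGroup p D P := by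
      refine stab_mem_jGroup hQA.1 hbQ hsyl hχ hχP hβ fun y h1 h2 h3 => ?_
      obtain ⟨x, hx⟩ := hsurj y
      have e1 : (⟨χ ⟨y, h1⟩, h3⟩ : P) = m₁ x := Subtype.ext (by
        rw [hm₁]
        show χ ⟨y, h1⟩ = χ ⟨ψ₁ _, _⟩
        exact congrArg χ (Subtype.ext ((hψ₁e _ (hMW₁ (hPM.le x.2))).trans hx).symm))
      rw [e1, MulAut.mul_apply, MulAut.mul_apply, MulAut.inv_apply_self, hm₂]
      show χ ⟨ψ₂ _, _⟩ = χ ⟨_, h2⟩
      refine congrArg χ (Subtype.ext ?_)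
      show ψ₂ ⟨(m x : Ω), _⟩ = (((k₂ * k₁⁻¹ : MulAut Q) (Subgroup.inclusion hbQ y) : Q) : Ω)
      rw [show Subgroup.inclusion hbQ y = k₁ ⟨θ ⟨x, hPM.le x.2⟩, hbQ (hPP x)⟩ from Subtype.ext hx.symm,
        MulAut.mul_apply, MulAut.inv_apply_self]
      refine (hψ₂e ⟨(m x : Ω), hPM' (m x).2⟩ _).trans ?_
      refine congrArg (fun z : Q => ((k₂ z : Q) : Ω)) (Subtype.ext ?_)
      show θ ⟨μi ⟨(m x : Ω), _⟩, _⟩ = θ ⟨x, _⟩
      refine congrArg θ (Subtype.ext ?_)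
      exact (apply_congr μi (hm x) _ ⟨_, rfl⟩).trans (hμie _ _)
    have h3 := Subgroup.mul_mem _ (Subgroup.mul_mem _ (Subgroup.inv_mem _ hj₂) hJ) hj₁
    simpa [mul_assoc] using h3

/-- The relation between a map and an automorphism of `P` through two arrows. -/
def StepJ (D : FusionSystem S) (p : ℕ) (P : Subgroup Ω) {R : Subgroup Ω} (φ : R →* Ω) (a : Subgroup Ω) : Prop :=
  ∀ b, imgOf φ a = b → ∀ χa ∈ D.Hom (normalizerIn S a), imgOf χa a = P →
    ∀ χb ∈ D.Hom (normalizerIn S b), imgOf χb b = P → ∀ m : MulAut P,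
    (∀ (x : R) (_ : (x : Ω) ∈ a) (h1 : (x : Ω) ∈ normalizerIn S a) (h2 : φ x ∈ normalizerIn S b)
      (h3 : χa ⟨x, h1⟩ ∈ P), ((m ⟨χa ⟨x, h1⟩, h3⟩ : P) : Ω) = χb ⟨φ x, h2⟩) →
    m ∈ jGroup p D P

theorem stepJ_congr {R R' a : Subgroup Ω} {φ : R →* Ω} {φ' : R' →* Ω} (ha : a ≤ R) (ha' : a ≤ R')
    (h : ∀ (x : Ω) (hx : x ∈ a), φ ⟨x, ha hx⟩ = φ' ⟨x, ha' hx⟩) (hφ : StepJ D p P φ a) : StepJ D p P φ' a := by
  intro b hb χa hχa hχaP χb hχb hχbP m hm
  refine hφ b ((imgOf_congr ha ha' h).trans hb) χa hχa hχaP χb hχb hχbP m fun x hx h1 h2 h3 => ?_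
  have e := h x hx
  refine (hm ⟨x, ha' hx⟩ hx h1 (e ▸ h2) h3).trans ?_
  exact congrArg χb (Subtype.ext e.symm)

/-- The automorphism attached to a map and two arrows. -/
theorem exists_stepAut {R a b : Subgroup Ω} {φ : R →* Ω} (hφ : φ ∈ D.Hom R) (ha : a ≤ R)
    (hb : imgOf φ a = b) {χa : normalizerIn S a →* Ω} (hχa : χa ∈ D.Hom (normalizerIn S a))
    (hχaP : imgOf χa a = P) {χb : normalizerIn S b →* Ω} (hχb : χb ∈ D.Hom (normalizerIn S b))
    (hχbP : imgOf χb b = P) :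
    ∃ m ∈ D.autGroup P, ∀ (x : R) (_ : (x : Ω) ∈ a) (h1 : (x : Ω) ∈ normalizerIn S a)
      (h2 : φ x ∈ normalizerIn S b) (h3 : χa ⟨x, h1⟩ ∈ P), ((m ⟨χa ⟨x, h1⟩, h3⟩ : P) : Ω) = χb ⟨φ x, h2⟩ := by
  have haS := ha.trans (hom_le D hφ)
  have hbS : b ≤ S := hb ▸ imgOf_le D hφ
  set ea := mapEquiv D (restrict_mem D hχa (le_normalizerIn haS)) ((range_restrict _ _).trans hχaP)
  set eb := mapEquiv D (restrict_mem D hχb (le_normalizerIn hbS)) ((range_restrict _ _).trans hχbP)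
  set eφ := mapEquiv D (restrict_mem D hφ ha) ((range_restrict _ _).trans hb)
  have hea : equivHom ea ∈ D.Hom a := equivHom_mapEquiv D _ _
  have heb : equivHom eb ∈ D.Hom b := equivHom_mapEquiv D _ _
  have heφ : equivHom eφ ∈ D.Hom a := equivHom_mapEquiv D _ _
  have hPS : P ≤ S := hom_le D (equivHom_symm_mem D ea hea)
  refine ⟨(ea.symm.trans eφ).trans eb, (mem_autGroup_iff D hPS _).2 ?_, fun x hx h1 h2 h3 => ?_⟩
  · exact hom_congr D (D.comp_mem (D.comp_mem (equivHom_symm_mem D ea hea) heφ fun y => (ea.symm y).2) heb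
      fun y => (eφ (ea.symm y)).2) fun y => rfl
  · rw [show (⟨χa ⟨x, h1⟩, h3⟩ : P) = ea ⟨x, hx⟩ from Subtype.ext rfl, MulEquiv.trans_apply,
      MulEquiv.trans_apply, ea.symm_apply_apply]
    rfl

/-- Elements of `P` are images of elements of `a` under an arrow. -/
theorem exists_of_arrow {a : Subgroup Ω} {χa : normalizerIn S a →* Ω} (hχaP : imgOf χa a = P) (z : P) :
    ∃ (x : Ω) (_ : x ∈ a) (h1 : x ∈ normalizerIn S a) (h3 : χa ⟨x, h1⟩ ∈ P), z = ⟨χa ⟨x, h1⟩, h3⟩ := by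
  obtain ⟨u, hu, he⟩ := hχaP.ge z.2
  exact ⟨u, hu, u.2, he ▸ z.2, Subtype.ext he.symm⟩

/-- The step on a larger subgroup of `T`. -/
theorem stepJ_of_lt (hS : IsPGroup p S) (hT : D.StronglyClosed T) (hPT : P ≤ T)
    (hsat : ∀ R ≤ T, (∃ a ≤ R, D.IsConj P a) → Nat.card P < Nat.card R → SatClass D p R)
    (hP : D.IsFullyNormalized P) (hgood : ∀ a, D.IsConj P a → Arrow D a P) {R a : Subgroup Ω} {φ : R →* Ω}
    (hφ : φ ∈ D.Hom R) (hRT : R ≤ T) (haR : a < R) : StepJ D p P φ a := by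
  have hRS := hRT.trans hT.1
  have hlt := lt_inf_normalizerIn hS hRS haR
  refine stepJ_congr hlt.le haR.le (φ := φ.comp (Subgroup.inclusion inf_le_left)) (fun x hx => rfl) ?_
  set R' := R ⊓ normalizerIn S a
  have hφ' := restrict_mem D hφ (inf_le_left : R' ≤ R)
  set φ' := φ.comp (Subgroup.inclusion (inf_le_left : R' ≤ R))
  intro b hb χa hχa hχaP χb hχb hχbP m hm
  have hPS := hP.1
  haveI := finite_of_le hPS
  haveI := finite_of_le (inf_le_left.trans hRS : R' ≤ S)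
  have hR'N : R' ≤ normalizerIn S a := inf_le_right
  have hθa := restrict_mem D hχa hR'N
  set θa := χa.comp (Subgroup.inclusion hR'N)
  have hθaP : imgOf θa a = P :=
    (imgOf_congr hlt.le (le_normalizerIn (hlt.le.trans (inf_le_left.trans hRS))) fun x hx => rfl).trans hχaP
  obtain ⟨θi, hθi, hθie, hθir, hθiimg⟩ := exists_inv_imgOf D hθa
  have hv₁ : ∀ y, θi y ∈ R' := fun y => hθir.le ⟨y, rfl⟩
  have hv₂ : ∀ x : R', φ' x ∈ normalizerIn S b := fun x => hb ▸ imgOf_mem_normalizer D hφ' hlt.le x x.2.2.2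
  have hf := D.comp_mem hφ' hχb hv₂
  have hμ := D.comp_mem hθi hf hv₁
  have hPM : P ≤ θa.range := hθaP ▸ imgOf_le_range θa
  have hcard : Nat.card θa.range = Nat.card R' := (isConj_card ⟨θa, hθa, rfl⟩).symm
  have hcP : Nat.card P = Nat.card a := by rw [← hθaP]; exact card_imgOf D hθa hlt.le
  refine res_mem_jGroup hS hT hPT hsat hP hgood hμ (lt_of_le_of_ne hPM fun he => ?_) ?_ ?_ ?_
  · have h1 := Cfsg.Agent.FusionSys.card_lt_of_lt hlt
    rw [← hcard, ← he, hcP] at h1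
    exact lt_irrefl _ h1
  · rintro _ ⟨x, rfl⟩
    exact ⟨stronglyClosed_apply_mem hT hθa x (hRT x.2.1), (hθaP ▸ imgOf_mem_normalizer D hθa hlt.le x x.2.2.2).2⟩
  · intro y
    refine ⟨stronglyClosed_apply_mem hT hf _ (hRT (hv₁ y).1), ?_⟩
    have hbN : b ≤ normalizerIn S b := le_normalizerIn (hb ▸ imgOf_le D hφ')
    exact (hχbP ▸ imgOf_mem_normalizer D hχb hbN _ (hv₂ ⟨θi y, hv₁ y⟩).2).2
  · intro z
    obtain ⟨x, hxa, h1, h3, rfl⟩ := exists_of_arrow hχaP z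
    refine (hm ⟨x, hlt.le hxa⟩ hxa h1 (hv₂ _) h3).trans ?_
    show χb ⟨φ' ⟨x, hlt.le hxa⟩, _⟩ = χb ⟨φ' ⟨θi _, _⟩, _⟩
    refine congrArg χb (Subtype.ext (congrArg φ' (Subtype.ext ?_)))
    exact (hθie ⟨x, hlt.le hxa⟩ ⟨_, rfl⟩).symm

/-- The automizer of `P` is generated by `O^p` and the induced automorphisms. -/
theorem autGroup_eq_jGroup (hS : IsPGroup p S) (hT : D.StronglyClosed T) (hgen : PGen p D) (hlt : P < T)
    (hsat : ∀ R ≤ T, (∃ a ≤ R, D.IsConj P a) → Nat.card P < Nat.card R → SatClass D p R)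
    (hP : D.IsFullyNormalized P) : D.autGroup P = jGroup p D P := by
  refine le_antisymm (fun α hα => ?_) (jGroup_le hP.1)
  have hPT := hlt.le
  have hgood := good_all_in hS hT hgen hPT hsat hP
  have hne : ∀ a, D.IsConj P a → a < T := fun a ha => by
    haveI := finite_of_le hT.1
    refine lt_of_le_of_ne (isConj_le_stronglyClosed hT hPT ha) fun he => ?_
    have h1 := Cfsg.Agent.FusionSys.card_lt_of_lt hlt
    rw [← he, ← isConj_card ha] at h1
    exact lt_irrefl _ h1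
  let X : FusionSystem S :=
    { Hom := fun R => {φ | φ ∈ D.Hom R ∧ ∀ a ≤ R, D.IsConj P a → StepJ D p P φ a}
      le_of_mem := fun h => D.le_of_mem h.1
      injective_of_mem := fun h => D.injective_of_mem h.1
      conj_mem := by
        intro R g hR hg
        refine ⟨D.conj_mem hR hg, fun a ha hPa => ?_⟩
        exact stepJ_congr (hne a hPa).le ha (fun x hx => rfl)
          (stepJ_of_lt hS hT hPT hsat hP hgood (D.conj_mem hT.1 hg) le_rfl (hne a hPa))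
      comp_mem := by
        rintro R U φ ψ ⟨hφ, h1⟩ ⟨hψ, h2⟩ h
        refine ⟨D.comp_mem hφ hψ h, fun a ha hPa c hc χa hχa hχaP χc hχc hχcP m hm => ?_⟩
        set b := imgOf φ a with hb
        have hbU : b ≤ U := by
          rintro _ ⟨x, -, rfl⟩
          exact h x
        have hPb : D.IsConj P b := isConj_trans hPa (isConj_imgOf D hφ ha)
        have hc' : imgOf ψ b = c := by rw [← hc, imgOf_comp]
        obtain ⟨χb, hχb, hχbP⟩ := hgood b hPb
        obtain ⟨m₁, -, hm₁⟩ := exists_stepAut hφ ha rfl hχa hχaP hχb hχbP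
        obtain ⟨m₂, -, hm₂⟩ := exists_stepAut hψ hbU hc' hχb hχbP hχc hχcP
        have j₁ := h1 a ha hPa b rfl χa hχa hχaP χb hχb hχbP m₁ hm₁
        have j₂ := h2 b hbU hPb c hc' χb hχb hχbP χc hχc hχcP m₂ hm₂
        have : m = m₂ * m₁ := by
          refine MulEquiv.ext fun z => Subtype.ext ?_
          obtain ⟨x, hxa, h4, h5, rfl⟩ := exists_of_arrow hχaP z
          have hyb : φ ⟨x, ha hxa⟩ ∈ b := ⟨⟨x, ha hxa⟩, hxa, rfl⟩
          have hyN := le_normalizerIn (isConj_le_right hPb) hyb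
          have hcN : ψ ⟨φ ⟨x, ha hxa⟩, h _⟩ ∈ normalizerIn S c :=
            le_normalizerIn (hc' ▸ imgOf_le D hψ) (hc' ▸ ⟨⟨φ ⟨x, ha hxa⟩, h _⟩, hyb, rfl⟩)
          have h6 : χb ⟨φ ⟨x, ha hxa⟩, hyN⟩ ∈ P := hχbP ▸ ⟨_, hyb, rfl⟩
          rw [MulAut.mul_apply, show m₁ ⟨χa ⟨x, h4⟩, h5⟩ = ⟨χb ⟨φ ⟨x, ha hxa⟩, hyN⟩, h6⟩ from
            Subtype.ext (hm₁ ⟨x, ha hxa⟩ hxa h4 hyN h5), hm₂ ⟨φ ⟨x, ha hxa⟩, h _⟩ hyb hyN hcN h6]
          exact hm ⟨x, ha hxa⟩ hxa h4 hcN h5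
        exact this ▸ Subgroup.mul_mem _ j₂ j₁
      inv_mem := by
        rintro R φ ⟨hφ, h1⟩
        obtain ⟨ψ, hψ, he, -, hψimg⟩ := exists_inv_imgOf D hφ
        refine ⟨ψ, ⟨hψ, fun c hc hPc a ha χc hχc hχcP χa hχa hχaP m hm => ?_⟩, fun x => he x _⟩
        obtain ⟨a', ha', rfl⟩ := exists_preimg φ hc
        obtain rfl : a' = a := (hψimg a' ha').symm.trans ha
        have hPa := isConj_trans hPc (isConj_symm (isConj_imgOf D hφ ha'))
        refine (Subgroup.inv_mem_iff _).1 (h1 a' ha' hPa _ rfl χa hχa hχaP χc hχc hχcP m⁻¹ ?_)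
        intro x hx h4 h5 h6
        have h7 : χc ⟨φ x, h5⟩ ∈ P := hχcP ▸ ⟨_, ⟨x, hx, rfl⟩, rfl⟩
        have hxr : φ x ∈ φ.range := ⟨x, rfl⟩
        have h8 : ψ ⟨φ x, hxr⟩ ∈ normalizerIn S a' := (congrArg (· ∈ normalizerIn S a') (he x hxr)).mpr h4
        have e1 := hm ⟨φ x, hxr⟩ ⟨x, hx, rfl⟩ h5 h8 h7
        rw [show (⟨χa ⟨x, h4⟩, h6⟩ : P) = m ⟨χc ⟨φ x, h5⟩, h7⟩ from
          Subtype.ext ((congrArg χa (Subtype.ext (he x hxr).symm)).trans e1.symm), MulAut.inv_apply_self] }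
  have hDX : D ≤ X := hgen X fun U hU x hx hco => by
    refine (mem_autGroup_iff X hU x).2 ⟨(mem_autGroup_iff D hU x).1 hx, fun a ha hPa => ?_⟩
    have haT := isConj_le_stronglyClosed hT hPT hPa
    have hxh := (mem_autGroup_iff D hU x).1 hx
    rcases eq_or_lt_of_le (le_inf ha haT) with he | hlt'
    · intro b hb χa hχa hχaP χb hχb hχbP m hm
      have hab : b = a := by
        rw [← hb, he]
        exact imgOf_inf_closed hT hU hx
      subst hab
      have haS := ha.trans hU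
      haveI := finite_of_le haS
      obtain ⟨m₀, -, hm₀⟩ := exists_stepAut (φ := T.subtype) (subtype_mem D hT.1) haT (imgOf_subtype haT) hχa
        hχaP hχb hχbP
      have j₀ : m₀ ∈ jGroup p D P := stepJ_of_lt hS hT hPT hsat hP hgood (subtype_mem D hT.1) le_rfl (hne b hPa)
        b (imgOf_subtype haT) χa hχa hχaP χb hχb hχbP m₀ hm₀
      set ea := mapEquiv D (restrict_mem D hχa (le_normalizerIn haS)) ((range_restrict _ _).trans hχaP)
      have hea : equivHom ea ∈ D.Hom b := equivHom_mapEquiv D _ _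
      obtain ⟨x₀, hx₀, hx₀e⟩ := exists_res hxh ha hb
      have j₁ : MulAut.congr ea x₀ ∈ jGroup p D P := by
        refine Subgroup.mem_sup_left (mem_opOf (congr_mem_autGroup D ea hea (equivHom_symm_mem D ea hea) hx₀) ?_)
        rw [MulEquiv.orderOf_eq]
        refine hco.coprime_dvd_left (rel_orderOf_dvd (h := ha) (α := x) (β := x₀) fun y => Subtype.ext ?_)
        exact (hx₀e y).symm
      have : m = m₀ * MulAut.congr ea x₀ := by
        refine MulEquiv.ext fun z => Subtype.ext ?_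
        obtain ⟨y, rfl⟩ := ea.surjective z
        have hy' := le_normalizerIn haS (x₀ y).2
        have hxy : ((x ⟨y, ha y.2⟩ : U) : Ω) ∈ normalizerIn S b := by
          have := hy'
          rwa [hx₀e] at this
        rw [MulAut.mul_apply, congr_apply, ea.symm_apply_apply]
        refine (hm ⟨y, ha y.2⟩ y.2 (le_normalizerIn haS y.2) hxy (ea y).2).trans ?_
        refine ((hm₀ ⟨(x₀ y : Ω), haT (x₀ y).2⟩ (x₀ y).2 hy' hy' (ea (x₀ y)).2).trans ?_).symm
        exact congrArg χb (Subtype.ext (hx₀e y))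
      exact this ▸ Subgroup.mul_mem _ j₀ j₁
    · exact stepJ_congr hlt'.le ha (fun y hy => rfl)
        (stepJ_of_lt hS hT hPT hsat hP hgood (restrict_mem D hxh inf_le_left) inf_le_right hlt')
  have hαh := (mem_autGroup_iff D hP.1 α).1 hα
  have hr : imgOf (P.subtype.comp α.toMonoidHom) P = P :=
    imgOf_eq_of_mapsTo D hαh le_rfl hP.1 (fun x _ => (α x).2) le_rfl
  exact (hDX P hαh).2 P le_rfl (isConj_refl D hP.1) P hr _ (subtype_mem D (normalizerIn_le S P))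
    (imgOf_subtype (le_normalizerIn hP.1)) _ (subtype_mem D (normalizerIn_le S P))
    (imgOf_subtype (le_normalizerIn hP.1)) α fun x _ h1 h2 h3 => rfl

end Cfsg.Agent.RelProd
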