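import Cfsg.Agent.Lib.Fusion.GeneratedCriterion
import Cfsg.Agent.Lib.FusionMeet.Basic

/-!
# Systems generated by automorphisms of order prime to `p`

In such a system the normalizers of the conjugates of a fully normalized `P` map into that of `P`, and the
automizer of `P` is generated by `O^p` and the automorphisms induced by the carrier, once the larger classes
inside a strongly closed subgroup are saturated.
-/

set_option autoImplicit false
set_option linter.unusedSectionVars false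
set_option linter.style.haveILetI false

namespace Cfsg.Agent.RelProd

open Cfsg Cfsg.FusionSystem Cfsg.Agent.FusionSys Cfsg.Agent.FusionMeet

variable {Ω : Type*} [Group Ω] {S T : Subgroup Ω} [Finite S] {p : ℕ} [hp : Fact p.Prime]
variable {D : FusionSystem S} {P : Subgroup Ω}

/-- Generated by the automorphisms of order prime to `p` and the carrier. -/
def PGen (p : ℕ) (D : FusionSystem S) : Prop :=
  ∀ X : FusionSystem S, (∀ U ≤ S, ∀ x ∈ D.autGroup U, (orderOf x).Coprime p → x ∈ X.autGroup U) → D ≤ X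

/-- Maps fix the intersection with a strongly closed subgroup setwise. -/
theorem imgOf_inf_closed (hT : D.StronglyClosed T) {U : Subgroup Ω} (hU : U ≤ S) {x : MulAut U}
    (hx : x ∈ D.autGroup U) : imgOf (U.subtype.comp x.toMonoidHom) (U ⊓ T) = U ⊓ T := by
  have hxh := (mem_autGroup_iff D hU x).1 hx
  refine imgOf_eq_of_mapsTo D hxh inf_le_left (inf_le_left.trans hU)
    (fun y hy => ⟨(x y).2, stronglyClosed_apply_mem hT hxh y hy.2⟩) le_rfl

/-- A step on a larger subgroup of `T` transports the property of having an arrow to `P`. -/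
theorem good_step_in (hS : IsPGroup p S) (hT : D.StronglyClosed T) (hPT : P ≤ T)
    (hsat : ∀ R ≤ T, (∃ a ≤ R, D.IsConj P a) → Nat.card P < Nat.card R → SatClass D p R)
    (hP : D.IsFullyNormalized P) {R a : Subgroup Ω} {φ : R →* Ω} (hφ : φ ∈ D.Hom R) (haR : a < R)
    (hRN : R ≤ normalizerIn T a) (hPa : D.IsConj P a) (hgood : Arrow D (imgOf φ a) P) : Arrow D a P := by
  induction hk : Nat.card T - Nat.card R using Nat.strong_induction_on generalizing R a with
  | _ n ih =>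
  have hTn := stronglyClosed_le_normalizer hT
  have hRS := hom_le D hφ
  haveI := finite_of_le hRS
  haveI := finite_of_le hT.1
  haveI := finite_of_le (normalizerIn_le S P)
  have hTp := hS.to_le hT.1
  obtain ⟨χ, hχ, hχP⟩ := hgood
  have hval : ∀ x : R, φ x ∈ normalizerIn S (imgOf φ a) := fun x => imgOf_mem_normalizer D hφ haR.le x (hRN x.2).2
  have hθ := D.comp_mem hφ hχ hval
  set θ := χ.comp (φ.codRestrict _ hval)
  have hθa : imgOf θ a = P := by rw [imgOf_comp, hχP]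
  set M := θ.range with hM
  have hMN : M ≤ normalizerIn T P := by
    rintro _ ⟨x, rfl⟩
    exact ⟨stronglyClosed_apply_mem hT hθ x (hRN x.2).1, (hθa ▸ imgOf_mem_normalizer D hθ haR.le x (hRN x.2).2).2⟩
  have hcM : Nat.card M = Nat.card R := (isConj_card ⟨θ, hθ, rfl⟩).symm
  have hcP : Nat.card P = Nat.card a := isConj_card hPa
  have hPR : Nat.card P < Nat.card R := hcP ▸ Cfsg.Agent.FusionSys.card_lt_of_lt haR
  have hRT : R ≤ T := hRN.trans (normalizerIn_le _ _)
  obtain ⟨Q, ⟨θ₁, hθ₁, hθ₁r⟩, hQA, hQR⟩ := hsat R hRT ⟨a, haR.le, hPa⟩ hPR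
  obtain ⟨γ, hγ, hsyl⟩ := exists_sylStab hS hQA (a := imgOf θ₁ a) (hθ₁r ▸ imgOf_le_range θ₁)
  have hγm := (mem_autGroup_iff D hQA.1 γ).1 hγ
  have hθ₁' := D.comp_mem hθ₁ hγm fun x => hθ₁r.le ⟨x, rfl⟩
  set θ₁' := (Q.subtype.comp γ.toMonoidHom).comp (θ₁.codRestrict Q fun x => hθ₁r.le ⟨x, rfl⟩)
  rw [← imgOf_comp θ₁ (Q.subtype.comp γ.toMonoidHom) fun x => hθ₁r.le ⟨x, rfl⟩] at hsyl
  set b := imgOf θ₁' a
  have hr₁ : θ₁'.range = Q := by
    rw [range_comp_of_range _ _ _ hθ₁r, MonoidHom.range_comp, MonoidHom.range_eq_top.2 γ.surjective,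
      ← MonoidHom.range_eq_map, Subgroup.range_subtype]
  obtain ⟨θi, hθi, -, hθir, hθiimg⟩ := exists_inv_imgOf D hθ
  have hv₂ : ∀ y, θi y ∈ R := fun y => hθir.le ⟨y, rfl⟩
  have hθ₂ := D.comp_mem hθi hθ₁' hv₂
  set θ₂ := θ₁'.comp (θi.codRestrict R hv₂)
  have hr₂ : θ₂.range = Q := by rw [range_comp_of_range _ _ _ hθir, hr₁]
  have hθiP : imgOf θi P = a := by rw [← hθa]; exact hθiimg a haR.le
  have hb₂ : imgOf θ₂ P = b := by rw [imgOf_comp, hθiP]
  have hPM : P ≤ M := hθa ▸ imgOf_le_range θ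
  have hPS := hP.1
  set W₁ := normalizerIn S R ⊓ Subgroup.normalizer (a : Set Ω) with hW₁
  set W₂ := normalizerIn S M ⊓ Subgroup.normalizer (P : Set Ω) with hW₂
  obtain ⟨k₁, hk₁, ψ₁, hψ₁, hψ₁e⟩ := to_hub hS hQR hθ₁' hr₁ haR.le rfl hsyl
  obtain ⟨k₂, hk₂, ψ₂, hψ₂, hψ₂e⟩ := to_hub hS hQR hθ₂ hr₂ hPM hb₂ hsyl
  have hRW : R ≤ W₁ := fun x hx => ⟨le_normalizerIn hRS hx, (hRN hx).2⟩
  have hMW : M ≤ W₂ := fun x hx => ⟨le_normalizerIn (hMN.trans ((normalizerIn_le _ _).trans hT.1)) hx, (hMN hx).2⟩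
  have i₁ := imgOf_hub (F := D) hr₁ haR.le hRW rfl hk₁.2 hψ₁e
  have i₂ := imgOf_hub (F := D) hr₂ hPM hMW hb₂ hk₂.2 hψ₂e
  haveI := finite_of_le (hom_le D hψ₁)
  haveI := finite_of_le (hom_le D hψ₂)
  have hle : ∀ W : Subgroup Ω, W ≤ T → Nat.card W ≤ Nat.card T := fun W hW => Subgroup.card_le_of_le hW
  have haW : a ≤ W₁ := haR.le.trans hRW
  have hPW : P ≤ W₂ := hPM.trans hMW
  have hb : D.IsConj P b := i₂ ▸ isConj_imgOf D hψ₂ hPW
  have hgb : Arrow D b P := by
    rcases eq_or_lt_of_le hMN with he | hlt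
    · have hNW : normalizerIn S P ≤ W₂ := by
        intro g hg
        refine ⟨⟨hg.1, ?_⟩, hg.2⟩
        haveI := finite_of_le ((normalizerIn_le T P).trans hT.1)
        rw [he]
        exact mem_normalizer_of_conj_mem_finite fun y hy =>
          ⟨(Subgroup.mem_normalizer_iff.1 (hTn hg.1) y).1 hy.1,
            Subgroup.mul_mem _ (Subgroup.mul_mem _ hg.2 hy.2) (Subgroup.inv_mem _ hg.2)⟩
      have hψ' := restrict_mem D hψ₂ hNW
      set ψ' := ψ₂.comp (Subgroup.inclusion hNW)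
      have hPN := le_normalizerIn hPS
      have i₂' : imgOf ψ' P = b := by
        rw [← i₂]; exact imgOf_congr hPN (hPN.trans hNW) fun x hx => rfl
      have hr' : normalizerIn S b ≤ ψ'.range := by
        haveI := finite_of_le (normalizerIn_le S b)
        refine (Subgroup.eq_of_le_of_card_ge ?_ ?_).ge
        · rintro _ ⟨x, rfl⟩
          exact i₂' ▸ imgOf_mem_normalizer D hψ' hPN x x.2.2
        · rw [← isConj_card ⟨ψ', hψ', rfl⟩]
          exact hP.2 b hb
      obtain ⟨ψi, hψi, -, -, hψiimg⟩ := exists_inv_imgOf D hψ'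
      refine ⟨_, restrict_mem D hψi hr', ?_⟩
      rw [imgOf_congr (le_normalizerIn (isConj_le_right hb)) (i₂' ▸ imgOf_le_range ψ') (φ' := ψi) fun x hx => rfl,
        ← i₂']
      exact hψiimg P hPN
    · have hlt' : M < W₂ ⊓ T := lt_of_lt_of_le (lt_hub_domain hTp (normalizerIn_le T P) hlt)
        fun x hx => ⟨⟨⟨hT.1 hx.1.1, hx.1.2⟩, hx.2⟩, hx.1.1⟩
      have hψ' := restrict_mem D hψ₂ (inf_le_left : W₂ ⊓ T ≤ W₂)
      set ψ' := ψ₂.comp (Subgroup.inclusion (inf_le_left : W₂ ⊓ T ≤ W₂))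
      have hPW' : P ≤ W₂ ⊓ T := le_inf hPW hPT
      have i₂' : imgOf ψ' P = b := by
        rw [← i₂]; exact imgOf_congr hPW' hPW fun x hx => rfl
      obtain ⟨ψi, hψi, -, hψir, hψiimg⟩ := exists_inv_imgOf D hψ'
      haveI := finite_of_le (hom_le D hψ')
      have hcr : Nat.card ψ'.range = Nat.card (W₂ ⊓ T : Subgroup Ω) := (isConj_card ⟨ψ', hψ', rfl⟩).symm
      have hbP : imgOf ψi b = P := by rw [← i₂']; exact hψiimg P hPW'
      have hbr : b ≤ ψ'.range := i₂' ▸ imgOf_le_range ψ'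
      have hMlt := Cfsg.Agent.FusionSys.card_lt_of_lt hlt'
      refine ih _ ?_ hψi (lt_of_le_of_ne hbr fun he => ?_) ?_ hb ?_ rfl
      · have := hle (W₂ ⊓ T) inf_le_right
        omega
      · have h1 : Nat.card b = Nat.card P := (isConj_card hb).symm
        rw [he, hcr] at h1
        omega
      · rintro _ ⟨x, rfl⟩
        exact ⟨stronglyClosed_apply_mem hT hψ' x x.2.2,
          (i₂' ▸ imgOf_mem_normalizer D hψ' hPW' x x.2.1.2).2⟩
      · rw [hbP]
        exact ⟨_, subtype_mem D (normalizerIn_le S P), imgOf_subtype (le_normalizerIn hP.1)⟩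
  haveI := finite_of_le (haR.le.trans hRS)
  rcases eq_or_lt_of_le hRN with he | hlt
  · have hNW : normalizerIn S a ≤ W₁ := by
      intro g hg
      refine ⟨⟨hg.1, ?_⟩, hg.2⟩
      exact mem_normalizer_of_conj_mem_finite fun y hy => by
        have hy' := hRN hy
        exact he.ge ⟨(Subgroup.mem_normalizer_iff.1 (hTn hg.1) y).1 hy'.1,
          Subgroup.mul_mem _ (Subgroup.mul_mem _ hg.2 hy'.2) (Subgroup.inv_mem _ hg.2)⟩
    have hψ' := restrict_mem D hψ₁ hNW
    set ψ' := ψ₁.comp (Subgroup.inclusion hNW)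
    have haN := le_normalizerIn (isConj_le_right hPa)
    have i₁' : imgOf ψ' a = b := by
      exact (imgOf_congr haN haW fun x hx => rfl).trans i₁
    obtain ⟨χb, hχb, hχbP⟩ := hgb
    have hv : ∀ x, ψ' x ∈ normalizerIn S b := fun x => i₁' ▸ imgOf_mem_normalizer D hψ' haN x x.2.2
    refine ⟨_, D.comp_mem hψ' hχb hv, ?_⟩
    rw [imgOf_comp, i₁', hχbP]
  · have hlt' : R < W₁ ⊓ T := lt_of_lt_of_le (lt_hub_domain hTp (normalizerIn_le T a) hlt)
      fun x hx => ⟨⟨⟨hT.1 hx.1.1, hx.1.2⟩, hx.2⟩, hx.1.1⟩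
    have hψ' := restrict_mem D hψ₁ (inf_le_left : W₁ ⊓ T ≤ W₁)
    set ψ' := ψ₁.comp (Subgroup.inclusion (inf_le_left : W₁ ⊓ T ≤ W₁))
    have haW' : a ≤ W₁ ⊓ T := le_inf haW (haR.le.trans hRT)
    have i₁' : imgOf ψ' a = b := by
      exact (imgOf_congr haW' haW fun x hx => rfl).trans i₁
    haveI := finite_of_le (hom_le D hψ')
    have hRlt := Cfsg.Agent.FusionSys.card_lt_of_lt hlt'
    refine ih _ ?_ hψ' (lt_of_lt_of_le haR hlt'.le) (fun x hx => ⟨hx.2, hx.1.2⟩) hPa (i₁'.symm ▸ hgb) rfl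
    have := hle (W₁ ⊓ T) inf_le_right
    omega

theorem good_step_iff_in (hS : IsPGroup p S) (hT : D.StronglyClosed T) (hPT : P ≤ T)
    (hsat : ∀ R ≤ T, (∃ a ≤ R, D.IsConj P a) → Nat.card P < Nat.card R → SatClass D p R)
    (hP : D.IsFullyNormalized P) {R a : Subgroup Ω} {φ : R →* Ω} (hφ : φ ∈ D.Hom R) (hRT : R ≤ T) (haR : a < R)
    (hPa : D.IsConj P a) : Arrow D a P ↔ Arrow D (imgOf φ a) P := by
  have key : ∀ {R a : Subgroup Ω} {φ : R →* Ω}, φ ∈ D.Hom R → R ≤ T → a < R → D.IsConj P a →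
      Arrow D (imgOf φ a) P → Arrow D a P := by
    intro R a φ hφ hRT haR hPa h
    have hlt := lt_inf_normalizerIn hS (hom_le D hφ) haR
    refine good_step_in hS hT hPT hsat hP (restrict_mem D hφ inf_le_left) hlt
      (fun x hx => ⟨hRT hx.1, hx.2.2⟩) hPa ?_
    rwa [imgOf_congr hlt.le haR.le (φ' := φ) fun x hx => rfl]
  refine ⟨fun h => ?_, key hφ hRT haR hPa⟩
  obtain ⟨ψ, hψ, -, -, hψimg⟩ := exists_inv_imgOf D hφ
  refine key hψ (fun y hy => ?_) (lt_of_le_of_ne (imgOf_le_range φ) fun he => ?_)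
    (isConj_trans hPa (isConj_imgOf D hφ haR.le)) ?_
  · obtain ⟨x, rfl⟩ := hy
    exact stronglyClosed_apply_mem hT hφ x (hRT x.2)
  · haveI := finite_of_le (hom_le D hφ)
    have h1 := card_imgOf D hφ haR.le
    rw [he, ← isConj_card ⟨φ, hφ, rfl⟩] at h1
    exact (Cfsg.Agent.FusionSys.card_lt_of_lt haR).ne h1.symm
  · rwa [hψimg a haR.le]

/-- All conjugates of a fully normalized `P ≤ T` map their normalizers into that of `P`. -/
theorem good_all_in (hS : IsPGroup p S) (hT : D.StronglyClosed T) (hgen : PGen p D) (hPT : P ≤ T)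
    (hsat : ∀ R ≤ T, (∃ a ≤ R, D.IsConj P a) → Nat.card P < Nat.card R → SatClass D p R)
    (hP : D.IsFullyNormalized P) : ∀ a, D.IsConj P a → Arrow D a P := by
  have haT : ∀ a, D.IsConj P a → a ≤ T := fun a ha => isConj_le_stronglyClosed hT hPT ha
  let X : FusionSystem S :=
    { Hom := fun R => {φ | φ ∈ D.Hom R ∧ ∀ a ≤ R, D.IsConj P a → (Arrow D a P ↔ Arrow D (imgOf φ a) P)}
      le_of_mem := fun h => D.le_of_mem h.1
      injective_of_mem := fun h => D.injective_of_mem h.1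
      conj_mem := by
        intro R g hR hg
        refine ⟨D.conj_mem hR hg, fun a ha hPa => ?_⟩
        rw [imgOf_congr ha (haT a hPa) (φ' := conjHom T g) fun x hx => rfl]
        rcases eq_or_lt_of_le (haT a hPa) with he | hlt
        · subst he
          rw [imgOf_eq_of_mapsTo D (D.conj_mem hT.1 hg) le_rfl hT.1 (fun x _ =>
            stronglyClosed_apply_mem hT (D.conj_mem hT.1 hg) x x.2) le_rfl]
        · exact good_step_iff_in hS hT hPT hsat hP (D.conj_mem hT.1 hg) le_rfl hlt hPa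
      comp_mem := by
        rintro R U φ ψ ⟨hφ, h1⟩ ⟨hψ, h2⟩ h
        refine ⟨D.comp_mem hφ hψ h, fun a ha hPa => ?_⟩
        rw [h1 a ha hPa, imgOf_comp]
        refine h2 _ ?_ (isConj_trans hPa (isConj_imgOf D hφ ha))
        rintro _ ⟨x, -, rfl⟩
        exact h x
      inv_mem := by
        rintro R φ ⟨hφ, h1⟩
        obtain ⟨ψ, hψ, he, -, hψimg⟩ := exists_inv_imgOf D hφ
        refine ⟨ψ, ⟨hψ, fun c hc hPc => ?_⟩, fun x => he x _⟩
        obtain ⟨a, ha, rfl⟩ := exists_preimg φ hc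
        rw [hψimg a ha]
        exact (h1 a ha (isConj_trans hPc (isConj_symm (isConj_imgOf D hφ ha)))).symm }
  have hDX : D ≤ X := hgen X fun U hU x hx _ => by
    refine (mem_autGroup_iff X hU x).2 ⟨(mem_autGroup_iff D hU x).1 hx, fun a ha hPa => ?_⟩
    rcases eq_or_lt_of_le (le_inf ha (haT a hPa)) with he | hlt
    · subst he
      rw [imgOf_inf_closed hT hU hx]
    · have hφ := restrict_mem D ((mem_autGroup_iff D hU x).1 hx) (inf_le_left : U ⊓ T ≤ U)
      refine (good_step_iff_in hS hT hPT hsat hP hφ inf_le_right hlt hPa).trans ?_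
      rw [imgOf_congr hlt.le ha (φ' := U.subtype.comp x.toMonoidHom) fun y hy => rfl]
  intro a ha
  obtain ⟨φ, hφ, hr⟩ := isConj_symm ha
  rw [(hDX a hφ).2 a le_rfl ha, imgOf_self, hr]
  exact ⟨_, subtype_mem D (normalizerIn_le S P), imgOf_subtype (le_normalizerIn hP.1)⟩

end Cfsg.Agent.RelProd
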