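import Cfsg.Agent.Lib.RelProd.Normalizer
import Cfsg.Agent.Lib.Fusion.PPowerResidual

/-!
# Restriction of the relative product system to the normal subsystem

A map of the product system restricts on `P ∩ T` to conjugation by an element of `R` after a map of the
normal subsystem; saturated subsystems of the product system over subgroups of `T` lie in the normal
subsystem.
-/

set_option autoImplicit false
set_option linter.unusedSectionVars false
set_option linter.style.haveILetI false

namespace Cfsg.Agent.RelProd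

open Cfsg Cfsg.FusionSystem Cfsg.Agent.FusionSys Cfsg.Agent.FusionSys.FocCent
  Cfsg.Agent.FusionSys.KerClass Cfsg.Agent.FusionMeet

variable {Ω : Type*} [Group Ω] {S T R W : Subgroup Ω} {p : ℕ} [hp : Fact p.Prime] [Finite S]
variable {F : FusionSystem S} {E : FusionSystem T}

/-- A subsystem whose maps are conjugations modulo a strongly closed subgroup has hyperfocal subgroup in it. -/
theorem hyperfocal_le_of_mod (hS : IsPGroup p S) (hT : F.StronglyClosed T) {H : FusionSystem W} (hW : W ≤ S)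
    (h : ∀ (P : Subgroup Ω) (φ : P →* Ω), φ ∈ H.Hom P →
      ∃ r ∈ S, ∀ x : P, (r * (x : Ω) * r⁻¹)⁻¹ * φ x ∈ T) :
    H.hyperfocalSubgroup p ≤ T := by
  refine (Subgroup.closure_le _).2 ?_
  rintro _ ⟨P, α, x, hP, hα, rfl⟩
  haveI := finite_of_le (hP.trans hW)
  have hle : pResidual p (H.autGroup P) ≤ (modTriv T P).comap (H.autGroup P).subtype := by
    refine (Subgroup.closure_le _).2 fun a ha => ?_
    obtain ⟨r, hr, hre⟩ := h _ _ ((equivHom_autGroup H hP).1 a.2)
    have hn : ∀ s ∈ S, ∀ t ∈ T, s * t * s⁻¹ ∈ T := fun s hs t ht =>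
      (Subgroup.mem_normalizer_iff.1 (stronglyClosed_le_normalizer hT hs) t).1 ht
    have hpow : ∀ (n : ℕ) (y : P), (r ^ n * (y : Ω) * (r ^ n)⁻¹)⁻¹ * ((((a : MulAut P) ^ n) y : P) : Ω) ∈ T := by
      intro n
      induction n with
      | zero => intro y; simp
      | succ n ih =>
        intro y
        have h1 := T.mul_mem (hn r hr _ (ih y)) (hre (((a : MulAut P) ^ n) y))
        rw [pow_succ', pow_succ', MulAut.mul_apply]
        simpa [mul_assoc] using h1
    obtain ⟨k, hk⟩ := hS ⟨r, hr⟩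
    have hk' : r ^ p ^ k = 1 := congrArg Subtype.val hk
    have hb : (a : MulAut P) ^ p ^ k ∈ modTriv T P := fun y => by
      have := hpow (p ^ k) y
      simpa [hk'] using this
    show (a : MulAut P) ∈ modTriv T P
    have hco : (orderOf (a : MulAut P)).Coprime (p ^ k) := by
      rw [Subgroup.orderOf_coe]
      exact Nat.Coprime.pow_right k ha
    obtain ⟨m, hm⟩ := exists_pow_eq_self_of_coprime hco.symm
    rw [← hm]
    exact Subgroup.pow_mem _ hb m
  exact hle hα x

/-- The restriction to `P ∩ T` of a map of the product system has its class in `Aut_R(T)`. -/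
theorem relSys_cls (C : Data p F E R) {P : Subgroup Ω} {φ : P →* Ω} (hφ : φ ∈ (relSys C).Hom P) :
    ∃ β ∈ autInducedBy R T, Cls F E (P ⊓ T) (φ.comp (Subgroup.inclusion inf_le_left)) β := by
  have hT := C.closed
  have hTS := hT.1
  have hAI : AutInvariant F E := C.inv.2.2.1
  have hRF : autInducedBy R T ≤ F.autGroup T :=
    (autInducedBy_mono C.le).trans (autInducedBy_le_autGroup F hTS)
  let X : FusionSystem R :=
    { Hom := fun P => {φ | φ ∈ (inSys F C.le).Hom P ∧
        ∃ β ∈ autInducedBy R T, Cls F E (P ⊓ T) (φ.comp (Subgroup.inclusion inf_le_left)) β}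
      le_of_mem := fun h => (inSys F C.le).le_of_mem h.1
      injective_of_mem := fun h => (inSys F C.le).injective_of_mem h.1
      conj_mem := fun {P g} hP hg => by
        have hgn : g ∈ Subgroup.normalizer (T : Set Ω) := stronglyClosed_le_normalizer hT (C.le hg)
        obtain ⟨β, hβ, hβe⟩ := exists_conjAut (K := R) (P := T) hg hgn
        exact ⟨(inSys F C.le).conj_mem hP hg, β, hβ,
          cls_of_aut (hRF hβ) inf_le_right fun x => (hβe ⟨(x : Ω), x.2.2⟩).symm⟩
      comp_mem := by
        rintro P U φ ψ ⟨hφ, β, hβ, hc⟩ ⟨hψ, β', hβ', hc'⟩ h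
        refine ⟨(inSys F C.le).comp_mem hφ hψ h, β' * β, Subgroup.mul_mem _ hβ' hβ, ?_⟩
        exact (Cls.comp hAI hc hc' fun x =>
          ⟨h _, stronglyClosed_apply_mem hT hφ.1 (Subgroup.inclusion inf_le_left x) x.2.2⟩).congr fun x => rfl
      inv_mem := by
        rintro P φ ⟨hφ, β, hβ, hc⟩
        obtain ⟨θ, hθ, hθe⟩ := (inSys F C.le).inv_mem hφ
        refine ⟨θ, ⟨hθ, β⁻¹, Subgroup.inv_mem _ hβ, ?_⟩, hθe⟩
        have hpre : ∀ y ∈ φ.range ⊓ T, ∃ x : ↥(P ⊓ T), φ (Subgroup.inclusion inf_le_left x) = y := by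
          rintro y ⟨⟨u, rfl⟩, hyT⟩
          have h1 := stronglyClosed_apply_mem hT hθ.1 ⟨φ u, ⟨u, rfl⟩⟩ hyT
          exact ⟨⟨(u : Ω), u.2, (congrArg (· ∈ T) (hθe u)).mp h1⟩, rfl⟩
        have hr : (φ.comp (Subgroup.inclusion (inf_le_left : P ⊓ T ≤ P))).range = φ.range ⊓ T := by
          refine le_antisymm ?_ fun y hy => hpre y hy
          rintro _ ⟨x, rfl⟩
          exact ⟨⟨_, rfl⟩, stronglyClosed_apply_mem hT hφ.1 (Subgroup.inclusion inf_le_left x) x.2.2⟩
        set e := mapEquiv F (restrict_mem F hφ.1 (inf_le_left : P ⊓ T ≤ P)) hr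
        refine ((hc.congr (ψ := equivHom e) fun _ => rfl).symm hAI e).congr fun y => ?_
        obtain ⟨x, rfl⟩ := e.surjective y
        show θ ⟨φ _, _⟩ = ((e.symm (e x) : ↥(P ⊓ T)) : Ω)
        rw [e.symm_apply_apply]
        exact hθe (Subgroup.inclusion inf_le_left x) }
  refine (relSys_min (X := X) (fun Q hQ x hx => ?_) P hφ).2
  obtain ⟨⟨hxF, hxT⟩, b, hb, hxb⟩ := id hx.2
  refine (mem_autGroup_iff X hQ.le x).2 ⟨⟨(mem_autGroup_iff F (hQ.le.trans C.le) x).1 hxF, hQ.le,
    fun y => hQ.le (x y).2⟩, 1, Subgroup.one_mem _, ?_⟩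
  refine (cls_of_mem ((equivHom_autGroup E inf_le_right).1 hb)).congr fun y => ?_
  show ((x (Subgroup.inclusion inf_le_left y) : Q) : Ω) = _
  rw [hxb y]
  rfl

/-- Elements of order prime to `p` of automizers in the product system of subgroups of `T` lie in the
subsystem. -/
theorem pprime_mem_of_relSys (C : Data p F E R) {P : Subgroup Ω} (hPR : P ≤ R) (hPT : P ≤ T) {a : MulAut P}
    (ha : a ∈ (relSys C).autGroup P) (hco : (orderOf a).Coprime p) : a ∈ E.autGroup P := by
  have hAI : AutInvariant F E := C.inv.2.2.1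
  obtain ⟨β, hβ, hc⟩ := relSys_cls C ((equivHom_autGroup _ hPR).1 ha)
  have hle : P ≤ P ⊓ T := le_inf le_rfl hPT
  have h1 : Cls F E P (equivHom a) β := (hc.restrict hle).congr fun _ => rfl
  have hpow : ∀ n : ℕ, Cls F E P (equivHom (a ^ n)) (β ^ n) := by
    intro n
    induction n with
    | zero =>
      refine (cls_of_mem (subtype_mem E hPT)).congr fun x => ?_
      simp
    | succ n ih =>
      rw [pow_succ' β]
      refine (Cls.comp hAI ih h1 fun x => ((a ^ n) x).2).congr fun x => ?_
      rw [pow_succ' a]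
      rfl
  obtain ⟨k, hk⟩ := autInducedBy_isPGroup (C.pg.to_le C.le) ⟨β, hβ⟩
  have hk' : β ^ p ^ k = 1 := congrArg Subtype.val hk
  obtain ⟨-, φ₀, hφ₀, he⟩ := hk' ▸ hpow (p ^ k)
  have hmem : a ^ p ^ k ∈ E.autGroup P := (equivHom_autGroup E hPT).2 (hom_congr E hφ₀ fun x => by
    rw [he x, MulAut.one_apply])
  obtain ⟨m, hm⟩ := exists_pow_eq_self_of_coprime (Nat.Coprime.pow_right k hco).symm
  rw [← hm]
  exact Subgroup.pow_mem _ hmem m

/-- The maps common to two systems on the smaller carrier. -/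
def interSub (H : FusionSystem W) (E : FusionSystem T) (hWT : W ≤ T) : FusionSystem W where
  Hom P := {φ | φ ∈ H.Hom P ∧ φ ∈ E.Hom P}
  le_of_mem h := H.le_of_mem h.1
  injective_of_mem h := H.injective_of_mem h.1
  conj_mem hP hg := ⟨H.conj_mem hP hg, E.conj_mem (hP.trans hWT) (hWT hg)⟩
  comp_mem hφ hψ h := ⟨H.comp_mem hφ.1 hψ.1 h, E.comp_mem hφ.2 hψ.2 h⟩
  inv_mem {P φ} h := by
    obtain ⟨ψ, hψ, hψe⟩ := H.inv_mem h.1
    refine ⟨ψ, ⟨hψ, ?_⟩, hψe⟩
    obtain ⟨ψ', hψ', hψe'⟩ := E.inv_mem h.2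
    refine hom_congr E hψ' fun y => ?_
    obtain ⟨_, x, rfl⟩ := y
    exact (hψe x).trans (hψe' x).symm

/-- A saturated subsystem of the product system over a subgroup of `T` lies in the normal subsystem. -/
theorem sub_of_relSys (C : Data p F E R) (hWT : W ≤ T) {H : FusionSystem W} (hH : H.IsSaturated p)
    (hsub : H.IsSubsystemOf (relSys C)) : H.IsSubsystemOf E := by
  haveI : Finite W := finite_of_le (hWT.trans C.closed.1)
  have key : H ≤ interSub H E hWT :=
    le_of_residual (X := interSub H E hWT) (C.pg.to_le (hWT.trans C.closed.1)) hH (fun _ _ h => h)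
      fun P hP => by
        rintro _ ⟨a, ha, rfl⟩
        have hle : pResidual p (H.autGroup P) ≤
            ((interSub H E hWT).autGroup P).comap (H.autGroup P).subtype := by
          refine (Subgroup.closure_le _).2 fun b hb => ?_
          show (b : MulAut P) ∈ (interSub H E hWT).autGroup P
          have hbD := autGroup_mono hsub P b.2
          have hbE : (b : MulAut P) ∈ E.autGroup P :=
            pprime_mem_of_relSys C (hP.trans (hWT.trans C.leT)) (hP.trans hWT) hbD
              (by rw [Subgroup.orderOf_coe]; exact hb)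
          exact (mem_autGroup_iff _ hP _).2
            ⟨(mem_autGroup_iff H hP _).1 b.2, (mem_autGroup_iff E (hP.trans hWT) _).1 hbE⟩
        exact hle ha
  exact fun P φ hφ => (key P hφ).2

end Cfsg.Agent.RelProd
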