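import Cfsg.Agent.Lib.RelProd.SETop

/-!
# Subgroups containing the centralizer of their intersection with `T`

For these subgroups saturation of the class follows from that of the class of the intersection.
-/

set_option autoImplicit false
set_option linter.unusedSectionVars false
set_option linter.style.haveILetI false

namespace Cfsg.Agent.RelProd

open Cfsg Cfsg.FusionSystem Cfsg.Agent.FusionSys Cfsg.Agent.FusionSys.FocCent
  Cfsg.Agent.FusionSys.KerClass Cfsg.Agent.FusionMeet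

variable {Ω : Type*} [Group Ω] {S T : Subgroup Ω} {p : ℕ} [hp : Fact p.Prime] [Finite S]
variable {F : FusionSystem S} {E : FusionSystem T}

/-- Maps carry intersections with a strongly closed subgroup to such intersections. -/
theorem imgOf_inf {D : FusionSystem S} (hT : D.StronglyClosed T) {R a : Subgroup Ω} {φ : R →* Ω}
    (hφ : φ ∈ D.Hom R) (_ha : a ≤ R) : imgOf φ (a ⊓ T) = imgOf φ a ⊓ T := by
  obtain ⟨ψ, hψ, he, -, -⟩ := exists_inv_imgOf D hφ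
  ext y
  constructor
  · rintro ⟨x, hx, rfl⟩
    exact ⟨⟨x, hx.1, rfl⟩, stronglyClosed_apply_mem hT hφ x hx.2⟩
  · rintro ⟨⟨x, hx, rfl⟩, hyT⟩
    refine ⟨x, ⟨hx, ?_⟩, rfl⟩
    have := stronglyClosed_apply_mem hT hψ ⟨φ x, ⟨x, rfl⟩⟩ hyT
    exact (congrArg (· ∈ T) (he x ⟨x, rfl⟩)).mp this

/-- A fully automized receptive subgroup receives arrows from all its conjugates. -/
theorem arrow_of_sat (hS : IsPGroup p S) {D : FusionSystem S} {U Q : Subgroup Ω} (hA : D.IsFullyAutomized p Q)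
    (hR : D.IsReceptive Q) (h : D.IsConj U Q) : Arrow D U Q := by
  obtain ⟨ψ, hψ, -, hψQ⟩ := exists_normalizer_map hS hA hR h
  exact ⟨ψ, hψ, hψQ⟩

/-- Every conjugate contains the centralizer of its centric intersection with `T`. -/
def Big (p : ℕ) (F : FusionSystem S) (E : FusionSystem T) (P : Subgroup Ω) : Prop :=
  P ≤ S ∧ E.IsCentric (P ⊓ T) ∧ ∀ Q, (seSys p F E).IsConj P Q → centralizerIn S (Q ⊓ T) ≤ Q

theorem seSys_conj {P Q : Subgroup Ω} (h : (seSys p F E).IsConj P Q) : F.IsConj P Q := by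
  obtain ⟨φ, hφ, hr⟩ := h
  exact ⟨φ, seSys_sub _ hφ, hr⟩

theorem big_conj (hE : E.IsNormalIn F p) {P Q : Subgroup Ω} (h : Big p F E P)
    (hc : (seSys p F E).IsConj P Q) : Big p F E Q :=
  ⟨isConj_le_right hc, centric_of_conj hE.1.2.2 h.2.1 (isConj_inf hE.1.2.2.2.1 (seSys_conj hc)),
    fun R hR => h.2.2 R (isConj_trans hc hR)⟩

theorem centric_top (hE : E.IsNormalIn F p) : E.IsCentric T := by
  haveI : Finite T := finite_of_le (S := S) hE.1.2.2.2.1.1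
  exact ⟨le_rfl, fun X hX => (centralizerIn_le T X).trans
    (Subgroup.eq_of_le_of_card_ge (isConj_le_right hX) (isConj_card hX).le).ge⟩

theorem big_top (hE : E.IsNormalIn F p) : Big p F E S := by
  refine ⟨le_rfl, ?_, fun Q hQ => ?_⟩
  · rw [inf_eq_right.2 hE.1.2.2.2.1.1]; exact centric_top hE
  · exact (centralizerIn_le _ _).trans (Subgroup.eq_of_le_of_card_ge (isConj_le_right hQ) (isConj_card hQ).le).ge

/-- A fully automized receptive subgroup of `T` is fully normalized in `E`. -/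
theorem fullyNormalized_e (hS : IsPGroup p S) (hE : E.IsNormalIn F p) {Q : Subgroup Ω} (hQT : Q ≤ T)
    (hA : (seSys p F E).IsFullyAutomized p Q) (hR : (seSys p F E).IsReceptive Q) : E.IsFullyNormalized Q := by
  have hT := hE.1.2.2.2.1
  haveI : Finite T := finite_of_le (S := S) hT.1
  refine ⟨hQT, fun X hX => ?_⟩
  obtain ⟨φ, hφ, hr⟩ := id hX
  have hX' : (seSys p F E).IsConj Q X := ⟨φ, e_le_seSys hS hE hφ, hr⟩
  obtain ⟨χ, hχ, hχQ⟩ := arrow_of_sat hS hA hR (isConj_symm hX')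
  have hXT : X ≤ T := isConj_le_right hX
  have hle : normalizerIn T X ≤ normalizerIn S X := inf_le_inf_right _ hT.1
  exact card_le_of_hom _ hχ hle ((normalizerIn_le T Q).trans hT.1) fun u hu =>
    ⟨stronglyClosed_apply_mem (seSys_closed hT) hχ _ hu.1,
      (hχQ ▸ imgOf_mem_normalizer _ hχ (le_normalizerIn (hXT.trans hT.1)) ⟨u, hle hu⟩ hu.2).2⟩

/-- The classes of big subgroups are saturated once the larger ones are. -/
theorem satClass_big (hS : IsPGroup p S) (hE : E.IsNormalIn F p) {P₀ : Subgroup Ω} (hP₀ : Big p F E P₀)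
    (hsat : ∀ R ≤ S, Nat.card P₀ < Nat.card R → SatClass (seSys p F E) p R) :
    SatClass (seSys p F E) p P₀ := by
  obtain ⟨hEs, hF, hsub, hT, hAI, hfr⟩ := id hE.1
  haveI : Finite T := finite_of_le (S := S) hT.1
  have hTp : IsPGroup p T := hS.to_le hT.1
  have hTn := stronglyClosed_le_normalizer hT
  have hDT : (seSys p F E).StronglyClosed T := seSys_closed hT
  obtain ⟨P, hP₀P, hP⟩ := exists_fullyNormalized (seSys p F E) hP₀.1
  have hPb := big_conj hE hP₀ hP₀P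
  have hPS := hP.1
  obtain ⟨Q₀, hPQ₀, hA₀, hR₀⟩ := satClass_centric hS hE (P ⊓ T) inf_le_right hPb.2.1
  have hQ₀T : Q₀ ≤ T := isConj_le_stronglyClosed hDT inf_le_right hPQ₀
  have hQ₀S := hQ₀T.trans hT.1
  haveI := finite_of_le hQ₀S
  have hQ₀c : E.IsCentric Q₀ := centric_of_conj hE.1.2.2 hPb.2.1 (seSys_conj hPQ₀)
  have hQ₀E := fullyNormalized_e hS hE hQ₀T hA₀ hR₀
  set L := (seSys p F E).autGroup Q₀ with hL
  set W := autInducedBy S Q₀ with hW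
  have hWL : IsSyl p W L := isSyl_of_fullyAutomized hA₀
  -- move `P ∩ T` to `Q₀`
  obtain ⟨χ, hχ, hχQ⟩ := arrow_of_sat hS hA₀ hR₀ hPQ₀
  have hnP : normalizerIn S P ≤ normalizerIn S (P ⊓ T) := fun g hg =>
    ⟨hg.1, Subgroup.inf_normalizer_le_normalizer_inf ⟨hg.2, hTn hg.1⟩⟩
  have hPN : P ≤ normalizerIn S (P ⊓ T) := (le_normalizerIn hPS).trans hnP
  set P₁ := imgOf χ P with hP₁
  have hPP₁ : (seSys p F E).IsConj P P₁ := isConj_imgOf _ hχ hPN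
  have hP₁S : P₁ ≤ S := isConj_le_right hPP₁
  haveI := finite_of_le hP₁S
  have hP₁T : P₁ ⊓ T = Q₀ := by rw [hP₁, ← imgOf_inf hDT hχ hPN, hχQ]
  have hN₁ : ∀ g ∈ normalizerIn S P₁, g ∈ Subgroup.normalizer (Q₀ : Set Ω) := fun g hg =>
    hP₁T ▸ Subgroup.inf_normalizer_le_normalizer_inf ⟨hg.2, hTn hg.1⟩
  set A₁ := autInducedBy P₁ Q₀ with hA₁
  have hA₁W : A₁ ≤ W := autInducedBy_mono hP₁S
  set X₁ := W ⊓ Subgroup.normalizer (A₁ : Set (MulAut Q₀)) with hX₁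
  obtain ⟨l₀, hl₀, hlA, hsylA⟩ := exists_syl_normalizer hWL hA₁W
  set A₂ := cj l₀ A₁ with hA₂
  obtain ⟨b, hb, hbX⟩ := hsylA.exists_conj (X := cj l₀ X₁) ((hWL.2.1.to_le inf_le_left).map _) (le_inf
    ((cj_mono (inf_le_left.trans hWL.1)).trans (cj_eq_self (Subgroup.le_normalizer hl₀)).le)
    ((cj_mono inf_le_right).trans (cj_normalizer l₀ A₁).le))
  obtain ⟨l, hldef⟩ : ∃ l : MulAut Q₀, l = b * l₀ := ⟨_, rfl⟩
  have hlL : l ∈ L := hldef ▸ L.mul_mem hb.1 hl₀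
  have hlA₁ : cj l A₁ = A₂ := by rw [hldef, ← cj_mul, ← hA₂, cj_eq_self hb.2]
  have hlX : cj l X₁ ≤ W := by rw [hldef, ← cj_mul]; exact hbX.trans inf_le_left
  obtain ⟨ψ, hψ, hψe⟩ := hR₀.2 Q₀ _ ((equivHom_autGroup _ hQ₀S).1 hlL) (equivHom_range l)
  have hNext : normalizerIn S P₁ ≤ extender S Q₀ (equivHom l) := by
    intro g hg
    obtain ⟨cg, hcg, hcge⟩ := exists_conjAut (K := S) (P := Q₀) hg.1 (hN₁ g hg)
    have hcgn : cg ∈ Subgroup.normalizer (A₁ : Set (MulAut Q₀)) := by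
      refine mem_normalizer_of_conj_mem_finite fun a ha => ?_
      obtain ⟨y, hy, hye⟩ := (mem_autInducedBy_iff _).1 ha
      refine (mem_autInducedBy_iff _).2 ⟨g * y * g⁻¹, (Subgroup.mem_normalizer_iff.1 hg.2 y).1 hy, fun x => ?_⟩
      obtain ⟨x, rfl⟩ := cg.surjective x
      rw [MulAut.mul_apply, MulAut.mul_apply, MulAut.inv_apply_self, hcge, hye, hcge]
      group
    have h1 : l * cg * l⁻¹ ∈ W := hlX (mem_cj.2 (by
      rw [show l⁻¹ * (l * cg * l⁻¹) * l = cg by group]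
      exact ⟨hcg, hcgn⟩))
    obtain ⟨h, hh, hhe⟩ := (mem_autInducedBy_iff _).1 h1
    refine Subgroup.subset_closure ⟨hg.1, hN₁ g hg, h, hh, fun x hx => ?_⟩
    have h2 := hhe (l x)
    rw [MulAut.mul_apply, MulAut.mul_apply, MulAut.inv_apply_self] at h2
    rwa [equivHom_apply, equivHom_apply, show (⟨_, hx⟩ : Q₀) = cg x from Subtype.ext (hcge x).symm]
  have hψ₁ := restrict_mem _ hψ hNext
  set ν := ψ.comp (Subgroup.inclusion hNext) with hν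
  have hP₁N : P₁ ≤ normalizerIn S P₁ := le_normalizerIn hP₁S
  have hQ₀P₁ : Q₀ ≤ P₁ := hP₁T ▸ inf_le_left
  have hνQ : ∀ (x : Q₀) (h : (x : Ω) ∈ normalizerIn S P₁), ν ⟨x, h⟩ = ((l x : Q₀) : Ω) := fun x h =>
    hψe x x.2 (hNext h)
  set P₂ := imgOf ν P₁ with hP₂def
  have hPP₂ : (seSys p F E).IsConj P P₂ := isConj_trans hPP₁ (isConj_imgOf _ hψ₁ hP₁N)
  have hP₂S : P₂ ≤ S := isConj_le_right hPP₂
  haveI := finite_of_le hP₂S
  have hP₂T : P₂ ⊓ T = Q₀ := by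
    rw [hP₂def, ← imgOf_inf hDT hψ₁ hP₁N, hP₁T]
    refine imgOf_eq_of_mapsTo _ hψ₁ (hQ₀P₁.trans hP₁N) hQ₀S (fun x hx => ?_) le_rfl
    rw [show x = ⟨((⟨x, hx⟩ : Q₀) : Ω), x.2⟩ from rfl, hνQ]
    exact (l _).2
  have hC : centralizerIn S Q₀ ≤ P₂ := by
    have := hPb.2.2 P₂ hPP₂
    rwa [hP₂T] at this
  have hQ₀P₂ : Q₀ ≤ P₂ := hP₂T ▸ inf_le_left
  -- `P₂` consists of the elements inducing an element of `A₂`
  have hmem₂ : ∀ y ∈ P₂, y ∈ pre S Q₀ A₂ := by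
    rintro _ ⟨y, hy, rfl⟩
    obtain ⟨cy, hcy, hcye⟩ := exists_conjAut (K := P₁) (P := Q₀) hy (hN₁ y y.2)
    refine ⟨hom_apply_mem _ hψ₁ y, l * cy * l⁻¹, hlA₁.le (mem_cj.2 (by simpa [mul_assoc] using hcy)), fun x => ?_⟩
    obtain ⟨z, rfl⟩ := l.surjective x
    rw [MulAut.mul_apply, MulAut.mul_apply, MulAut.inv_apply_self, ← hνQ _ (hP₁N (hQ₀P₁ (cy z).2)),
      ← hνQ z (hP₁N (hQ₀P₁ z.2)), ← map_inv, ← map_mul, ← map_mul]
    exact congrArg ν (Subtype.ext (hcye z))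
  have hpre₂ : ∀ y ∈ pre S Q₀ A₂, y ∈ P₂ := by
    rintro y ⟨hyS, a, ha, hae⟩
    obtain ⟨u, hu, hue⟩ := (mem_autInducedBy_iff _).1 (mem_cj.1 (hlA₁.ge ha))
    have hd : (ν ⟨u, hP₁N hu⟩)⁻¹ * y ∈ centralizerIn S Q₀ := by
      refine ⟨S.mul_mem (S.inv_mem (hom_apply_mem _ hψ₁ _)) hyS, Subgroup.mem_centralizer_iff.2 fun q hq => ?_⟩
      obtain ⟨z, hz⟩ := l.surjective ⟨q, hq⟩
      have e1 : ((a (l z) : Q₀) : Ω) = ν ⟨u, hP₁N hu⟩ * q * (ν ⟨u, hP₁N hu⟩)⁻¹ := by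
        rw [show q = ν ⟨z, hP₁N (hQ₀P₁ z.2)⟩ from (congrArg Subtype.val hz).symm.trans (hνQ z _).symm,
          ← map_inv, ← map_mul, ← map_mul]
        have e2 : a (l z) = l ((l⁻¹ * a * l) z) := by
          rw [MulAut.mul_apply, MulAut.mul_apply, MulAut.apply_inv_self]
        rw [e2, ← hνQ _ (hP₁N (hQ₀P₁ ((l⁻¹ * a * l) z).2))]
        exact congrArg ν (Subtype.ext (hue z))
      rw [hae, hz] at e1
      calc q * ((ν ⟨u, hP₁N hu⟩)⁻¹ * y) =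
          (ν ⟨u, hP₁N hu⟩)⁻¹ * (ν ⟨u, hP₁N hu⟩ * q * (ν ⟨u, hP₁N hu⟩)⁻¹) * y := by group
        _ = (ν ⟨u, hP₁N hu⟩)⁻¹ * (y * q * y⁻¹) * y := by rw [e1]
        _ = _ := by group
    have := P₂.mul_mem (⟨⟨u, hP₁N hu⟩, hu, rfl⟩ : ν ⟨u, hP₁N hu⟩ ∈ P₂) (hC hd)
    rwa [mul_inv_cancel_left] at this
  -- `P₂` is fully normalized
  have hP₂n : (seSys p F E).IsFullyNormalized P₂ := by
    refine ⟨hP₂S, fun X hX => (hP.2 X (isConj_trans hPP₂ hX)).trans ?_⟩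
    haveI := finite_of_le (normalizerIn_le S P₁)
    haveI := finite_of_le (normalizerIn_le S P₂)
    refine (card_le_of_hom _ hχ hnP (normalizerIn_le S P₁) fun g hg => ?_).trans
      (card_le_of_hom _ hψ₁ le_rfl (normalizerIn_le S P₂) fun g hg => ?_)
    · exact imgOf_mem_normalizer _ hχ hPN ⟨g, hnP hg⟩ hg.2
    · exact imgOf_mem_normalizer _ hψ₁ hP₁N ⟨g, hg⟩ hg.2
  have hST : (seSys p F E).StronglyClosed S := ⟨le_rfl, fun U _ φ hφ x => hom_apply_mem _ hφ x⟩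
  have hc₂ : Nat.card P₂ = Nat.card P₀ := ((isConj_card hP₀P).trans (isConj_card hPP₂)).symm
  have hJ : (seSys p F E).autGroup P₂ = jGroup p (seSys p F E) P₂ := by
    rcases eq_or_lt_of_le hP₂S with he | hlt
    · rw [he]
      exact autGroup_top_eq hST seSys_pGen
    · exact autGroup_eq_jGroup hS hST seSys_pGen hlt (fun R hR _ hc => hsat R hR (hc₂ ▸ hc)) hP₂n
  have hT₂ : ∀ u ∈ normalizerIn S P₂, u ∈ Subgroup.normalizer (Q₀ : Set Ω) := fun g hg =>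
    hP₂T ▸ Subgroup.inf_normalizer_le_normalizer_inf ⟨hg.2, hTn hg.1⟩
  have hP₂c : E.IsCentric (P₂ ⊓ T) := hP₂T.symm ▸ hQ₀c
  -- the automorphisms fixing `Q₀` are inner
  have hker : ∀ a ∈ (seSys p F E).autGroup P₂, (∀ x : P₂, (x : Ω) ∈ Q₀ → a x = x) → a ∈ Inn P₂ := by
    intro a ha hfix
    rw [hJ] at ha
    have hn : autInducedBy S P₂ ≤ Subgroup.normalizer (opOf p ((seSys p F E).autGroup P₂) : Set (MulAut P₂)) :=
      fun g hg => mem_normalizer_of_conj_mem_finite fun z hz => conj_mem_opOf (fun y hy =>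
        Subgroup.mul_mem _ (Subgroup.mul_mem _ (autInducedBy_le_autGroup _ hP₂S hg) hy)
          (Subgroup.inv_mem _ (autInducedBy_le_autGroup _ hP₂S hg))) hz
    rw [jGroup, ← SetLike.mem_coe, Subgroup.coe_mul_of_right_le_normalizer_left _ _ hn] at ha
    obtain ⟨o, ho, w, hw, how⟩ := ha
    change o * w = a at how
    have ho' := opOf_seSys_le hS hE hP₂S ho
    have hog : o ∈ gAut F E P₂ := opOf_le _ ho'
    obtain ⟨u, hu, hue⟩ := (mem_autInducedBy_iff _).1 hw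
    have huN : u ∈ normalizerIn S P₂ := ⟨hu, mem_normalizer_of_autInduced hue⟩
    obtain ⟨wr, hwr, hwre⟩ := exists_conjAut (K := S) (P := Q₀) hu (hT₂ u huN)
    obtain ⟨-, bo, hbo, hbor⟩ := id hog
    obtain ⟨or, -, hor⟩ := exists_rel F hQ₀P₂ hP₂S (gAut_le F E P₂ hog) fun y hy => hP₂T.le
      ⟨(o y).2, stronglyClosed_apply_mem hT ((equivHom_autGroup F hP₂S).1 (gAut_le F E P₂ hog)) y (hQ₀T hy)⟩
    have horE : or ∈ E.autGroup Q₀ := (equivHom_autGroup E hQ₀T).2 (hom_congr E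
      (restrict_mem E ((equivHom_autGroup E inf_le_right).1 hbo) hP₂T.ge) fun x =>
        (hor.apply x).symm.trans (hbor.apply ⟨(x : Ω), hP₂T.ge x.2⟩))
    have hone : or * wr = 1 := MulEquiv.ext fun x => Subtype.ext (by
      have h2 : w ⟨x, hQ₀P₂ x.2⟩ = ⟨(wr x : Q₀), hQ₀P₂ (wr x).2⟩ := Subtype.ext ((hue _).trans (hwre x).symm)
      have h1 := congrArg Subtype.val (hfix ⟨x, hQ₀P₂ x.2⟩ x.2)
      rw [← how, MulAut.mul_apply, h2, hor.apply (wr x)] at h1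
      exact h1)
    have horW : or ∈ W ⊓ E.autGroup Q₀ := ⟨by
      rw [eq_inv_of_mul_eq_one_left hone]; exact W.inv_mem hwr, horE⟩
    have hsylE := isSyl_of_fullyAutomized (fullyNormalized_imp hTp hEs hQ₀E).2
    rw [← hsylE.eq_of_le (le_inf (autInducedBy_mono hT.1) hsylE.1) inf_le_right
      ((autInducedBy_isPGroup hS).to_le inf_le_left)] at horW
    obtain ⟨t, ht, hte⟩ := (mem_autInducedBy_iff _).1 horW
    have htu : t * u ∈ centralizerIn S Q₀ := by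
      refine ⟨S.mul_mem (hT.1 ht) hu, Subgroup.mem_centralizer_iff.2 fun q hq => ?_⟩
      have h1 := congrArg (fun f : MulAut Q₀ => ((f ⟨q, hq⟩ : Q₀) : Ω)) hone
      simp only [MulAut.mul_apply, MulAut.one_apply, hte, hwre] at h1
      calc q * (t * u) = t * (u * q * u⁻¹) * t⁻¹ * (t * u) := by rw [h1]
        _ = _ := by group
    have htn : t ∈ Subgroup.normalizer (P₂ : Set Ω) := by
      have := Subgroup.mul_mem _ (Subgroup.le_normalizer (hC htu)) (Subgroup.inv_mem _ huN.2)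
      rwa [mul_inv_cancel_right] at this
    obtain ⟨ct, hct, hcte⟩ := exists_conjAut (K := T) (P := P₂) ht htn
    obtain ⟨z, hz⟩ := fix_mem_inn hS hE hP₂S hP₂c (k := o * ct⁻¹)
      (Subgroup.mul_mem _ (Subgroup.mem_sup_left ho') (Subgroup.mem_sup_right (Subgroup.inv_mem _ hct)))
      fun x hx => by
        have hx' : (x : Ω) ∈ Q₀ := hP₂T.le ⟨x.2, hx⟩
        obtain ⟨q, hq⟩ := or.surjective ⟨(x : Ω), hx'⟩
        have e : ct ⟨q, hQ₀P₂ q.2⟩ = x := Subtype.ext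
          ((hcte _).trans ((hte q).symm.trans (congrArg Subtype.val hq)))
        rw [MulAut.mul_apply, show ct⁻¹ x = ⟨(q : Ω), hQ₀P₂ q.2⟩ from by rw [← e, MulAut.inv_apply_self]]
        exact Subtype.ext ((hor.apply q).trans (congrArg Subtype.val hq))
    have hs : ∀ x : P₂, ((a x : P₂) : Ω) = (z : Ω) * (t * u) * x * ((z : Ω) * (t * u))⁻¹ := fun x => by
      have e : a = MulAut.conj z * (ct * w) := by rw [hz, ← how]; group
      rw [e, MulAut.mul_apply, MulAut.mul_apply, MulAut.conj_apply, Subgroup.coe_mul, Subgroup.coe_mul,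
        Subgroup.coe_inv, hcte, hue]
      group
    exact ⟨⟨_, P₂.mul_mem z.2 (hC htu)⟩, MulEquiv.ext fun x => Subtype.ext (hs x).symm⟩
  -- fully automized
  have hst : (seSys p F E).autGroup P₂ ≤ stabSub P₂ Q₀ := fun a ha x => by
    have hah := (mem_autGroup_iff _ hP₂S a).1 ha
    have hah' := (mem_autGroup_iff _ hP₂S a⁻¹).1 (Subgroup.inv_mem _ ha)
    refine ⟨fun h => hP₂T.le ⟨x.2, ?_⟩, fun h => hP₂T.le ⟨(a x).2, stronglyClosed_apply_mem hDT hah x (hQ₀T h)⟩⟩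
    have := stronglyClosed_apply_mem hDT hah' (a x) (hQ₀T h)
    change ((a⁻¹ (a x) : P₂) : Ω) ∈ T at this
    rwa [MulAut.inv_apply_self] at this
  set f := resHom hQ₀P₂ with hf
  have hfA : ∀ c : stabSub P₂ Q₀, (c : MulAut P₂) ∈ (seSys p F E).autGroup P₂ →
      f c ∈ L ⊓ Subgroup.normalizer (A₂ : Set (MulAut Q₀)) := by
    intro c hc
    have hch := (mem_autGroup_iff _ hP₂S _).1 hc
    refine ⟨(mem_autGroup_iff _ hQ₀S _).2 (hom_congr _ (restrict_mem _ hch hQ₀P₂) fun x => rfl),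
      mem_normalizer_of_conj_mem_finite fun a ha => ?_⟩
    obtain ⟨s, hs, hse⟩ := exists_pre hlA ha
    refine of_pre (hmem₂ _ (((c : MulAut P₂) ⟨s, hpre₂ s hs⟩ : P₂)).2) fun x => ?_
    obtain ⟨x, rfl⟩ := (f c).surjective x
    rw [MulAut.mul_apply, MulAut.mul_apply, MulAut.inv_apply_self, hf, resHom_apply, resHom_apply,
      ← Subgroup.coe_inv, ← Subgroup.coe_mul, ← Subgroup.coe_mul, ← map_inv, ← map_mul, ← map_mul]
    exact congrArg (fun y : P₂ => (((c : MulAut P₂) y : P₂) : Ω)) (Subtype.ext (hse x))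
  have hsyl₂ : IsSyl p (autInducedBy S P₂) ((seSys p F E).autGroup P₂) := by
    obtain ⟨Y, hY, hWY⟩ := exists_isSyl_ge (p := p) (autInducedBy_isPGroup (P := P₂) hS)
      (autInducedBy_le_autGroup (seSys p F E) hP₂S)
    suffices hYW : Y ≤ autInducedBy S P₂ by rwa [le_antisymm hYW hWY] at hY
    have hlift : ∀ a ∈ W ⊓ Subgroup.normalizer (A₂ : Set (MulAut Q₀)), ∃ c : stabSub P₂ Q₀,
        (c : MulAut P₂) ∈ autInducedBy S P₂ ∧ f c = a := by
      intro a ha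
      obtain ⟨s, hs, hse⟩ := (mem_autInducedBy_iff _).1 ha.1
      have hsn : s ∈ Subgroup.normalizer (P₂ : Set Ω) := mem_normalizer_of_conj_mem_finite fun y hy => by
        obtain ⟨hyS, c, hc, hce⟩ := hmem₂ y hy
        refine hpre₂ _ ⟨S.mul_mem (S.mul_mem hs hyS) (S.inv_mem hs), a * c * a⁻¹,
          (Subgroup.mem_normalizer_iff.1 ha.2 c).1 hc, fun x => ?_⟩
        obtain ⟨x, rfl⟩ := a.surjective x
        rw [MulAut.mul_apply, MulAut.mul_apply, MulAut.inv_apply_self, hse, hce, hse]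
        group
      obtain ⟨cs, hcs, hcse⟩ := exists_conjAut (K := S) (P := P₂) hs hsn
      exact ⟨⟨cs, hst (autInducedBy_le_autGroup _ hP₂S hcs)⟩, hcs,
        MulEquiv.ext fun x => Subtype.ext ((hcse _).trans (hse x).symm)⟩
    set Yb := (Y.subgroupOf (stabSub P₂ Q₀)).map f with hYb
    have heq : W ⊓ Subgroup.normalizer (A₂ : Set (MulAut Q₀)) = Yb := by
      refine hsylA.eq_of_le (fun a ha => ?_) ?_ ((isPGroup_subgroupOf hY.2.1).map _)
      · obtain ⟨c, hc, rfl⟩ := hlift a ha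
        exact ⟨c, hWY hc, rfl⟩
      · rintro _ ⟨c, hc, rfl⟩
        exact hfA c (hY.1 hc)
    intro y hy
    obtain ⟨c, hc, hce⟩ := hlift (f ⟨y, hst (hY.1 hy)⟩) (heq.ge ⟨⟨y, hst (hY.1 hy)⟩, hy, rfl⟩)
    have h1 : (c : MulAut P₂)⁻¹ * y ∈ Inn P₂ := by
      refine hker _ (Subgroup.mul_mem _ (Subgroup.inv_mem _ (autInducedBy_le_autGroup _ hP₂S hc)) (hY.1 hy))
        fun x hx => ?_
      have h2 := congrArg (fun g : MulAut Q₀ => ((g ⟨(x : Ω), hx⟩ : Q₀) : Ω)) hce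
      simp only [hf, resHom_apply] at h2
      rw [MulAut.mul_apply, show y x = (c : MulAut P₂) x from Subtype.ext h2.symm, MulAut.inv_apply_self]
    have := Subgroup.mul_mem _ hc (inn_le_autInducedBy hP₂S h1)
    rwa [mul_inv_cancel_left] at this
  refine ⟨P₂, isConj_trans hP₀P hPP₂, fullyAutomized_of_isSyl_aut hP₂S hsyl₂, hP₂S, fun U φ hφ hr => ?_⟩
  have hUS := hom_le _ hφ
  haveI := finite_of_le hUS
  have hUQ : imgOf φ (U ⊓ T) = Q₀ := by rw [imgOf_inf hDT hφ le_rfl, imgOf_self, hr, hP₂T]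
  have hle : U ⊓ T ≤ U := inf_le_left
  obtain ⟨η, hη, hηe⟩ := hR₀.2 (U ⊓ T) _ (restrict_mem _ hφ hle) ((range_restrict φ hle).trans hUQ)
  have hExt : extender S U φ ≤ extender S (U ⊓ T) (φ.comp (Subgroup.inclusion hle)) := by
    refine (Subgroup.closure_le _).2 ?_
    rintro g ⟨hgS, hgN, h, hh, hhe⟩
    exact Subgroup.subset_closure ⟨hgS, Subgroup.inf_normalizer_le_normalizer_inf ⟨hgN, hTn hgS⟩, h, hh,
      fun x hx => hhe ⟨(x : Ω), x.2.1⟩ hx.1⟩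
  have hηU := restrict_mem _ hη hExt
  set ζ := η.comp (Subgroup.inclusion hExt) with hζ
  have hUE : U ≤ extender S U φ := le_extender _ hφ
  have hζT : ∀ (x : Ω) (hx : x ∈ U) (_ : x ∈ T), ζ ⟨x, hUE hx⟩ = φ ⟨x, hx⟩ := fun x hx hxT =>
    hηe x ⟨hx, hxT⟩ (hExt (hUE hx))
  have hζP : ∀ x : U, ζ ⟨x, hUE x.2⟩ ∈ P₂ := by
    intro x
    have hd : (φ x)⁻¹ * ζ ⟨x, hUE x.2⟩ ∈ centralizerIn S Q₀ := by
      refine ⟨S.mul_mem (S.inv_mem (hom_apply_mem _ hφ x)) (hom_apply_mem _ hηU _),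
        Subgroup.mem_centralizer_iff.2 fun q hq => ?_⟩
      obtain ⟨y, hy, rfl⟩ := hUQ.ge hq
      have hz : (x : Ω) * y * (x : Ω)⁻¹ ∈ U := U.mul_mem (U.mul_mem x.2 y.2) (U.inv_mem x.2)
      have hzT : (x : Ω) * y * (x : Ω)⁻¹ ∈ T := (Subgroup.mem_normalizer_iff.1 (hTn (hUS x.2)) _).1 hy.2
      have e1 := hζT _ hz hzT
      rw [map_apply_conj φ x.2 y.2, map_apply_conj ζ (hUE x.2) (hUE y.2), hζT y y.2 hy.2] at e1
      calc φ y * ((φ x)⁻¹ * ζ ⟨x, hUE x.2⟩) = (φ x)⁻¹ * (φ x * φ y * (φ x)⁻¹) * ζ ⟨x, hUE x.2⟩ := by group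
        _ = (φ x)⁻¹ * (ζ ⟨x, hUE x.2⟩ * φ y * (ζ ⟨x, hUE x.2⟩)⁻¹) * ζ ⟨x, hUE x.2⟩ := by rw [e1]
        _ = _ := by group
    have := P₂.mul_mem (hr.le ⟨x, rfl⟩ : φ x ∈ P₂) (hC hd)
    rwa [mul_inv_cancel_left] at this
  obtain ⟨φi, hφi, hφie, hφir, -⟩ := exists_inv_imgOf _ hφ
  have hv : ∀ y, (φi.comp (Subgroup.inclusion hr.ge)) y ∈ extender S U φ := fun y => hUE (hφir.le ⟨_, rfl⟩)
  have hd := FusionSystem.comp_mem (seSys p F E) (restrict_mem _ hφi hr.ge) hηU hv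
  obtain ⟨δ, hδ, hδe⟩ := exists_aut_of_invariant _ hd fun y =>
    hζP ⟨φi (Subgroup.inclusion hr.ge y), hφir.le ⟨_, rfl⟩⟩
  obtain ⟨z, rfl⟩ := hker δ hδ fun x hx => Subtype.ext (by
    rw [hδe]
    obtain ⟨y, hy, hye⟩ := hUQ.ge hx
    show ζ ⟨φi ⟨(x : Ω), _⟩, _⟩ = (x : Ω)
    rw [show (⟨φi ⟨(x : Ω), hr.ge x.2⟩, hv x⟩ : extender S U φ) = ⟨(y : Ω), hUE y.2⟩ from Subtype.ext
      ((apply_congr φi hye.symm _ _).trans (hφie y ⟨y, rfl⟩)), hζT y y.2 hy.2]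
    exact hye)
  refine ⟨_, (seSys p F E).comp_mem hηU ((seSys p F E).conj_mem le_rfl (S.inv_mem (hP₂S z.2)))
    (hom_apply_mem _ hηU), fun x hxU hxN => ?_⟩
  show (z : Ω)⁻¹ * ζ ⟨x, hxN⟩ * (z : Ω)⁻¹⁻¹ = φ ⟨x, hxU⟩
  have e := hδe ⟨φ ⟨x, hxU⟩, hr.le ⟨_, rfl⟩⟩
  change _ = ζ ⟨φi ⟨φ ⟨x, hxU⟩, _⟩, _⟩ at e
  rw [show (⟨φi ⟨φ ⟨x, hxU⟩, hr.ge (hr.le ⟨_, rfl⟩)⟩, hv ⟨φ ⟨x, hxU⟩, hr.le ⟨_, rfl⟩⟩⟩ : extender S U φ) = ⟨x, hxN⟩
    from Subtype.ext (hφie ⟨x, hxU⟩ _)] at e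
  rw [← e, MulAut.conj_apply, Subgroup.coe_mul, Subgroup.coe_mul, Subgroup.coe_inv]
  group

end Cfsg.Agent.RelProd
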