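import Cfsg.Agent.Lib.RelProd.SEGroup
import Cfsg.Agent.Lib.Fusion.GeneratedCriterion

/-!
# Extensions of automorphisms to preimages

For `A ≤ Aut_S(P)` the preimage `pre S P A` consists of the elements of `N_S(P)` inducing an element of `A`.
Receptivity of a fully automized subgroup with arrows from all conjugates reduces to extensions to preimages.
-/

set_option autoImplicit false
set_option linter.unusedSectionVars false
set_option linter.style.haveILetI false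

namespace Cfsg.Agent.RelProd

open Cfsg Cfsg.FusionSystem Cfsg.Agent.FusionSys Cfsg.Agent.FusionMeet

variable {Ω : Type*} [Group Ω] {S P : Subgroup Ω}

/-- The elements of `N_S(P)` inducing an element of `A`. -/
def pre (S P : Subgroup Ω) (A : Subgroup (MulAut P)) : Subgroup Ω where
  carrier := {s | s ∈ S ∧ ∃ a ∈ A, ∀ x : P, ((a x : P) : Ω) = s * x * s⁻¹}
  one_mem' := ⟨S.one_mem, 1, A.one_mem, fun x => by simp⟩
  mul_mem' := fun {s t} ⟨hs, a, ha, hae⟩ ⟨ht, b, hb, hbe⟩ =>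
    ⟨S.mul_mem hs ht, a * b, A.mul_mem ha hb, fun x => by rw [MulAut.mul_apply, hae, hbe]; group⟩
  inv_mem' := fun {s} ⟨hs, a, ha, hae⟩ => ⟨S.inv_mem hs, a⁻¹, A.inv_mem ha, fun x => by
    have := hae (a⁻¹ x)
    rw [MulAut.apply_inv_self] at this
    rw [this]; group⟩

theorem pre_le {A : Subgroup (MulAut P)} : pre S P A ≤ normalizerIn S P := fun _ hs => by
  obtain ⟨hsS, a, -, hae⟩ := hs
  exact ⟨hsS, mem_normalizer_of_autInduced hae⟩

theorem pre_mono {A B : Subgroup (MulAut P)} (h : A ≤ B) : pre S P A ≤ pre S P B := fun _ hs => by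
  obtain ⟨hsS, a, ha, hae⟩ := hs
  exact ⟨hsS, a, h ha, hae⟩

theorem self_le_pre {A : Subgroup (MulAut P)} (hP : P ≤ S) (hI : Inn P ≤ A) : P ≤ pre S P A := fun x hx =>
  ⟨hP hx, MulAut.conj ⟨x, hx⟩, hI ⟨_, rfl⟩, fun _ => rfl⟩

theorem cent_le_pre {A : Subgroup (MulAut P)} : centralizerIn S P ≤ pre S P A := fun c hc =>
  ⟨hc.1, 1, A.one_mem, fun x => by
    rw [MulAut.one_apply, ← Subgroup.mem_centralizer_iff.1 hc.2 x x.2, mul_inv_cancel_right]⟩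

theorem exists_pre {A : Subgroup (MulAut P)} (hA : A ≤ autInducedBy S P) {a : MulAut P} (ha : a ∈ A) :
    ∃ s ∈ pre S P A, ∀ x : P, ((a x : P) : Ω) = s * x * s⁻¹ := by
  obtain ⟨s, hs, hse⟩ := (mem_autInducedBy_iff _).1 (hA ha)
  exact ⟨s, ⟨hs, a, ha, hse⟩, hse⟩

theorem of_pre {A : Subgroup (MulAut P)} {s : Ω} (hs : s ∈ pre S P A) {a : MulAut P}
    (ha : ∀ x : P, ((a x : P) : Ω) = s * x * s⁻¹) : a ∈ A := by
  obtain ⟨-, b, hb, hbe⟩ := hs
  rwa [show a = b from MulEquiv.ext fun x => Subtype.ext ((ha x).trans (hbe x).symm)]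

theorem conj_mem_inn (g : MulAut P) {a : MulAut P} (ha : a ∈ Inn P) : g * a * g⁻¹ ∈ Inn P := by
  obtain ⟨u, rfl⟩ := ha
  refine ⟨g u, MulEquiv.ext fun x => ?_⟩
  simp [MulAut.conj_apply, MulAut.mul_apply]

/-- `g` extends to the preimage of `A`. -/
def ExtTo (D : FusionSystem S) (P : Subgroup Ω) (A : Subgroup (MulAut P)) (g : MulAut P) : Prop :=
  ∃ ψ ∈ D.Hom (pre S P A), ∀ (x : P) (h : (x : Ω) ∈ pre S P A), ψ ⟨x, h⟩ = ((g x : P) : Ω)

variable {D : FusionSystem S} {A : Subgroup (MulAut P)} {g : MulAut P}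

theorem ext_maps (hP : P ≤ S) (hI : Inn P ≤ A) {ψ : pre S P A →* Ω} (hψ : ψ ∈ D.Hom (pre S P A))
    (he : ∀ (x : P) (h : (x : Ω) ∈ pre S P A), ψ ⟨x, h⟩ = ((g x : P) : Ω)) (s : pre S P A) :
    ψ s ∈ pre S P (cj g A) := by
  obtain ⟨-, a, ha, hae⟩ := id s.2
  refine ⟨hom_apply_mem D hψ s, g * a * g⁻¹, mem_cj.2 (by simpa [mul_assoc] using ha), fun x => ?_⟩
  obtain ⟨y, rfl⟩ := g.surjective x
  rw [MulAut.mul_apply, MulAut.mul_apply, MulAut.inv_apply_self, ← he (a y) (self_le_pre hP hI (a y).2),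
    ← he y (self_le_pre hP hI y.2), ← map_inv, ← map_mul, ← map_mul]
  exact congrArg ψ (Subtype.ext (hae y))

theorem ext_comp {h : MulAut P} (hP : P ≤ S) (hI : Inn P ≤ A) (h1 : ExtTo D P A g)
    (h2 : ExtTo D P (cj g A) h) : ExtTo D P A (h * g) := by
  obtain ⟨ψ, hψ, he⟩ := h1
  obtain ⟨χ, hχ, hχe⟩ := h2
  refine ⟨_, D.comp_mem hψ hχ (ext_maps hP hI hψ he), fun x hx => ?_⟩
  show χ ⟨ψ ⟨x, hx⟩, _⟩ = _
  rw [MulAut.mul_apply]
  refine Eq.trans ?_ (hχe (g x) (by rw [← he x hx]; exact ext_maps hP hI hψ he _))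
  exact congrArg χ (Subtype.ext (he x hx))

theorem ext_inv [Finite S] (hP : P ≤ S) (hI : Inn P ≤ A) (hA : A ≤ autInducedBy S P)
    (h1 : ExtTo D P A g) : ExtTo D P (cj g A) g⁻¹ := by
  obtain ⟨ψ, hψ, he⟩ := h1
  obtain ⟨ψi, hψi, hψie, -, -⟩ := exists_inv_imgOf D hψ
  have hPA := self_le_pre hP hI
  have hcent : ∀ c ∈ centralizerIn S P, c ∈ ψ.range := by
    intro c hc
    obtain ⟨x, hx, rfl⟩ := exists_preimage_of_card_le D hψ (cent_le_pre (A := A)) (centralizerIn_le _ _)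
      (fun u hu => ⟨hom_apply_mem D hψ _, Subgroup.mem_centralizer_iff.2 fun q hq => by
        obtain ⟨y, hy⟩ := g.surjective ⟨q, hq⟩
        have e : q = ψ ⟨y, hPA y.2⟩ := (congrArg Subtype.val hy).symm.trans (he y _).symm
        rw [e, ← map_mul, ← map_mul]
        exact congrArg ψ (Subtype.ext (Subgroup.mem_centralizer_iff.1 hu.2 y y.2))⟩) le_rfl c hc
    exact ⟨_, rfl⟩
  have hle : pre S P (cj g A) ≤ ψ.range := by
    rintro s ⟨hsS, a', ha', ha'e⟩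
    obtain ⟨s₀, hs₀, hs₀e⟩ := exists_pre hA (mem_cj.1 ha')
    have hd : (ψ ⟨s₀, hs₀⟩)⁻¹ * s ∈ centralizerIn S P := by
      refine ⟨S.mul_mem (S.inv_mem (hom_apply_mem D hψ _)) hsS, Subgroup.mem_centralizer_iff.2 fun q hq => ?_⟩
      obtain ⟨y, hy⟩ := g.surjective ⟨q, hq⟩
      have e : q = ψ ⟨y, hPA y.2⟩ := (congrArg Subtype.val hy).symm.trans (he y _).symm
      have e1 : ((a' (g y) : P) : Ω) = ψ ⟨s₀, hs₀⟩ * q * (ψ ⟨s₀, hs₀⟩)⁻¹ := by
        rw [e, ← map_inv, ← map_mul, ← map_mul]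
        have e2 : a' (g y) = g ((g⁻¹ * a' * g) y) := by
          rw [MulAut.mul_apply, MulAut.mul_apply, MulAut.apply_inv_self]
        rw [e2, ← he _ (hPA ((g⁻¹ * a' * g) y).2)]
        exact congrArg ψ (Subtype.ext (hs₀e y))
      rw [ha'e, hy] at e1
      calc q * ((ψ ⟨s₀, hs₀⟩)⁻¹ * s) = (ψ ⟨s₀, hs₀⟩)⁻¹ * (ψ ⟨s₀, hs₀⟩ * q * (ψ ⟨s₀, hs₀⟩)⁻¹) * s := by group
        _ = (ψ ⟨s₀, hs₀⟩)⁻¹ * (s * q * s⁻¹) * s := by rw [e1]
        _ = _ := by group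
    have := ψ.range.mul_mem ⟨⟨s₀, hs₀⟩, rfl⟩ (hcent _ hd)
    rwa [mul_inv_cancel_left] at this
  refine ⟨_, restrict_mem D hψi hle, fun x hx => ?_⟩
  show ψi ⟨x, hle hx⟩ = _
  have e : (x : Ω) = ψ ⟨(g⁻¹ x : P), hPA (g⁻¹ x).2⟩ := by rw [he, MulAut.apply_inv_self]
  exact (apply_congr ψi e (hle hx) ⟨_, rfl⟩).trans (hψie _ _)

variable {p : ℕ} [hp : Fact p.Prime] [Finite S]

/-- The criterion for a subgroup to be fully automized and receptive. -/
theorem satClass_of_ext (hP : P ≤ S) (hgood : ∀ U, D.IsConj P U → Arrow D U P)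
    (hsyl : IsSyl p (autInducedBy S P) (D.autGroup P))
    (hall : ∀ (A : Subgroup (MulAut P)) (g : MulAut P), Inn P ≤ A → A ≤ autInducedBy S P → g ∈ D.autGroup P →
      cj g A ≤ autInducedBy S P → ExtTo D P A g) : SatClass D p P := by
  haveI := finite_of_le hP
  refine ⟨P, isConj_refl D hP, fullyAutomized_of_isSyl_aut hP hsyl, hP, fun U φ hφ hr => ?_⟩
  have hPU : D.IsConj P U := isConj_symm ⟨φ, hφ, hr⟩
  obtain ⟨χ, hχ, hχP⟩ := hgood U hPU
  have hUS := hom_le D hφ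
  have hUN : U ≤ normalizerIn S U := le_normalizerIn hUS
  set e₁ := mapEquiv D (restrict_mem D hχ hUN) ((range_restrict χ hUN).trans hχP) with he₁
  set e₂ := mapEquiv D hφ hr with he₂
  have he₁s := mapEquiv_symm_mem D (restrict_mem D hχ hUN) ((range_restrict χ hUN).trans hχP)
  have he₂m : P.subtype.comp e₂.toMonoidHom ∈ D.Hom U := hom_congr D hφ fun _ => rfl
  set g : MulAut P := e₁.symm.trans e₂ with hgdef
  have hg : g ∈ D.autGroup P :=
    (mem_autGroup_iff D hP g).2 (hom_congr D (D.comp_mem he₁s he₂m fun x => (e₁.symm x).2) fun _ => rfl)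
  set W := autInducedBy S P with hW
  set A : Subgroup (MulAut P) := W ⊓ cj g⁻¹ W with hA
  have hI : Inn P ≤ A := fun a ha => ⟨inn_le_autInducedBy hP ha, mem_cj.2 (by
    rw [inv_inv]; exact inn_le_autInducedBy hP (conj_mem_inn g ha))⟩
  have hgA : cj g A ≤ W := fun a ha => by
    have h1 := mem_cj.1 (mem_cj.1 ha).2
    simpa [mul_assoc] using h1
  obtain ⟨ψ, hψ, hψe⟩ := hall A g hI inf_le_left hg hgA
  have hEN : extender S U φ ≤ normalizerIn S U := extender_le_normalizerIn φ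
  have hExt : ∀ t (ht : t ∈ extender S U φ), χ ⟨t, hEN ht⟩ ∈ pre S P A := by
    intro t ht
    obtain ⟨htn, h, hh, hhe⟩ := exists_of_mem_extender ht
    set d := χ ⟨t, hEN ht⟩ with hd
    have hdN : d ∈ normalizerIn S P := hχP ▸ imgOf_mem_normalizer D hχ hUN ⟨t, hEN ht⟩ htn
    obtain ⟨cd, hcd, hcde⟩ := exists_conjAut (K := S) (P := P) hdN.1 hdN.2
    refine ⟨hdN.1, cd, ⟨hcd, mem_cj.2 ?_⟩, hcde⟩
    rw [inv_inv]
    refine (mem_autInducedBy_iff _).2 ⟨h, hh, fun x => ?_⟩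
    obtain ⟨z, rfl⟩ := e₂.surjective x
    have hz : t * (z : Ω) * t⁻¹ ∈ U := (Subgroup.mem_normalizer_iff.1 htn _).1 z.2
    have e3 : (g⁻¹ (e₂ z) : P) = e₁ z := by
      apply g.injective
      rw [MulAut.apply_inv_self]
      exact (congrArg e₂ (e₁.symm_apply_apply z)).symm
    have e4 : cd (e₁ z) = e₁ ⟨_, hz⟩ := Subtype.ext <|
      (hcde _).trans (map_apply_conj χ (hEN ht) (hUN z.2) (hUN hz)).symm
    rw [MulAut.mul_apply, MulAut.mul_apply, e3, e4]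
    exact (congrArg (fun w => ((e₂ w : P) : Ω)) (e₁.symm_apply_apply ⟨_, hz⟩)).trans (hhe z hz)
  refine ⟨_, D.comp_mem (restrict_mem D hχ hEN) hψ fun y => hExt y y.2, fun x hxU hxN => ?_⟩
  show ψ ⟨χ ⟨x, hEN hxN⟩, _⟩ = _
  have hxP : χ ⟨x, hUN hxU⟩ ∈ P := hχP.le ⟨_, hxU, rfl⟩
  refine (hψe ⟨_, hxP⟩ (hExt x hxN)).trans ?_
  show ((e₂ (e₁.symm (e₁ ⟨x, hxU⟩)) : P) : Ω) = _
  rw [MulEquiv.symm_apply_apply]
  rfl

end Cfsg.Agent.RelProd
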