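import Cfsg.Agent.Lib.RelProd.Induction
import Cfsg.Agent.Lib.RelProd.Criterion
import Cfsg.Agent.Lib.FusionMeet.Main
import Cfsg.Agent.S5251

/-!
# Saturation of the relative product system on covering subgroups
-/

set_option autoImplicit false
set_option linter.unusedSectionVars false
set_option linter.style.haveILetI false

namespace Cfsg.Agent.RelProd

open Cfsg Cfsg.FusionSystem Cfsg.Agent.FusionSys Cfsg.Agent.FusionSys.FocCent
  Cfsg.Agent.FusionSys.KerClass Cfsg.Agent.FusionMeet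

variable {Ω : Type*} [Group Ω] {S T R : Subgroup Ω} {p : ℕ} [hp : Fact p.Prime] [Finite S]
variable {F : FusionSystem S} {E : FusionSystem T}

/-- The automizers of covering subgroups are normal in those of `F`. -/
theorem conj_mem_relSys (C : Data p F E R) {P : Subgroup Ω} (hP : Mem T R P) {a b : MulAut P}
    (ha : a ∈ F.autGroup P) (hb : b ∈ (relSys C).autGroup P) : a * b * a⁻¹ ∈ (relSys C).autGroup P :=
  congr_mem_of_frattini (relSys_autInvariant C) hP.1 a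
    (relSys_frattini C hP ((equivHom_autGroup F (hP.1.trans C.le)).1 ha) ((equivHom_range a).le.trans hP.1)) hb

/-- A nice `T`-centric subgroup is fully automized. -/
theorem relSys_fullyAutomized (C : Data p F E R) {Q : Subgroup Ω} (hQ : RNice F R Q)
    (hQc : Hc F E R Q) : IsSyl p (autInducedBy R Q) ((relSys C).autGroup Q) := by
  have hQn := hQ.fn C
  haveI := finite_of_le hQn.1
  haveI : Finite ↥R := finite_of_le (S := S) C.le
  have hsub := autGroup_mono (relSys_sub C) Q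
  have hn : F.autGroup Q ≤ Subgroup.normalizer ((relSys C).autGroup Q : Set (MulAut Q)) := fun a ha =>
    mem_normalizer_of_conj_mem_finite fun b hb => conj_mem_relSys C hQc.1 ha hb
  have h := (isSyl_of_fullyAutomized (fullyNormalized_imp C.pg C.sat hQn).2).inf_normal hsub hn
  have e : autInducedBy S Q ⊓ (relSys C).autGroup Q = autInducedBy R Q := by
    refine le_antisymm (fun x hx => ?_) (le_inf (autInducedBy_mono C.le) (autInducedBy_le_autGroup _ hQ.le))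
    obtain ⟨s, hs, hse⟩ := (mem_autInducedBy_iff _).1 hx.1
    obtain ⟨c, hc, hce⟩ := exists_conjAut (K := S) (P := R) hs (C.normalizer_le hQc.1 hs (mem_normalizer_of_autInduced hse))
    have hcF := autInducedBy_le_autGroup F C.le hc
    have hcd : c ∈ dRes C hQ.le := (mem_dRes_iff C hQ.le).2 ⟨hcF,
      hom_congr _ ((mem_autGroup_iff _ hQ.le x).1 hx.2) fun q => (hce ⟨(q : Ω), hQ.le q.2⟩).trans (hse q).symm⟩
    obtain ⟨s', hs', c', k, hk, hc'e, hck⟩ := mem_gGroup C (dRes_le_gGroup C Q hQ hQc hcd)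
    have hc'S : c' ∈ autInducedBy S R := (mem_autInducedBy_iff _).2 ⟨s', hs'.1, hc'e⟩
    have hkS : k ∈ autInducedBy S R := by
      have := Subgroup.mul_mem _ (Subgroup.inv_mem _ hc'S) hc
      rwa [hck, inv_mul_cancel_left] at this
    obtain ⟨t, ht, hte⟩ := (mem_autInducedBy_iff _).1
      (bGroup_inf_autS C (hc_self C) C.fnR hk hkS)
    refine (mem_autInducedBy_iff _).2 ⟨t, ht, fun q => ?_⟩
    have h1 : ((c ⟨(q : Ω), hQ.le q.2⟩ : ↥R) : Ω) = (x q : Q) := (hce _).trans (hse q).symm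
    rw [hck, MulAut.mul_apply, hc'e] at h1
    rw [← hte ⟨(q : Ω), hQ.le q.2⟩]
    set w := ((k ⟨(q : Ω), hQ.le q.2⟩ : ↥R) : Ω)
    have h2 := Subgroup.mem_centralizer_iff.1 hs'.2 _ (x q).2
    calc ((x q : Q) : Ω) = s'⁻¹ * (s' * ((x q : Q) : Ω)) := by group
      _ = s'⁻¹ * (((x q : Q) : Ω) * s') := by rw [h2]
      _ = s'⁻¹ * (s' * w * s'⁻¹ * s') := by rw [h1]
      _ = w := by group
  rwa [e] at h

/-- A nice `T`-centric subgroup is receptive. -/
theorem relSys_receptive (C : Data p F E R) {Q : Subgroup Ω} (hQ : RNice F R Q)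
    (hQc : Hc F E R Q) : (relSys C).IsReceptive Q := by
  refine ⟨hQ.le, fun U φ hφ hr => ?_⟩
  obtain ⟨ψ, hψ, hψe⟩ := (fullyNormalized_receptive C.pg C.sat (hQ.fn C)).2 U φ (relSys_sub C U hφ) hr
  have hle : extender R U φ ≤ extender S U φ := Subgroup.closure_mono fun g hg => by
    obtain ⟨h1, h2, h, hh, he⟩ := hg
    exact ⟨C.le h1, h2, h, C.le hh, he⟩
  have hNT : extender R U φ ≤ R := (extender_le_normalizerIn φ).trans (normalizerIn_le _ _)
  have hRN : U ≤ extender R U φ := le_extender (relSys C) hφ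
  have hUm : Mem T R U := C.mem_conj hQc.1 (isConj_symm ⟨φ, relSys_sub C U hφ, hr⟩) (hom_le _ hφ)
  obtain ⟨α, hα⟩ := exists_cls C (hUm.mono hRN hNT) (restrict_mem F hψ hle) (by
    rintro _ ⟨x, rfl⟩
    refine C.apply_mem hψ (hRN.trans hle) hUm (fun u => ?_) (hNT x.2)
    rw [show ψ (Subgroup.inclusion (hRN.trans hle) u) = φ u from hψe u u.2 _]
    exact hom_apply_mem _ hφ u)
  obtain ⟨hαF, d, hd, hde⟩ := id hα
  have hR := hom_le (relSys C) hφ
  have hα' : Cls F (relSys C) U φ α :=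
    (hα.restrict hRN).congr fun x => (hψe x x.2 (hle (hRN x.2))).symm
  have h1 : α ∈ dRes C hR := by
    have := cls_unique C hR (relSys_sub C U hφ) hα' (cls_of_mem hφ)
    rwa [inv_one, one_mul] at this
  have h2 : α ∈ dRes C hQ.le := by
    have := dRes_transport C hR hQ.le (mapEquiv (relSys C) hφ hr) (a := α) (hα'.congr fun _ => rfl) h1
    rwa [mul_inv_cancel_right] at this
  obtain ⟨s, hs, c, k, hk, hce, hck⟩ := mem_gGroup C (dRes_le_gGroup C Q hQ hQc h2)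
  rw [← relSys_autGroup_top C] at hk
  have hkh := (mem_autGroup_iff _ le_rfl k).1 hk
  refine ⟨_, (relSys C).comp_mem hd hkh fun x => hom_apply_mem _ hd x, fun x hxR hxN => ?_⟩
  show ((k ⟨d ⟨x, hxN⟩, _⟩ : ↥R) : Ω) = φ ⟨x, hxR⟩
  have h3 : φ ⟨x, hxR⟩ = ((α ⟨d ⟨x, hxN⟩, hom_apply_mem _ hd ⟨x, hxN⟩⟩ : ↥R) : Ω) :=
    (hψe x hxR (hle hxN)).symm.trans (hde ⟨x, hxN⟩)
  rw [hck, MulAut.mul_apply, hce] at h3
  set w := ((k ⟨d ⟨x, hxN⟩, hom_apply_mem _ hd ⟨x, hxN⟩⟩ : ↥R) : Ω)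
  have hφQ : φ ⟨x, hxR⟩ ∈ Q := hr.le ⟨_, rfl⟩
  have h4 := Subgroup.mem_centralizer_iff.1 hs.2 _ hφQ
  calc w = s⁻¹ * (s * w * s⁻¹ * s) := by group
    _ = s⁻¹ * (φ ⟨x, hxR⟩ * s) := by rw [← h3]
    _ = s⁻¹ * (s * φ ⟨x, hxR⟩) := by rw [h4]
    _ = φ ⟨x, hxR⟩ := by group

/-- Classes in the family contain fully automized receptive members. -/
theorem satClass_hc (C : Data p F E R) {P : Subgroup Ω} (hP : Hc F E R P) : SatClass (relSys C) p P := by
  haveI : Finite R := finite_of_le (S := S) C.le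
  have hTp : IsPGroup p R := C.pg.to_le C.le
  obtain ⟨Q₀, hQ₀, θ, hθ, hθr⟩ := exists_rnice C hP.1
  obtain ⟨α, hα, φ₀, hφ₀, hθe⟩ := relSys_frattini C hP.1 hθ (hθr.le.trans hQ₀.le)
  have hQ₀c : Hc F E R Q₀ := hP.of_conj C ⟨θ, hθ, hθr⟩ hQ₀.le
  have h0 := hom_apply_mem (relSys C) hφ₀
  set Q := φ₀.range with hQdef
  have hQT : Q ≤ R := range_le _ hφ₀
  have himg : (Q.subgroupOf R).map (R.subtype.comp α.toMonoidHom) = Q₀ := by
    rw [← hθr]
    ext y
    constructor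
    · rintro ⟨⟨_, hu⟩, ⟨x, rfl⟩, rfl⟩
      exact ⟨x, hθe x hu⟩
    · rintro ⟨x, rfl⟩
      exact ⟨⟨φ₀ x, h0 x⟩, ⟨x, rfl⟩, (hθe x _).symm⟩
  refine ⟨Q, ⟨φ₀, hφ₀, rfl⟩, ?_, receptive_translate C.le (relSys_autInvariant C) hα hQT
    (himg ▸ relSys_receptive C hQ₀ hQ₀c)⟩
  have hαh := (mem_autGroup_iff F C.le α).1 hα
  have hαQ : ((R.subtype.comp α.toMonoidHom).comp (Subgroup.inclusion hQT)).range = Q₀ := by
    rw [range_restrict, himg]
  set e := mapEquiv F (restrict_mem F hαh hQT) hαQ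
  have heF : equivHom e ∈ F.Hom Q := equivHom_mapEquiv F _ hαQ
  have heF' := equivHom_symm_mem F e heF
  haveI := finite_of_le (hQT.trans C.le)
  refine fullyAutomized_of_isSyl_aut hQT ?_
  have h := relSys_fullyAutomized C hQ₀ hQ₀c
  have hA : (autInducedBy R Q).map (MulAut.congr e).toMonoidHom = autInducedBy R Q₀ := by
    ext β
    constructor
    · rintro ⟨a, ha, rfl⟩
      obtain ⟨t, ht, hte⟩ := (mem_autInducedBy_iff _).1 ha
      refine (mem_autInducedBy_iff _).2 ⟨(α ⟨t, ht⟩ : ↥R), (α _).2, fun y => ?_⟩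
      obtain ⟨u, rfl⟩ := e.surjective y
      rw [MulEquiv.coe_toMonoidHom, congr_apply, e.symm_apply_apply]
      show ((α ⟨((a u : Q) : Ω), hQT (a u).2⟩ : ↥R) : Ω) =
        (α ⟨t, ht⟩ : ↥R) * (α ⟨(u : Ω), hQT u.2⟩ : ↥R) * ((α ⟨t, ht⟩ : ↥R) : Ω)⁻¹
      rw [← Subgroup.coe_inv, ← Subgroup.coe_mul, ← Subgroup.coe_mul, ← map_inv, ← map_mul, ← map_mul]
      exact congrArg (fun z : ↥R => ((α z : ↥R) : Ω)) (Subtype.ext (hte u))
    · intro hβ
      obtain ⟨t, ht, hte⟩ := (mem_autInducedBy_iff _).1 hβ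
      refine ⟨MulAut.congr e.symm β, (mem_autInducedBy_iff _).2 ⟨(α.symm ⟨t, ht⟩ : ↥R), (α.symm _).2, fun u => ?_⟩, ?_⟩
      · rw [congr_apply, e.symm_symm]
        have h1 : (⟨((e.symm (β (e u)) : Q) : Ω), hQT (e.symm (β (e u))).2⟩ : ↥R) =
            α.symm ⟨t, ht⟩ * ⟨(u : Ω), hQT u.2⟩ * (α.symm ⟨t, ht⟩)⁻¹ := by
          apply α.injective
          rw [map_mul, map_mul, map_inv, α.apply_symm_apply]
          refine Subtype.ext ?_
          show ((e (e.symm (β (e u))) : Q₀) : Ω) = t * ((e u : Q₀) : Ω) * t⁻¹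
          rw [e.apply_symm_apply]
          exact hte (e u)
        exact congrArg Subtype.val h1
      · ext y
        simp [congr_apply]
  have hD : ((relSys C).autGroup Q).map (MulAut.congr e).toMonoidHom = (relSys C).autGroup Q₀ := by
    refine le_antisymm ?_ fun β hβ => ⟨MulAut.congr e.symm β, congr_mem_of_frattini (relSys_autInvariant C) hQT
      e.symm (relSys_frattini C hQ₀c.1 heF' ((equivHom_range e.symm).le.trans hQT)) hβ, ?_⟩
    · rintro _ ⟨a, ha, rfl⟩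
      exact congr_mem_of_frattini (relSys_autInvariant C) hQ₀.le e (relSys_frattini C (C.mem_conj hP.1 ⟨φ₀, relSys_sub C P hφ₀, rfl⟩ hQT) heF ((equivHom_range e).le.trans hQ₀.le)) ha
    · ext y
      simp [congr_apply]
  rw [← hA, ← hD] at h
  refine ⟨autInducedBy_le_autGroup _ hQT, autInducedBy_isPGroup hTp, ?_⟩
  have h2 := h.2.2
  rwa [Subgroup.relIndex_map_map_of_injective _ _ (MulAut.congr e).injective] at h2

/-- Every covering class contains a fully automized receptive member. -/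
theorem satClass_mem (C : Data p F E R) {P : Subgroup Ω} (hP : Mem T R P) : SatClass (relSys C) p P := by
  haveI : Finite R := finite_of_le (S := S) C.le
  have hTp : IsPGroup p R := C.pg.to_le C.le
  induction hk : Nat.card R - Nat.card P using Nat.strong_induction_on generalizing P with
  | _ k ih =>
  by_cases hPc : Hc F E R P
  · exact satClass_hc C hPc
  obtain ⟨a, hPa, ha⟩ := exists_fullyNormalized (relSys C) hP.1
  have hPaF : F.IsConj P a := by
    obtain ⟨φ, hφ, hr⟩ := hPa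
    exact ⟨φ, relSys_sub C P hφ, hr⟩
  have ham : Mem T R a := C.mem_conj hP hPaF ha.1
  have hac : ¬ Hc F E R a := fun h => hPc (h.of_conj C (isConj_symm hPaF) hP.1)
  have hlarge : ∀ U ≤ R, (∃ b ≤ U, (relSys C).IsConj a b) → Nat.card a < Nat.card U →
      SatClass (relSys C) p U := by
    rintro U hU ⟨b, hbU, φ, hφ, hr⟩ hlt
    refine ih _ ?_ ((C.mem_conj ham ⟨φ, relSys_sub C a hφ, hr⟩ (hbU.trans hU)).mono hbU hU) rfl
    have := Subgroup.card_le_of_le hU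
    have := isConj_card hPa
    omega
  refine (satClass_of_larger hTp hlarge ha {U | Hc F E R U}
    (fun U hU V hV => hU.of_conj C (by
      obtain ⟨φ, hφ, hr⟩ := hV
      exact ⟨φ, relSys_sub C U hφ, hr⟩) (isConj_le_right hV))
    (fun Y hY => relSys_min (fun U hU x hx => (mem_autGroup_iff Y hU.le x).2
      (hY U hU ((mem_autGroup_iff _ hU.le x).1 (genClosed_relSys C U hU x hx)))))
    hac (hc_self C) fun hcen => ?_).imp fun Q h => ⟨isConj_trans hPa h.1, h.2⟩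
  -- a fully normalized conjugate and an outer element centralizing its intersection with `T`
  obtain ⟨Q₀, haQ₀, hQ₀R, hQ₀⟩ := C.exists_fn ham
  have hQ₀m : Mem T R Q₀ := C.mem_conj ham haQ₀ hQ₀R
  have hnc : ¬ E.IsCentric (Q₀ ⊓ T) := by
    intro hc
    refine hac (Hc.of_conj C ⟨hQ₀m, hc, fun Q' hQ' hQ'R y hy => ?_⟩ (isConj_symm haQ₀) ham.1)
    obtain ⟨θ, hθ, hθr⟩ := isConj_trans haQ₀ hQ'
    obtain ⟨α, hα, φ₀, hφ₀, hθe⟩ := relSys_frattini C ham hθ (hθr.le.trans hQ'R)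
    have h0 := hom_apply_mem (relSys C) hφ₀
    set y' : R := α⁻¹ ⟨y, hy.1⟩ with hy'
    have hαy : α y' = ⟨y, hy.1⟩ := MulAut.apply_inv_self _ _ _
    have h3 : (y' : Ω) ∈ centralizerIn R φ₀.range := ⟨y'.2, Subgroup.mem_centralizer_iff.2 (by
      rintro _ ⟨x, rfl⟩
      have h4 := Subgroup.mem_centralizer_iff.1 hy.2 _ (hθr.le ⟨x, rfl⟩)
      have h5 : α (⟨φ₀ x, h0 x⟩ * y') = α (y' * ⟨φ₀ x, h0 x⟩) := Subtype.ext (by
        rw [map_mul, map_mul, hαy, Subgroup.coe_mul, Subgroup.coe_mul, ← hθe x (h0 x)]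
        exact h4)
      exact congrArg Subtype.val (α.injective h5))⟩
    obtain ⟨x, hx⟩ := hcen.2 _ ⟨φ₀, hφ₀, rfl⟩ h3
    refine hθr.le ⟨x, ?_⟩
    rw [hθe x (h0 x), show (⟨φ₀ x, h0 x⟩ : R) = y' from Subtype.ext hx, hαy]
  obtain ⟨w, hwT, hwQ, hwn, hw0⟩ := exists_outer C hQ₀m hQ₀ hnc
  obtain ⟨θ, hθ, hθr⟩ := haQ₀
  obtain ⟨α, hα, φ₀, hφ₀, hθe⟩ := relSys_frattini C ham hθ (hθr.le.trans hQ₀R)
  have h0 := hom_apply_mem (relSys C) hφ₀
  set Q := φ₀.range with hQdef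
  have hQR : Q ≤ R := range_le _ hφ₀
  refine ⟨Q, ⟨φ₀, hφ₀, rfl⟩, fun hle => ?_⟩
  have hαh : ∀ x : R, (x : Ω) ∈ T → ((α x : R) : Ω) ∈ T := fun x hx =>
    stronglyClosed_apply_mem C.closed ((mem_autGroup_iff F C.le α).1 hα) x hx
  have hαh' : ∀ x : R, (x : Ω) ∈ T → ((α⁻¹ x : R) : Ω) ∈ T := fun x hx =>
    stronglyClosed_apply_mem C.closed ((mem_autGroup_iff F C.le α⁻¹).1 (Subgroup.inv_mem _ hα)) x hx
  have himg : ∀ x : R, (x : Ω) ∈ Q ↔ ((α x : R) : Ω) ∈ Q₀ := by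
    intro x
    constructor
    · rintro ⟨u, hu⟩
      rw [show x = ⟨φ₀ u, h0 u⟩ from Subtype.ext hu.symm, ← hθe u (h0 u)]
      exact hθr.le ⟨u, rfl⟩
    · intro hx
      obtain ⟨u, hu⟩ := hθr.ge hx
      rw [hθe u (h0 u)] at hu
      exact ⟨u, congrArg Subtype.val (α.injective (Subtype.ext hu))⟩
  set w' : R := α⁻¹ ⟨w, C.leT hwT⟩ with hw'def
  have hαw : α w' = ⟨w, C.leT hwT⟩ := MulAut.apply_inv_self _ _ _
  have hw'T : (w' : Ω) ∈ T := hαh' _ hwT
  haveI := finite_of_le (hQR.trans C.le)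
  have hw'n : (w' : Ω) ∈ Subgroup.normalizer (Q : Set Ω) := by
    refine mem_normalizer_of_conj_mem_finite fun y hy => (himg (w' * ⟨y, hQR hy⟩ * w'⁻¹)).2 ?_
    rw [map_mul, map_mul, map_inv, hαw, Subgroup.coe_mul, Subgroup.coe_mul, Subgroup.coe_inv]
    exact (Subgroup.mem_normalizer_iff.1 hwn _).1 ((himg ⟨y, hQR hy⟩).1 hy)
  have hw'Q : (w' : Ω) ∉ Q := fun h => hwQ (by
    have := (himg w').1 h
    rwa [hαw] at this)
  have hw'c : ∀ y : Q, (y : Ω) ∈ T → (w' : Ω) * y * (w' : Ω)⁻¹ = y := by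
    intro y hy
    have h6 : α (⟨y, hQR y.2⟩ * w') = α (w' * ⟨y, hQR y.2⟩) := Subtype.ext (by
      rw [map_mul, map_mul, hαw, Subgroup.coe_mul, Subgroup.coe_mul]
      exact hw0 _ ⟨(himg ⟨y, hQR y.2⟩).1 y.2, hαh _ hy⟩)
    have h7 : (y : Ω) * w' = w' * y := congrArg Subtype.val (α.injective h6)
    rw [← h7, mul_inv_cancel_right]
  obtain ⟨cw, hcw, hcwe⟩ := exists_conjAut (K := R) (P := Q) w'.2 hw'n
  have hcwA : cw ∈ (relSys C).autGroup Q := autInducedBy_le_autGroup _ hQR hcw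
  have hTR : (relSys C).StronglyClosed T :=
    ⟨C.leT, fun U hU φ hφ x => C.closed.2 U hU φ (relSys_sub C U hφ) x⟩
  have hO := Cfsg.Agent.S5251.stab_mem_pCore hTp hTR hQR ⟨cw, hcwA⟩ (fun y => by
      rw [hcwe]
      have h1 := (Subgroup.mem_normalizer_iff.1
        (stronglyClosed_le_normalizer C.closed (S.inv_mem (C.le (hQR y.2)))) _).1 hw'T
      have := T.mul_mem h1 (T.inv_mem hw'T)
      simpa [mul_assoc] using this) fun y hy => Subtype.ext ((hcwe y).trans (hw'c y hy))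
  exact hw'Q (mem_of_conj_mem_inn (F := relSys C) (hcen.2 Q ⟨φ₀, hφ₀, rfl⟩) w'.2 hQR hcwe
    (hle ⟨hcw, ⟨⟨cw, hcwA⟩, hO, rfl⟩⟩))

end Cfsg.Agent.RelProd
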