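import Cfsg.Agent.Lib.RelProd.SEBig
import Cfsg.Agent.Lib.RelProd.Sat

/-!
# Saturation of `seSys`

The system is generated by the maps on big subgroups, and the criterion applies to the other ones.
-/

set_option autoImplicit false
set_option linter.unusedSectionVars false
set_option linter.style.haveILetI false

namespace Cfsg.Agent.RelProd

open Cfsg Cfsg.FusionSystem Cfsg.Agent.FusionSys Cfsg.Agent.FusionSys.FocCent
  Cfsg.Agent.FusionSys.KerClass Cfsg.Agent.FusionSys.LayerCore Cfsg.Agent.FusionMeet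

variable {Ω : Type*} [Group Ω] {S T : Subgroup Ω} {p : ℕ} [hp : Fact p.Prime] [Finite S]
variable {F : FusionSystem S} {E : FusionSystem T}

/-- An element of order prime to `p` of `gAut` below its normalized centralizer comes from larger maps. -/
theorem gen_of_large (hS : IsPGroup p S) (hE : E.IsNormalIn F p) {X : FusionSystem S} {Q : Subgroup Ω} (hQS : Q ≤ S)
    (hQc : E.IsCentric (Q ⊓ T)) (hR : (seSys p F E).IsReceptive (Q ⊓ T))
    (hC : ¬ centralizerIn S (Q ⊓ T) ≤ Q)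
    (hbig : ∀ (R : Subgroup Ω) (φ : R →* Ω), φ ∈ (seSys p F E).Hom R → Nat.card Q < Nat.card R → φ ∈ X.Hom R)
    {x : MulAut Q} (hx : SGen p F E Q x) : x ∈ X.autGroup Q := by
  obtain ⟨hEs, hF, hsub, hT, hAI, hfr⟩ := id hE.1
  have hTn := stronglyClosed_le_normalizer hT
  haveI := finite_of_le hQS
  set C := centralizerIn S (Q ⊓ T) with hCdef
  have hCS : C ≤ S := centralizerIn_le _ _
  have hQn : ∀ q ∈ Q, q ∈ Subgroup.normalizer ((Q ⊓ T : Subgroup Ω) : Set Ω) := fun q hq =>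
    Subgroup.inf_normalizer_le_normalizer_inf ⟨Subgroup.le_normalizer hq, hTn (hQS hq)⟩
  have hxD := sClosed_seSys Q hQS x hx
  have hxh := (mem_autGroup_iff _ hQS x).1 hxD
  obtain ⟨x₀, hx₀, hx₀e⟩ := exists_rel (seSys p F E) (inf_le_left : Q ⊓ T ≤ Q) hQS hxD fun y hy =>
    ⟨(x y).2, stronglyClosed_apply_mem (seSys_closed hT) hxh y hy.2⟩
  haveI := finite_of_le ((inf_le_left : Q ⊓ T ≤ Q).trans hQS)
  obtain ⟨ψ, hψ, hψe⟩ := hR.2 (Q ⊓ T) _ ((equivHom_autGroup _ (inf_le_left.trans hQS)).1 hx₀) (equivHom_range x₀)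
  have hv0 : ∀ u : ↥(Q ⊓ T), ((x₀ u : ↥(Q ⊓ T)) : Ω) = ((x ⟨u, u.2.1⟩ : Q) : Ω) := fun u => (hx₀e.apply u).symm
  have hMle : Q ⊔ C ≤ extender S (Q ⊓ T) (equivHom x₀) := by
    refine sup_le (fun q hq => ?_) (centralizerIn_le_extender _)
    refine Subgroup.subset_closure ⟨hQS hq, hQn q hq, (x ⟨q, hq⟩ : Q), hQS (x _).2, fun u hu => ?_⟩
    rw [equivHom_apply, equivHom_apply, hv0, hv0, ← Subgroup.coe_inv, ← Subgroup.coe_mul, ← Subgroup.coe_mul,
      ← map_inv, ← map_mul, ← map_mul]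
    rfl
  have hψM := restrict_mem _ hψ hMle
  set M := Q ⊔ C with hM
  have hMS : M ≤ S := sup_le hQS hCS
  haveI := finite_of_le hMS
  have hQM : Q ≤ M := le_sup_left
  have hCM : C ≤ M := le_sup_right
  set φ := ψ.comp (Subgroup.inclusion hMle) with hφdef
  have hφ0 : ∀ (u : ↥(Q ⊓ T)) (h : (u : Ω) ∈ M), φ ⟨u, h⟩ = ((x₀ u : ↥(Q ⊓ T)) : Ω) := fun u h =>
    hψe u u.2 (hMle h)
  have hcomm : ∀ (m : M) (v : Ω), (∀ u : ↥(Q ⊓ T), φ m * ((x₀ u : ↥(Q ⊓ T)) : Ω) * (φ m)⁻¹ =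
      v * ((x₀ u : ↥(Q ⊓ T)) : Ω) * v⁻¹) → v ∈ S → v⁻¹ * φ m ∈ C := by
    intro m v hv hvS
    refine ⟨S.mul_mem (S.inv_mem hvS) (hom_apply_mem _ hψM m), Subgroup.mem_centralizer_iff.2 fun z hz => ?_⟩
    obtain ⟨u, hu⟩ := x₀.surjective ⟨z, hz⟩
    have e := hv u
    rw [hu] at e
    calc z * (v⁻¹ * φ m) = v⁻¹ * (v * z * v⁻¹) * φ m := by group
      _ = v⁻¹ * (φ m * z * (φ m)⁻¹) * φ m := by rw [← e]
      _ = _ := by group
  have hφC : ∀ (c : Ω) (hc : c ∈ C), φ ⟨c, hCM hc⟩ ∈ C := by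
    intro c hc
    have := hcomm ⟨c, hCM hc⟩ 1 (fun u => by
      have hu : (u : Ω) ∈ M := hQM u.2.1
      rw [← hφ0 u hu, one_mul, inv_one, mul_one, ← map_inv, ← map_mul, ← map_mul]
      refine congrArg φ (Subtype.ext ?_)
      show c * (u : Ω) * c⁻¹ = u
      rw [← Subgroup.mem_centralizer_iff.1 hc.2 u u.2, mul_inv_cancel_right]) S.one_mem
    rwa [inv_one, one_mul] at this
  have hφQ : ∀ (q : Ω) (hq : q ∈ Q), ((x ⟨q, hq⟩ : Q) : Ω)⁻¹ * φ ⟨q, hQM hq⟩ ∈ C := by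
    intro q hq
    refine hcomm _ _ (fun u => ?_) (hQS (x _).2)
    have hw : q * (u : Ω) * q⁻¹ ∈ Q ⊓ T := (Subgroup.mem_normalizer_iff.1 (hQn q hq) _).1 u.2
    have e1 := hφ0 ⟨_, hw⟩ (hQM hw.1)
    rw [map_apply_conj φ (hQM hq) (hQM u.2.1), hφ0, hv0 ⟨_, hw⟩] at e1
    rw [e1, hv0, ← Subgroup.coe_inv, ← Subgroup.coe_mul, ← Subgroup.coe_mul, ← map_inv, ← map_mul, ← map_mul]
    rfl
  have hinv : ∀ m : M, φ m ∈ M := by
    have h : Q ⊔ C ≤ ((M.comap φ)).map M.subtype := sup_le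
      (fun q hq => ⟨⟨q, hQM hq⟩, by
        have := M.mul_mem (hQM (x ⟨q, hq⟩).2) (hCM (hφQ q hq))
        rwa [mul_inv_cancel_left] at this, rfl⟩)
      fun c hc => ⟨⟨c, hCM hc⟩, hCM (hφC c hc), rfl⟩
    intro m
    obtain ⟨m', hm', he⟩ := h m.2
    rwa [show m = m' from Subtype.ext he.symm]
  obtain ⟨ξ, hξ, hξe⟩ := exists_aut_of_invariant _ hψM hinv
  have hξ0 : Rel ((inf_le_left : Q ⊓ T ≤ Q).trans hQM) ξ x₀ := fun u => Subtype.ext ((hξe _).trans (hφ0 u _))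
  have hco₀ : (orderOf x₀).Coprime p := hx.2.1.coprime_dvd_left (rel_orderOf_dvd hx₀e)
  obtain ⟨n, hn, hne⟩ := exists_pprime_exp p ξ x₀ hco₀
  set η := ξ ^ n with hη
  have hη0 : Rel ((inf_le_left : Q ⊓ T ≤ Q).trans hQM) η x₀ := by rw [← hne]; exact hξ0.pow n
  have hηD : η ∈ (seSys p F E).autGroup M := Subgroup.pow_mem _ hξ n
  have hηh := (mem_autGroup_iff _ hMS η).1 hηD
  have hηT := (seSys_pprime hS hE hMS hηD hn).1.2
  have hηQ : ∀ (q : Ω) (hq : q ∈ Q), ((η ⟨q, hQM hq⟩ : M) : Ω) ∈ Q := by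
    intro q hq
    set y := x ⟨q, hq⟩ with hy
    have h1 : ((y : Q) : Ω)⁻¹ * ((η ⟨q, hQM hq⟩ : M) : Ω) ∈ T := by
      have := T.mul_mem (T.inv_mem (hx.2.2.1.2 ⟨q, hq⟩)) (hηT ⟨q, hQM hq⟩)
      simpa [mul_assoc] using this
    have h2 : ((y : Q) : Ω)⁻¹ * ((η ⟨q, hQM hq⟩ : M) : Ω) ∈ Q ⊓ T := by
      refine mem_of_centralizes hQc h1 fun z hz => ?_
      obtain ⟨u, hu⟩ := x₀.surjective ⟨z, hz⟩
      have hw : q * (u : Ω) * q⁻¹ ∈ Q ⊓ T := (Subgroup.mem_normalizer_iff.1 (hQn q hq) _).1 u.2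
      have e1 : ((η (⟨q, hQM hq⟩ * ⟨u, hQM u.2.1⟩ * ⟨q, hQM hq⟩⁻¹) : M) : Ω) =
          ((x₀ ⟨_, hw⟩ : ↥(Q ⊓ T)) : Ω) := hη0.apply ⟨_, hw⟩
      rw [map_mul, map_mul, map_inv, Subgroup.coe_mul, Subgroup.coe_mul, Subgroup.coe_inv, hη0.apply u, hu,
        hv0 ⟨_, hw⟩] at e1
      have e2 : ((x ⟨q * (u : Ω) * q⁻¹, hw.1⟩ : Q) : Ω) = (y : Ω) * z * (y : Ω)⁻¹ := by
        rw [show (⟨q * (u : Ω) * q⁻¹, hw.1⟩ : Q) = ⟨q, hq⟩ * ⟨u, u.2.1⟩ * ⟨q, hq⟩⁻¹ from Subtype.ext rfl, map_mul,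
          map_mul, map_inv, Subgroup.coe_mul, Subgroup.coe_mul, Subgroup.coe_inv, ← hv0 u, hu]
      rw [e2] at e1
      set m := ((η ⟨q, hQM hq⟩ : M) : Ω)
      change m * z * m⁻¹ = (y : Ω) * z * (y : Ω)⁻¹ at e1
      calc z * ((y : Ω)⁻¹ * m) = (y : Ω)⁻¹ * ((y : Ω) * z * (y : Ω)⁻¹) * m := by group
        _ = (y : Ω)⁻¹ * (m * z * m⁻¹) * m := by rw [e1]
        _ = _ := by group
    have := Q.mul_mem y.2 h2.1
    rwa [mul_inv_cancel_left] at this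
  obtain ⟨ζ, hζ, hζe⟩ := exists_rel (seSys p F E) hQM hMS hηD fun y hy => hηQ y hy
  have hζg : ζ ∈ gAut F E Q := seSys_pprime hS hE hQS hζ (hn.coprime_dvd_left (rel_orderOf_dvd hζe))
  have hζop : ζ ∈ opOf p (gAut F E Q) := mem_opOf hζg (hn.coprime_dvd_left (rel_orderOf_dvd hζe))
  obtain ⟨z, hz⟩ := fix_mem_inn hS hE hQS hQc (k := x⁻¹ * ζ)
    (Subgroup.mem_sup_left (Subgroup.mul_mem _ (Subgroup.inv_mem _ (mem_opOf hx.2.2 hx.2.1)) hζop))
    fun u hu => by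
      rw [MulAut.mul_apply]
      refine x.injective ?_
      rw [MulAut.apply_inv_self]
      exact Subtype.ext ((hζe.apply u).symm.trans ((hη0.apply ⟨(u : Ω), u.2, hu⟩).trans (hv0 ⟨(u : Ω), u.2, hu⟩)))
  have hlt : Nat.card Q < Nat.card M := Cfsg.Agent.FusionSys.card_lt_of_lt
    (lt_of_le_of_ne hQM fun he => hC (le_sup_right.trans he.ge))
  have hηX := (mem_autGroup_iff X hMS η).2 (hbig M _ hηh hlt)
  have hζX : ζ ∈ X.autGroup Q := (mem_autGroup_iff X hQS ζ).2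
    (hom_congr X (restrict_mem X ((mem_autGroup_iff X hMS η).1 hηX) hQM) fun y => (hζe.apply y).symm)
  have hzX : x⁻¹ * ζ ∈ X.autGroup Q := by
    rw [← hz]; exact inn_le_autGroup X hQS ⟨z, rfl⟩
  have := Subgroup.mul_mem _ hζX (Subgroup.inv_mem _ hzX)
  rwa [mul_inv_rev, inv_inv, ← mul_assoc, mul_inv_cancel, one_mul] at this

/-- The system is generated by the maps on big subgroups. -/
theorem seSys_gen_big (hS : IsPGroup p S) (hE : E.IsNormalIn F p) (X : FusionSystem S)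
    (hX : ∀ P, Big p F E P → (seSys p F E).Hom P ⊆ X.Hom P) : seSys p F E ≤ X := by
  obtain ⟨hEs, hF, hsub, hT, hAI, hfr⟩ := id hE.1
  have hTn := stronglyClosed_le_normalizer hT
  suffices h : SClosed p F E X from fun P φ hφ => hφ.2 X h
  intro P
  induction hk : Nat.card S - Nat.card P using Nat.strong_induction_on generalizing P with
  | _ n ih =>
  intro hP x hx
  have hxD := sClosed_seSys P hP x hx
  by_cases hb : Big p F E P
  · exact (mem_autGroup_iff X hP x).2 (hX P hb ((mem_autGroup_iff _ hP x).1 hxD))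
  -- the elements at larger subgroups
  have hXbig : ∀ U ≤ S, ∀ u : MulAut U, SGen p F E U u → Nat.card P < Nat.card U → u ∈ X.autGroup U := by
    intro U hU u hu hlt
    refine ih _ ?_ U rfl hU u hu
    have : Nat.card U ≤ Nat.card S := Subgroup.card_le_of_le hU
    omega
  have key : (∀ (R : Subgroup Ω) (φ : R →* Ω), φ ∈ (seSys p F E).Hom R → Nat.card P < Nat.card R → φ ∈ X.Hom R) ∧
      ∀ P' Q, (seSys p F E).IsConj P' Q → Nat.card P' = Nat.card P →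
        ∃ μ, μ ∈ (seSys p F E).Hom P' ∧ μ ∈ X.Hom P' ∧ μ.range = Q := by
    let Z : FusionSystem S :=
      { Hom := fun R => {φ | φ ∈ (seSys p F E).Hom R ∧
          (∀ a (ha : a ≤ R), Nat.card P < Nat.card a → φ.comp (Subgroup.inclusion ha) ∈ X.Hom a) ∧
          ∀ a ≤ R, Nat.card a = Nat.card P →
            ∃ μ, μ ∈ (seSys p F E).Hom a ∧ μ ∈ X.Hom a ∧ μ.range = imgOf φ a}
        le_of_mem := fun h => F.le_of_mem (seSys_sub _ h.1)
        injective_of_mem := fun h => F.injective_of_mem (seSys_sub _ h.1)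
        conj_mem := fun {R g} hR hg => ⟨(seSys p F E).conj_mem hR hg,
          fun a ha _ => restrict_mem X (X.conj_mem hR hg) ha, fun a ha _ =>
            ⟨_, restrict_mem _ ((seSys p F E).conj_mem hR hg) ha, restrict_mem X (X.conj_mem hR hg) ha,
              range_restrict _ ha⟩⟩
        comp_mem := by
          rintro R U φ ψ ⟨hφ, h1, h2⟩ ⟨hψ, h3, h4⟩ h
          have himg : ∀ a, imgOf φ a ≤ U := fun a => by
            rintro _ ⟨y, -, rfl⟩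
            exact h y
          refine ⟨(seSys p F E).comp_mem hφ hψ h, fun a ha hlt => ?_, fun a ha hca => ?_⟩
          · have hv : ∀ y : a, (φ.comp (Subgroup.inclusion ha)) y ∈ imgOf φ a := fun y => ⟨_, y.2, rfl⟩
            exact hom_congr X (X.comp_mem (h1 a ha hlt) (h3 _ (himg a) ((card_imgOf _ hφ ha).symm ▸ hlt)) hv)
              fun y => rfl
          · obtain ⟨μ, hμ, hμX, hμr⟩ := h2 a ha hca
            obtain ⟨ν, hν, hνX, hνr⟩ := h4 _ (himg a) ((card_imgOf _ hφ ha).trans hca)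
            have hv : ∀ y, μ y ∈ imgOf φ a := fun y => hμr.le ⟨y, rfl⟩
            refine ⟨_, (seSys p F E).comp_mem hμ hν hv, X.comp_mem hμX hνX hv, ?_⟩
            rw [range_comp_of_range _ _ _ hμr, hνr, imgOf_comp]
        inv_mem := by
          rintro R φ ⟨hφ, h1, h2⟩
          obtain ⟨ψ, hψ, he, -, hψimg⟩ := exists_inv_imgOf _ hφ
          refine ⟨ψ, ⟨hψ, fun c hc hlt => ?_, fun c hc hcc => ?_⟩, fun y => he y _⟩
          · obtain ⟨a, ha, rfl⟩ := exists_preimg φ hc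
            obtain ⟨χ, hχ, hχe, -, -⟩ := exists_inv_imgOf X (h1 a ha ((card_imgOf _ hφ ha) ▸ hlt))
            refine hom_congr X (restrict_mem X hχ (range_restrict φ ha).ge) fun y => ?_
            obtain ⟨_, z, hz, rfl⟩ := y
            exact (he z ⟨z, rfl⟩).trans (hχe ⟨(z : Ω), hz⟩ _).symm
          · obtain ⟨a, ha, rfl⟩ := exists_preimg φ hc
            obtain ⟨μ, hμ, hμX, hμr⟩ := h2 a ha ((card_imgOf _ hφ ha).symm.trans hcc)
            obtain ⟨μi, hμi, hμie, hμir, -⟩ := exists_inv_imgOf _ hμ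
            obtain ⟨μj, hμj, hμje, -, -⟩ := exists_inv_imgOf X hμX
            refine ⟨_, restrict_mem _ hμi hμr.ge, restrict_mem X (hom_congr X hμj fun y => ?_) hμr.ge, ?_⟩
            · obtain ⟨_, z, rfl⟩ := y
              exact (hμie z _).trans (hμje z _).symm
            · rw [hψimg a ha]
              refine le_antisymm (fun y hy => ?_) fun y hy => ?_
              · obtain ⟨z, rfl⟩ := hy
                exact hμir.le ⟨_, rfl⟩
              · exact ⟨⟨μ ⟨y, hy⟩, hμr.le ⟨_, rfl⟩⟩, hμie ⟨y, hy⟩ _⟩ }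
    have hDZ : seSys p F E ≤ Z := fun R φ hφ => hφ.2 Z fun U hU u hu => by
      have huD := sClosed_seSys U hU u hu
      have huh := (mem_autGroup_iff _ hU u).1 huD
      haveI := finite_of_le hU
      refine (mem_autGroup_iff Z hU u).2 ⟨huh, fun a ha hlt => ?_, fun a ha hca => ?_⟩
      · exact restrict_mem X ((mem_autGroup_iff X hU u).1
          (hXbig U hU u hu (lt_of_lt_of_le hlt (Subgroup.card_le_of_le ha)))) ha
      · rcases eq_or_lt_of_le ha with he | hlt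
        · subst he
          refine ⟨a.subtype, subtype_mem _ hU, subtype_mem X hU, ?_⟩
          rw [Subgroup.range_subtype, imgOf_self, MonoidHom.range_comp, MonoidHom.range_eq_top.2 u.surjective,
            ← MonoidHom.range_eq_map, Subgroup.range_subtype]
        · exact ⟨_, restrict_mem _ huh ha, restrict_mem X ((mem_autGroup_iff X hU u).1
            (hXbig U hU u hu (hca ▸ Cfsg.Agent.FusionSys.card_lt_of_lt hlt))) ha, range_restrict _ ha⟩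
    refine ⟨fun R φ hφ hlt => hom_congr X ((hDZ R hφ).2.1 R le_rfl hlt) fun y => rfl, fun P' Q hPQ hc => ?_⟩
    obtain ⟨φ, hφ, rfl⟩ := hPQ
    obtain ⟨μ, hμ, hμX, hμr⟩ := (hDZ P' hφ).2.2 P' le_rfl hc
    exact ⟨μ, hμ, hμX, hμr.trans (imgOf_self φ)⟩
  obtain ⟨Q, hPQ, hQC⟩ : ∃ Q, (seSys p F E).IsConj P Q ∧ ¬ centralizerIn S (Q ⊓ T) ≤ Q := by
    by_contra hne
    exact hb ⟨hP, hx.1, fun Q hQ => not_not.1 fun h => hne ⟨Q, hQ, h⟩⟩
  have hQS : Q ≤ S := isConj_le_right hPQ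
  haveI := finite_of_le hQS
  have hQc : E.IsCentric (Q ⊓ T) := centric_of_conj hE.1.2.2 hx.1 (isConj_inf hT (seSys_conj hPQ))
  obtain ⟨Q₀, hQQ₀, hA₀, hR₀⟩ := satClass_centric hS hE (Q ⊓ T) inf_le_right hQc
  obtain ⟨χ, hχ, hχQ⟩ := arrow_of_sat hS hA₀ hR₀ hQQ₀
  have hN : Q ⊔ centralizerIn S (Q ⊓ T) ≤ normalizerIn S (Q ⊓ T) := sup_le
    (fun q hq => ⟨hQS hq, Subgroup.inf_normalizer_le_normalizer_inf ⟨Subgroup.le_normalizer hq, hTn (hQS hq)⟩⟩)
    (centralizerIn_le_normalizerIn S _)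
  have hQN : Q ≤ normalizerIn S (Q ⊓ T) := le_sup_left.trans hN
  have hltN : Nat.card P < Nat.card (normalizerIn S (Q ⊓ T)) := by
    haveI := finite_of_le (normalizerIn_le S (Q ⊓ T))
    rw [isConj_card hPQ]
    exact Cfsg.Agent.FusionSys.card_lt_of_lt (lt_of_le_of_ne hQN fun he => hQC ((le_sup_right.trans hN).trans he.ge))
  set Q' := imgOf χ Q with hQ'
  have hQQ' : (seSys p F E).IsConj Q Q' := isConj_imgOf _ hχ hQN
  have hQ'T : Q' ⊓ T = Q₀ := by rw [hQ', ← imgOf_inf (seSys_closed hT) hχ hQN, hχQ]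
  have hQ'C : ¬ centralizerIn S (Q' ⊓ T) ≤ Q' := by
    intro h
    refine hQC fun c hc => ?_
    have hcN : c ∈ normalizerIn S (Q ⊓ T) := centralizerIn_le_normalizerIn S _ hc
    refine (apply_mem_imgOf_iff _ hχ ⟨c, hcN⟩ (a := Q)).1 (h ⟨hom_apply_mem _ hχ _, ?_⟩)
    have hle : Q ⊓ T ≤ normalizerIn S (Q ⊓ T) := le_normalizerIn (inf_le_left.trans hQS)
    rw [hQ'T]
    exact apply_mem_centralizer χ hle ((range_restrict χ hle).trans hχQ) ⟨c, hcN⟩ hc.2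
  obtain ⟨μ, hμ, hμX, hμr⟩ := key.2 P Q' (isConj_trans hPQ hQQ') rfl
  set e := mapEquiv (seSys p F E) hμ hμr with he
  have heD : equivHom e ∈ (seSys p F E).Hom P := equivHom_mapEquiv _ _ _
  have heX : equivHom e ∈ X.Hom P := hom_congr X hμX fun _ => rfl
  have hQ'S : Q' ≤ S := isConj_le_right hQQ'
  have hQ'c : E.IsCentric (Q' ⊓ T) := centric_of_conj hE.1.2.2 hQc (isConj_inf hT (seSys_conj hQQ'))
  have hx' : SGen p F E Q' (MulAut.congr e x) :=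
    ⟨hQ'c, by rw [MulEquiv.orderOf_eq]; exact hx.2.1, congr_mem_gAut hE.1.2.2 (seSys_sub _ heD) hx.2.2⟩
  have h1 : MulAut.congr e x ∈ X.autGroup Q' := gen_of_large hS hE hQ'S hQ'c (hQ'T.symm ▸ hR₀) hQ'C
    (fun R φ hφ hlt => key.1 R φ hφ (by rwa [isConj_card (isConj_trans hPQ hQQ')])) hx'
  have heX' : equivHom e.symm ∈ X.Hom Q' := equivHom_symm_mem X e heX
  have h2 := congr_mem_autGroup X e.symm heX' (by rwa [MulEquiv.symm_symm]) h1
  rwa [show MulAut.congr e.symm (MulAut.congr e x) = x from MulEquiv.ext fun y => by simp [congr_apply]] at h2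

/-- The system `X` seen on `R` through an isomorphism. -/
def pullSys (F X : FusionSystem S) {R : Subgroup Ω} (hR : R ≤ S) {ωi : R →* Ω} (hω : ωi ∈ F.Hom R) :
    FusionSystem R where
  Hom U := {φ | φ ∈ (inSys F hR).Hom U ∧ ∃ χ ∈ X.Hom (imgOf ωi U), ∀ (x : U) (h : (x : Ω) ∈ R)
    (h' : ωi ⟨x, h⟩ ∈ imgOf ωi U) (h'' : φ x ∈ R), χ ⟨ωi ⟨x, h⟩, h'⟩ = ωi ⟨φ x, h''⟩}
  le_of_mem h := (inSys F hR).le_of_mem h.1
  injective_of_mem h := F.injective_of_mem h.1.1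
  conj_mem {U g} hU hg := by
    refine ⟨(inSys F hR).conj_mem hU hg, _, X.conj_mem (imgOf_le F hω) (hom_apply_mem F hω ⟨g, hg⟩),
      fun x h h' h'' => ?_⟩
    show ωi ⟨g, hg⟩ * ωi ⟨x, h⟩ * (ωi ⟨g, hg⟩)⁻¹ = _
    rw [← map_inv, ← map_mul, ← map_mul]
    rfl
  comp_mem {U V φ ψ} := by
    rintro ⟨hφ, χ, hχ, hχe⟩ ⟨hψ, χ', hχ', hχe'⟩ h
    have hv : ∀ y, χ y ∈ imgOf ωi V := by
      rintro ⟨_, z, hz, rfl⟩
      rw [hχe ⟨(z : Ω), hz⟩ z.2 ⟨z, hz, rfl⟩ (hφ.2.2 _)]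
      exact ⟨⟨φ ⟨z, hz⟩, hφ.2.2 _⟩, h _, rfl⟩
    refine ⟨(inSys F hR).comp_mem hφ hψ h, _, X.comp_mem hχ hχ' hv, fun x h1 h2 h3 => ?_⟩
    show χ' ⟨χ _, hv _⟩ = _
    refine Eq.trans (apply_congr χ' (hχe x h1 h2 (hφ.2.2 x)) (hv _) ⟨⟨φ x, hφ.2.2 x⟩, h x, rfl⟩) ?_
    exact hχe' ⟨φ x, h x⟩ (hφ.2.2 x) _ h3
  inv_mem {U φ} := by
    rintro ⟨hφ, χ, hχ, hχe⟩
    obtain ⟨ψ, hψ, hψe⟩ := (inSys F hR).inv_mem hφ
    obtain ⟨χi, hχi, hχie, -, -⟩ := exists_inv_imgOf X hχ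
    have hle : imgOf ωi φ.range ≤ χ.range := by
      rintro _ ⟨z, ⟨x, hx⟩, rfl⟩
      refine ⟨⟨ωi ⟨x, hφ.2.1 x.2⟩, ⟨_, x.2, rfl⟩⟩, ?_⟩
      exact (hχe x (hφ.2.1 x.2) _ (hφ.2.2 x)).trans (congrArg ωi (Subtype.ext hx))
    refine ⟨ψ, ⟨hψ, _, restrict_mem X hχi hle, fun y h1 h2 h3 => ?_⟩, hψe⟩
    obtain ⟨_, x, rfl⟩ := y
    show χi ⟨ωi ⟨φ x, h1⟩, _⟩ = _
    refine Eq.trans (apply_congr χi (hχe x (hφ.2.1 x.2) ⟨_, x.2, rfl⟩ h1).symm _ ⟨_, rfl⟩) ?_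
    exact (hχie _ _).trans (congrArg ωi (Subtype.ext (hψe x).symm))

/-- Below a non-centric intersection some conjugate is normalized by an outer element centralizing it. -/
theorem exists_outer_conj (hS : IsPGroup p S) (hE : E.IsNormalIn F p) {P : Subgroup Ω} (hP : P ≤ S)
    (hnc : ¬ E.IsCentric (P ⊓ T)) :
    ∃ Q, (seSys p F E).IsConj P Q ∧ ∃ w ∈ T, w ∉ Q ∧ w ∈ Subgroup.normalizer (Q : Set Ω) ∧
      ∀ y ∈ Q ⊓ T, y * w = w * y := by
  obtain ⟨hEs, hF, hsub, hT, hAI, hfr⟩ := id hE.1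
  have hR'S : P ⊔ T ≤ S := sup_le hP hT.1
  obtain ⟨R, hR'R, hRn⟩ := exists_fullyNormalized F hR'S
  obtain ⟨ω, hω, hωr⟩ := hR'R
  have hPR' : P ≤ P ⊔ T := le_sup_left
  have hTR : T ≤ R := fun t ht => by
    obtain ⟨s, hs, hse⟩ := exists_preimage_stronglyClosed hT hω le_sup_right ht
    exact hωr.le ⟨⟨s, _⟩, hse⟩
  have C : Data p F E R := ⟨hS, hF, hE, hTR, hRn⟩
  haveI := finite_of_le C.le
  obtain ⟨ωi₀, hωi₀, hωie₀, hωir₀, hωimg₀⟩ := exists_inv_imgOf F hω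
  set ωi := ωi₀.comp (Subgroup.inclusion hωr.ge) with hωidef
  have hωi : ωi ∈ F.Hom R := restrict_mem F hωi₀ hωr.ge
  set P₁ := imgOf ω P with hP₁
  have hP₁R : P₁ ≤ R := (imgOf_le_range ω).trans hωr.le
  have hP₁P : imgOf ωi P₁ = P := by
    rw [← hωimg₀ P hPR']
    exact imgOf_congr hP₁R (hP₁R.trans hωr.ge) fun _ _ => rfl
  have hP₁m : Mem T R P₁ := by
    refine ⟨hP₁R, fun y hy => ?_⟩
    obtain ⟨x, rfl⟩ := hωr.ge hy
    exact apply_mem_of_sup ω (fun u => Subgroup.mem_sup_left (⟨_, u.2, rfl⟩ : ω _ ∈ P₁))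
      (fun u => Subgroup.mem_sup_right (stronglyClosed_apply_mem hT hω _ u.2)) x
  have hPP₁ : F.IsConj P P₁ := isConj_imgOf F hω hPR'
  obtain ⟨Q₁, hP₁Q₁, hQ₁R, hQ₁⟩ := C.exists_fn hP₁m
  have hQ₁m := C.mem_conj hP₁m hP₁Q₁ hQ₁R
  have hnc₁ : ¬ E.IsCentric (Q₁ ⊓ T) := fun h => hnc (centric_of_conj hE.1.2.2 h
    (isConj_symm (isConj_inf hT (isConj_trans hPP₁ hP₁Q₁))))
  obtain ⟨w, hwT, hwQ, hwn, hw0⟩ := exists_outer C hQ₁m hQ₁ hnc₁
  obtain ⟨θ, hθ, hθr⟩ := hP₁Q₁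
  obtain ⟨α, hα, φ₀, hφ₀, hθe⟩ := relSys_frattini C hP₁m hθ (hθr.le.trans hQ₁R)
  have h0 := hom_apply_mem (relSys C) hφ₀
  -- the relative system maps into `seSys`
  have hgen : GenClosed p F E (pullSys F (seSys p F E) C.le hωi) := by
    intro U hU x hx
    have hUR := hU.le
    have hUS := hUR.trans C.le
    set e : U ≃* imgOf ωi U := mapEquiv F (restrict_mem F hωi hUR) (range_restrict ωi hUR) with he
    have hem : equivHom e ∈ F.Hom U := equivHom_mapEquiv F _ _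
    have hAS : imgOf ωi U ≤ S := imgOf_le F hωi
    have hgen : SGen p F E (imgOf ωi U) (MulAut.congr e x) :=
      ⟨centric_of_conj hE.1.2.2 hU.2.1 (isConj_inf hT (isConj_imgOf F hωi hUR)),
        by rw [MulEquiv.orderOf_eq]; exact hx.1, congr_mem_gAut hE.1.2.2 hem hx.2⟩
    refine (mem_autGroup_iff _ hUR x).2 ⟨⟨(mem_autGroup_iff F hUS x).1 (gen_mem_autGroup hx), hUR,
      fun y => hUR (x y).2⟩, _, (mem_autGroup_iff _ hAS _).1 (sClosed_seSys _ hAS _ hgen),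
      fun y h h' h'' => ?_⟩
    show ((MulAut.congr e x ⟨ωi ⟨y, h⟩, h'⟩ : imgOf ωi U) : Ω) = _
    rw [show (⟨ωi ⟨y, h⟩, h'⟩ : imgOf ωi U) = e y from rfl, congr_apply, e.symm_apply_apply]
    rfl
  obtain ⟨-, χ, hχ, hχe⟩ := relSys_min hgen P₁ hφ₀
  -- transport along `κ`
  have hκF := F.comp_mem ((mem_autGroup_iff F C.le α⁻¹).1 (Subgroup.inv_mem _ hα)) hωi fun y => (α⁻¹ y).2
  set κ := ωi.comp ((R.subtype.comp (α⁻¹ : MulAut R).toMonoidHom).codRestrict R fun y => (α⁻¹ y).2) with hκ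
  have hκe : ∀ (u : P₁) (h : θ u ∈ R), κ ⟨θ u, h⟩ = ωi ⟨φ₀ u, h0 u⟩ := fun u h => by
    refine congrArg ωi (Subtype.ext ?_)
    show ((α⁻¹ ⟨θ u, h⟩ : R) : Ω) = φ₀ u
    rw [show (⟨θ u, h⟩ : R) = α ⟨φ₀ u, h0 u⟩ from Subtype.ext (hθe u (h0 u)), MulAut.inv_apply_self]
  have hmemP : ∀ u : P₁, ωi ⟨u, hP₁R u.2⟩ ∈ imgOf ωi P₁ := fun u => ⟨⟨u, hP₁R u.2⟩, u.2, rfl⟩
  have hχr : χ.range = imgOf κ Q₁ := by
    apply le_antisymm
    · rintro _ ⟨⟨_, z, hz, rfl⟩, rfl⟩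
      have hθz : θ ⟨z, hz⟩ ∈ Q₁ := hθr.le ⟨_, rfl⟩
      exact ⟨⟨θ ⟨z, hz⟩, hQ₁R hθz⟩, hθz,
        (hκe _ _).trans (hχe ⟨(z : Ω), hz⟩ z.2 ⟨z, hz, rfl⟩ (h0 _)).symm⟩
    · rintro _ ⟨⟨z, hzR⟩, hz, rfl⟩
      obtain ⟨u, rfl⟩ := hθr.ge hz
      exact ⟨⟨ωi ⟨u, hP₁R u.2⟩, hmemP u⟩, (hχe u (hP₁R u.2) (hmemP u) (h0 u)).trans (hκe u hzR).symm⟩
  have hPQ : (seSys p F E).IsConj P (imgOf κ Q₁) := by
    have : (seSys p F E).IsConj (imgOf ωi P₁) (imgOf κ Q₁) := ⟨χ, hχ, hχr⟩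
    rwa [hP₁P] at this
  refine ⟨_, hPQ, κ ⟨w, hTR hwT⟩, stronglyClosed_apply_mem hT hκF _ hwT,
    fun h => hwQ ((apply_mem_imgOf_iff F hκF _).1 h), (imgOf_mem_normalizer F hκF hQ₁R ⟨w, hTR hwT⟩ hwn).2,
    fun y hy => ?_⟩
  rw [← imgOf_inf hT hκF hQ₁R] at hy
  obtain ⟨z, hz, rfl⟩ := hy
  rw [← map_mul, ← map_mul]
  exact congrArg κ (Subtype.ext (hw0 z hz))

/-- The system is saturated. -/
theorem seSys_saturated (hS : IsPGroup p S) (hE : E.IsNormalIn F p) : (seSys p F E).IsSaturated p := by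
  obtain ⟨hEs, hF, hsub, hT, hAI, hfr⟩ := id hE.1
  have hTn := stronglyClosed_le_normalizer hT
  have hDT : (seSys p F E).StronglyClosed T := seSys_closed hT
  suffices h : ∀ P ≤ S, SatClass (seSys p F E) p P from h
  intro P₀
  induction hk : Nat.card S - Nat.card P₀ using Nat.strong_induction_on generalizing P₀ with
  | _ k ih =>
  intro hP₀
  have hsat₀ : ∀ R ≤ S, Nat.card P₀ < Nat.card R → SatClass (seSys p F E) p R := fun R hR hlt => by
    refine ih _ ?_ R rfl hR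
    have : Nat.card R ≤ Nat.card S := Subgroup.card_le_of_le hR
    omega
  by_cases hb : Big p F E P₀
  · exact satClass_big hS hE hb hsat₀
  obtain ⟨P, hP₀P, hP⟩ := exists_fullyNormalized (seSys p F E) hP₀
  have hPb : ¬ Big p F E P := fun h => hb (big_conj hE h (isConj_symm hP₀P))
  refine (satClass_of_larger hS (fun R hR _ hlt => hsat₀ R hR ((isConj_card hP₀P).symm ▸ hlt)) hP
    {U | Big p F E U} (fun U hU V hV => big_conj hE hU hV) (fun X hX => seSys_gen_big hS hE X hX) hPb (big_top hE)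
    fun hcen => ?_).imp fun Q h => ⟨isConj_trans hP₀P h.1, h.2⟩
  -- conjugation by an element fixing the intersection with `T`
  suffices h : ∃ Q, (seSys p F E).IsConj P Q ∧ ∃ c ∈ S, c ∉ Q ∧ c ∈ Subgroup.normalizer (Q : Set Ω) ∧
      (∀ y ∈ Q ⊓ T, y * c = c * y) ∧
      ((E.IsCentric (Q ⊓ T)) ∨ ∀ y ∈ Q, (y : Ω)⁻¹ * (c * y * c⁻¹) ∈ T) by
    obtain ⟨Q, hPQ, c, hcS, hcQ, hcn, hc0, hor⟩ := h
    refine ⟨Q, hPQ, fun hle => ?_⟩
    have hQS : Q ≤ S := isConj_le_right hPQ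
    haveI := finite_of_le hQS
    obtain ⟨cc, hcc, hcce⟩ := exists_conjAut (K := S) (P := Q) hcS hcn
    have hccD := autInducedBy_le_autGroup (seSys p F E) hQS hcc
    have hfix : ∀ y : Q, (y : Ω) ∈ T → cc y = y := fun y hy => Subtype.ext (by
      rw [hcce, ← hc0 y ⟨y.2, hy⟩, mul_inv_cancel_right])
    have hO : (⟨cc, hccD⟩ : (seSys p F E).autGroup Q) ∈ pCore p ((seSys p F E).autGroup Q) := by
      rcases hor with hQc | hmod
      · -- the kernel of the restriction to `Q ∩ T`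
        let K : Subgroup ((seSys p F E).autGroup Q) :=
          { carrier := {a | ∀ y : Q, (y : Ω) ∈ T → (a : MulAut Q) y = y}
            one_mem' := fun y _ => rfl
            mul_mem' := fun {a b} ha hb y hy => by
              show (a : MulAut Q) ((b : MulAut Q) y) = y
              rw [hb y hy, ha y hy]
            inv_mem' := fun {a} ha y hy => by
              show (a : MulAut Q)⁻¹ y = y
              conv_lhs => rw [← ha y hy]
              rw [MulAut.inv_apply_self] }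
        have hinv : ∀ g : (seSys p F E).autGroup Q, ∀ y : Q, (y : Ω) ∈ T → (((g : MulAut Q) y : Q) : Ω) ∈ T :=
          fun g y hy => stronglyClosed_autGroup_mem hDT hQS g.2 y hy
        have hKn : K.Normal := ⟨fun a ha g y hy => by
          show (g : MulAut Q) ((a : MulAut Q) ((g : MulAut Q)⁻¹ y)) = y
          have h4 : (((g : MulAut Q)⁻¹ y : Q) : Ω) ∈ T := hinv g⁻¹ y hy
          rw [ha _ h4, MulAut.apply_inv_self]⟩
        have hKp : IsPGroup p K := by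
          intro a
          obtain ⟨j, m, hm, hjm⟩ := Nat.exists_eq_pow_mul_and_not_dvd (orderOf_pos a).ne' p hp.out.ne_one
          refine ⟨j, ?_⟩
          set b := a ^ p ^ j with hbdef
          have hbm : b ^ m = 1 := by rw [hbdef, ← pow_mul, ← hjm, pow_orderOf_eq_one]
          set β : MulAut Q := ((b : (seSys p F E).autGroup Q) : MulAut Q) with hβ
          have hco : (orderOf β).Coprime p :=
            ((hp.out.coprime_iff_not_dvd.2 hm).symm).coprime_dvd_left (orderOf_dvd_of_pow_eq_one (by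
              rw [hβ, ← SubmonoidClass.coe_pow, ← SubmonoidClass.coe_pow, hbm]; rfl))
          obtain ⟨z, hz⟩ := fix_mem_inn hS hE hQS hQc (k := β)
            (Subgroup.mem_sup_left (mem_opOf (seSys_pprime hS hE hQS (b : (seSys p F E).autGroup Q).2 hco) hco))
            fun y hy => b.2 y hy
          have hβ1 : β = 1 := by
            obtain ⟨i, hi⟩ := (hS.to_le hQS) z
            refine orderOf_eq_one_iff.1 (Nat.eq_one_of_dvd_coprimes (hco.pow_right i) dvd_rfl ?_)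
            exact orderOf_dvd_of_pow_eq_one (by rw [← hz, ← map_pow, hi, map_one])
          exact Subtype.ext (Subtype.ext hβ1)
        exact Cfsg.Agent.PBasic.le_pCore hKn hKp (show (⟨cc, hccD⟩ : (seSys p F E).autGroup Q) ∈ K from hfix)
      · exact Cfsg.Agent.S5251.stab_mem_pCore hS hDT hQS ⟨cc, hccD⟩
          (fun y => by rw [hcce]; exact hmod y y.2) hfix
    exact hcQ (mem_of_conj_mem_inn (F := seSys p F E) (hcen.2 Q hPQ) hcS hQS hcce
      (hle ⟨hcc, ⟨⟨cc, hccD⟩, hO, rfl⟩⟩))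
  by_cases hc : E.IsCentric (P ⊓ T)
  · obtain ⟨Q, hPQ, hQC⟩ : ∃ Q, (seSys p F E).IsConj P Q ∧ ¬ centralizerIn S (Q ⊓ T) ≤ Q := by
      by_contra hne
      exact hPb ⟨hP.1, hc, fun Q hQ => not_not.1 fun h => hne ⟨Q, hQ, h⟩⟩
    have hQS : Q ≤ S := isConj_le_right hPQ
    haveI := finite_of_le hQS
    set C := centralizerIn S (Q ⊓ T) with hC
    have hn : Q ≤ Subgroup.normalizer (C : Set Ω) := fun q hq => by
      haveI := finite_of_le (centralizerIn_le S (Q ⊓ T))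
      refine mem_normalizer_of_conj_mem_finite fun c hc' =>
        ⟨S.mul_mem (S.mul_mem (hQS hq) hc'.1) (S.inv_mem (hQS hq)), Subgroup.mem_centralizer_iff.2 fun u hu => ?_⟩
      have hu' : q⁻¹ * u * q ∈ Q ⊓ T := by
        simpa using (Subgroup.mem_normalizer_iff.1 (Subgroup.inv_mem _ (Subgroup.inf_normalizer_le_normalizer_inf
          ⟨Subgroup.le_normalizer hq, hTn (hQS hq)⟩)) u).1 hu
      calc u * (q * c * q⁻¹) = q * (q⁻¹ * u * q * c) * q⁻¹ := by group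
        _ = q * (c * (q⁻¹ * u * q)) * q⁻¹ := by rw [Subgroup.mem_centralizer_iff.1 hc'.2 _ hu']
        _ = q * c * q⁻¹ * u := by group
    have hKS : Q ⊔ C ≤ S := sup_le hQS (centralizerIn_le _ _)
    haveI := finite_of_le hKS
    obtain ⟨y, hy, hyQ⟩ := SetLike.exists_of_lt (lt_normalizerIn (hS.to_le hKS)
      (lt_of_le_of_ne le_sup_left fun he => hQC (le_sup_right.trans he.ge) : Q < Q ⊔ C))
    have hy' : y ∈ Q ⊔ C := hy.1
    rw [← SetLike.mem_coe, Subgroup.coe_mul_of_left_le_normalizer_right _ _ hn] at hy'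
    obtain ⟨q, hq, c, hcC, rfl⟩ := hy'
    refine ⟨Q, hPQ, c, hcC.1, fun h => hyQ (Q.mul_mem hq h), ?_,
      fun z hz => Subgroup.mem_centralizer_iff.1 hcC.2 z hz,
      Or.inl (centric_of_conj hE.1.2.2 hc (isConj_inf hT (seSys_conj hPQ)))⟩
    have := Subgroup.mul_mem _ (Subgroup.inv_mem _ (Subgroup.le_normalizer hq)) hy.2
    simpa using this
  · obtain ⟨Q, hPQ, w, hwT, hwQ, hwn, hw0⟩ := exists_outer_conj hS hE hP.1 hc
    refine ⟨Q, hPQ, w, hT.1 hwT, hwQ, hwn, hw0, Or.inr fun y hy => ?_⟩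
    have h1 := (Subgroup.mem_normalizer_iff.1 (hTn (S.inv_mem (isConj_le_right hPQ hy))) w).1 hwT
    have := T.mul_mem h1 (T.inv_mem hwT)
    simpa [mul_assoc] using this

end Cfsg.Agent.RelProd
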