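import Cfsg.Agent.Lib.FusionMeet.Basic

/-!
# Group lemmas for extending automorphisms

A property of pairs of a subgroup of a Sylow subgroup and a conjugating element, closed under composition and
inversion and holding for the Sylow subgroup and for normalizing elements of order prime to `p`, holds for all
conjugations inside the Sylow subgroup.
-/

set_option autoImplicit false
set_option linter.unusedSectionVars false

namespace Cfsg.Agent.RelProd

open Cfsg Cfsg.FusionSystem Cfsg.Agent.FusionSys Cfsg.Agent.FusionMeet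

variable {G : Type*} [Group G] {p : ℕ} [hp : Fact p.Prime] [Finite G]

/-- `g A g⁻¹`. -/
def cj (g : G) (A : Subgroup G) : Subgroup G := A.map (MulAut.conj g).toMonoidHom

omit hp [Finite G] in
theorem mem_cj {g : G} {A : Subgroup G} {x : G} : x ∈ cj g A ↔ g⁻¹ * x * g ∈ A := by
  rw [cj, Subgroup.mem_map_equiv, MulAut.conj_symm_apply]

omit hp [Finite G] in
theorem cj_mul (g h : G) (A : Subgroup G) : cj g (cj h A) = cj (g * h) A := by
  ext x
  rw [mem_cj, mem_cj, mem_cj, mul_inv_rev]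
  simp only [mul_assoc]

omit hp [Finite G] in
theorem cj_one (A : Subgroup G) : cj 1 A = A := by
  ext x; rw [mem_cj, inv_one, one_mul, mul_one]

omit hp [Finite G] in
theorem cj_eq_self {g : G} {A : Subgroup G} (hg : g ∈ Subgroup.normalizer (A : Set G)) : cj g A = A := by
  ext x
  rw [mem_cj]
  exact (Subgroup.mem_normalizer_iff''.1 hg x).symm

omit hp [Finite G] in
theorem cj_mono {g : G} {A B : Subgroup G} (h : A ≤ B) : cj g A ≤ cj g B := Subgroup.map_mono h

omit hp [Finite G] in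
theorem cj_normalizer (g : G) (A : Subgroup G) :
    cj g (Subgroup.normalizer (A : Set G)) = Subgroup.normalizer (cj g A : Set G) := by
  ext x
  rw [mem_cj, Subgroup.mem_normalizer_iff, Subgroup.mem_normalizer_iff]
  constructor
  · intro h y
    rw [mem_cj, mem_cj, h]
    simp [mul_assoc]
  · intro h y
    have := h (g * y * g⁻¹)
    rw [mem_cj, mem_cj] at this
    simpa [mul_assoc] using this

/-- A subgroup of a Sylow subgroup moves to one whose normalizer meets it in a Sylow subgroup. -/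
theorem exists_syl_normalizer {W L A : Subgroup G} (hW : IsSyl p W L) (hA : A ≤ W) :
    ∃ l ∈ L, cj l A ≤ W ∧
      IsSyl p (W ⊓ Subgroup.normalizer (cj l A : Set G)) (L ⊓ Subgroup.normalizer (cj l A : Set G)) := by
  obtain ⟨X, hX, hAX⟩ := exists_isSyl_ge (p := p) (hW.2.1.to_le hA)
    (le_inf (hA.trans hW.1) Subgroup.le_normalizer : A ≤ L ⊓ Subgroup.normalizer (A : Set G))
  obtain ⟨l, hl, hle⟩ := hW.exists_conj hX.2.1 (hX.1.trans inf_le_left)
  refine ⟨l, hl, (cj_mono hAX).trans hle, ?_⟩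
  have hLl : cj l L = L := cj_eq_self (Subgroup.le_normalizer hl)
  have h1 : IsSyl p (cj l X) (L ⊓ Subgroup.normalizer (cj l A : Set G)) := by
    have := hX.map_conj l
    rw [Subgroup.map_inf _ _ _ (MulAut.conj l).injective] at this
    change IsSyl p (cj l X) (cj l L ⊓ cj l (Subgroup.normalizer (A : Set G))) at this
    rwa [hLl, cj_normalizer] at this
  have h2 : cj l X = W ⊓ Subgroup.normalizer (cj l A : Set G) :=
    h1.eq_of_le (le_inf hle (h1.1.trans inf_le_right)) (inf_le_inf_right _ hW.1) (hW.2.1.to_le inf_le_left)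
  exact h2 ▸ h1

/-- A `p`-subgroup meeting a subgroup it normalizes in a Sylow subgroup is Sylow in the product. -/
theorem isSyl_sup_of_inf {W K : Subgroup G} (hWp : IsPGroup p W) (hn : W ≤ Subgroup.normalizer (K : Set G))
    (h : IsSyl p (W ⊓ K) K) : IsSyl p W (K ⊔ W) := by
  obtain ⟨X, hX, hWX⟩ := exists_isSyl_ge (p := p) hWp (le_sup_right : W ≤ K ⊔ W)
  suffices hXW : X ≤ W by rwa [le_antisymm hXW hWX] at hX
  intro x hx
  have hx' := hX.1 hx
  rw [← SetLike.mem_coe, Subgroup.coe_mul_of_right_le_normalizer_left _ _ hn] at hx'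
  obtain ⟨k, hk, w, hw, hkw⟩ := hx'
  change k * w = x at hkw
  have hkX : k ∈ X := by
    have := X.mul_mem hx (X.inv_mem (hWX hw))
    rwa [← hkw, mul_inv_cancel_right] at this
  have he : X ⊓ K = W ⊓ K := (h.eq_of_le (inf_le_inf_right _ hWX) inf_le_right (hX.2.1.to_le inf_le_left)).symm
  have hkW : k ∈ W ⊓ K := he.le ⟨hkX, hk⟩
  exact hkw ▸ W.mul_mem hkW.1 hw

/-- The general extension statement. -/
theorem extends_all {W L I : Subgroup G} (hW : IsSyl p W L) (hI : L ≤ Subgroup.normalizer (I : Set G))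
    (Q : Subgroup G → G → Prop) (hmono : ∀ A B g, I ≤ A → A ≤ B → B ≤ W → cj g B ≤ W → Q B g → Q A g)
    (hcomp : ∀ A g h, I ≤ A → A ≤ W → g ∈ L → h ∈ L → cj g A ≤ W → cj h (cj g A) ≤ W → Q A g → Q (cj g A) h →
      Q A (h * g))
    (hinv : ∀ A g, I ≤ A → A ≤ W → g ∈ L → cj g A ≤ W → Q A g → Q (cj g A) g⁻¹)
    (hbase : ∀ A g, I ≤ A → A ≤ W → g ∈ W → Q A g)
    (hpprime : ∀ A g, I ≤ A → A ≤ W → g ∈ L → (orderOf g).Coprime p → cj g A = A → Q A g) :
    ∀ A g, I ≤ A → A ≤ W → g ∈ L → cj g A ≤ W → Q A g := by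
  intro A g hIA hAW hg hgA
  induction hk : Nat.card W - Nat.card A using Nat.strong_induction_on generalizing A g with
  | _ n ih =>
  have hWL := hW.1
  -- elements normalizing a subgroup with Sylow normalizer
  have hnorm : ∀ B, I ≤ B → B ≤ W → IsSyl p (W ⊓ Subgroup.normalizer (B : Set G))
      (L ⊓ Subgroup.normalizer (B : Set G)) → ∀ x ∈ L ⊓ Subgroup.normalizer (B : Set G), Q B x := by
    intro B hIB hBW hsyl x hx
    let K : Subgroup G :=
      { carrier := {x | x ∈ L ⊓ Subgroup.normalizer (B : Set G) ∧ Q B x}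
        one_mem' := ⟨Subgroup.one_mem _, hbase B 1 hIB hBW W.one_mem⟩
        mul_mem' := fun {x y} hx hy => ⟨Subgroup.mul_mem _ hx.1 hy.1, by
          have e := cj_eq_self hy.1.2
          have e' := cj_eq_self hx.1.2
          exact hcomp B y x hIB hBW hy.1.1 hx.1.1 (e.le.trans hBW) (by rw [e, e']; exact hBW) hy.2
            (e.symm ▸ hx.2)⟩
        inv_mem' := fun {x} hx => ⟨Subgroup.inv_mem _ hx.1, by
          have e := cj_eq_self hx.1.2
          have := hinv B x hIB hBW hx.1.1 (e.le.trans hBW) hx.2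
          rwa [e] at this⟩ }
    refine (((le_sylow_sup_opOf hsyl).trans (sup_le (c := K) (fun w hw => ?_)
      ((Subgroup.closure_le _).2 fun y hy => ?_))) hx).2
    · exact ⟨⟨hWL hw.1, hw.2⟩, hbase B w hIB hBW hw.1⟩
    · exact ⟨hy.1, hpprime B y hIB hBW hy.1.1 hy.2 (cj_eq_self hy.1.2)⟩
  rcases eq_or_lt_of_le hAW with rfl | hlt
  · have hgn : g ∈ Subgroup.normalizer (A : Set G) := mem_normalizer_of_conj_mem_finite fun a ha =>
      hgA (mem_cj.2 (by simpa [mul_assoc] using ha))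
    refine hnorm A hIA le_rfl ?_ g ⟨hg, hgn⟩
    refine ⟨le_inf (inf_le_left.trans hWL) inf_le_right, hW.2.1.to_le inf_le_left, fun hd => hW.2.2 ?_⟩
    rw [inf_eq_left.2 Subgroup.le_normalizer] at hd
    exact hd.trans (Dvd.intro _ (Subgroup.relIndex_mul_relIndex A (L ⊓ Subgroup.normalizer (A : Set G)) L
      (le_inf hWL Subgroup.le_normalizer) inf_le_left))
  obtain ⟨l, hl, hlA, hsyl⟩ := exists_syl_normalizer hW hAW
  set B := cj l A with hB
  have hIB : I ≤ B := by
    rw [← cj_eq_self (hI hl)]; exact cj_mono hIA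
  -- any conjugate of `A` inside `W` goes to `B`, extending over a larger subgroup
  have hto : ∀ C, I ≤ C → C ≤ W → Nat.card C = Nat.card A → ∀ x ∈ L, cj x C = B →
      ∃ y ∈ L, cj y C = B ∧ Q C y := by
    intro C hIC hCW hcC x hx hxC
    have hCW' : C < W := lt_of_le_of_ne hCW fun he => hlt.ne
      (Subgroup.eq_of_le_of_card_ge hAW (by rw [← he]; exact hcC.le))
    set N := W ⊓ Subgroup.normalizer (C : Set G)
    have hCN : C < N := Cfsg.Agent.Fusion.lt_inf_normalizer hW.2.1.isNilpotent hCW'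
    have hxN : cj x N ≤ L ⊓ Subgroup.normalizer (B : Set G) := by
      refine le_inf ?_ ?_
      · rw [← cj_eq_self (Subgroup.le_normalizer hx : x ∈ Subgroup.normalizer (L : Set G))]
        exact cj_mono (inf_le_left.trans hWL)
      · rw [← hxC, ← cj_normalizer]
        exact cj_mono inf_le_right
    obtain ⟨z, hz, hzle⟩ := hsyl.exists_conj (X := cj x N) ((hW.2.1.to_le inf_le_left).map _) hxN
    have hy : z * x ∈ L := L.mul_mem hz.1 hx
    have hyC : cj (z * x) C = B := by rw [← cj_mul, hxC, cj_eq_self hz.2]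
    have hyN : cj (z * x) N ≤ W := by rw [← cj_mul]; exact hzle.trans inf_le_left
    refine ⟨z * x, hy, hyC, hmono C N _ hIC hCN.le inf_le_left hyN (ih _ ?_ N _ (hIC.trans hCN.le) inf_le_left hy hyN rfl)⟩
    have h1 := Set.Finite.card_lt_card (Set.toFinite (N : Set G)) hCN
    have h2 : Nat.card N ≤ Nat.card W := Subgroup.card_le_of_le inf_le_left
    simp only [SetLike.coe_sort_coe] at h1
    omega
  have hcj : ∀ (x : G) (C : Subgroup G), Nat.card (cj x C) = Nat.card C := fun x C =>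
    (Nat.card_congr (C.equivMapOfInjective _ (MulAut.conj x).injective).toEquiv).symm
  obtain ⟨y₁, hy₁, hy₁A, hQ₁⟩ := hto A hIA hAW rfl l hl rfl
  have hIA' : I ≤ cj g A := by rw [← cj_eq_self (hI hg)]; exact cj_mono hIA
  obtain ⟨y₂, hy₂, hy₂A, hQ₂⟩ := hto (cj g A) hIA' hgA (hcj g A) (y₁ * g⁻¹) (L.mul_mem hy₁ (L.inv_mem hg))
    (by rw [cj_mul, mul_assoc, inv_mul_cancel, mul_one, hy₁A])
  set x := y₂ * g * y₁⁻¹ with hxdef
  have hyinv : cj y₁⁻¹ B = A := by rw [← hy₁A, cj_mul, inv_mul_cancel, cj_one]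
  have hxB : cj x B = B := by
    rw [hxdef, ← cj_mul, hyinv, ← cj_mul, hy₂A]
  have hxn : x ∈ L ⊓ Subgroup.normalizer (B : Set G) := by
    refine ⟨L.mul_mem (L.mul_mem hy₂ hg) (L.inv_mem hy₁), mem_normalizer_of_conj_mem_finite fun b hb => ?_⟩
    rw [← hxB, mem_cj]
    simpa [mul_assoc] using hb
  have hQ₃ := hnorm B hIB hlA hsyl x hxn
  have hQ₄ : Q A (x * y₁) := hcomp A y₁ x hIA hAW hy₁ hxn.1 (hy₁A.le.trans hlA) (by rw [hy₁A, hxB]; exact hlA)
    hQ₁ (hy₁A.symm ▸ hQ₃)
  have hQ₅ : Q B y₂⁻¹ := by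
    have := hinv (cj g A) y₂ hIA' hgA hy₂ (hy₂A.le.trans hlA) hQ₂
    rwa [hy₂A] at this
  have hB2 : cj (x * y₁) A = B := by rw [← cj_mul, hy₁A, hxB]
  have hback : cj y₂⁻¹ B = cj g A := by rw [← hy₂A, cj_mul, inv_mul_cancel, cj_one]
  have h6 := hcomp A (x * y₁) y₂⁻¹ hIA hAW (L.mul_mem hxn.1 hy₁) (L.inv_mem hy₂) (hB2.le.trans hlA)
    (by rw [hB2, hback]; exact hgA) hQ₄ (hB2.symm ▸ hQ₅)
  have e : y₂⁻¹ * (x * y₁) = g := by rw [hxdef]; group
  rwa [e] at h6

end Cfsg.Agent.RelProd
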