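import Cfsg.Agent.Lib.RelProd.SESys
import Cfsg.Agent.Lib.RelProd.SEExt

/-!
# Extending automorphisms of centric subgroups of `T`

An element of order prime to `p` of `Aut_E(P)` normalizing `A ≤ Aut_S(P)` extends in `seSys` to the preimage of `A`.
-/

set_option autoImplicit false
set_option linter.unusedSectionVars false
set_option linter.style.haveILetI false

namespace Cfsg.Agent.RelProd

open Cfsg Cfsg.FusionSystem Cfsg.Agent.FusionSys Cfsg.Agent.FusionSys.FocCent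
  Cfsg.Agent.FusionSys.KerClass Cfsg.Agent.FusionSys.LayerCore Cfsg.Agent.FusionMeet

variable {Ω : Type*} [Group Ω] {S T : Subgroup Ω} {p : ℕ} [hp : Fact p.Prime] [Finite S]
variable {F : FusionSystem S} {E : FusionSystem T}

/-- The elements of `T` in `Q C_S(Q)` lie in a centric `Q ≤ T`. -/
theorem rc_inf_eq {Q : Subgroup Ω} (hQT : Q ≤ T) (hQc : E.IsCentric Q) : rc S Q ⊓ T = Q := by
  refine le_antisymm ?_ (le_inf (le_rc Q) hQT)
  rintro u ⟨hu, huT⟩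
  have hu' : u ∈ ((Q ⊔ centralizerIn S Q : Subgroup Ω) : Set Ω) := hu
  rw [Subgroup.coe_mul_of_right_le_normalizer_left _ _
    (fun _ hc => Subgroup.centralizer_le_normalizer _ (Subgroup.mem_inf.1 hc).2 : centralizerIn S Q ≤ Subgroup.normalizer (Q : Set Ω))] at hu'
  obtain ⟨q, hq, c, hc, rfl⟩ := hu'
  refine Q.mul_mem hq (hQc.2 Q (isConj_refl E hQT) ⟨?_, hc.2⟩)
  have := T.mul_mem (T.inv_mem (hQT hq)) huT
  rwa [inv_mul_cancel_left] at this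

/-- An element of `gAut` at a subgroup of `T` lies in the normal subsystem. -/
theorem gAut_autE {P : Subgroup Ω} (hPT : P ≤ T) {x : MulAut P} (hx : x ∈ gAut F E P) : x ∈ E.autGroup P := by
  obtain ⟨-, b, hb, hxb⟩ := hx
  have hb' := (equivHom_autGroup E inf_le_right).1 hb
  refine (equivHom_autGroup E hPT).2 (hom_congr E (restrict_mem E hb' (le_inf le_rfl hPT)) fun y => ?_)
  exact hxb.apply ⟨(y : Ω), y.2, hPT y.2⟩

/-- The extension of a lift. -/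
theorem exists_gAut_of_lift (hS : IsPGroup p S) (hE : E.IsNormalIn F p) {Q : Subgroup Ω} (hQ : Nice F T Q)
    (hQc : E.IsCentric Q) {A : Subgroup (MulAut Q)} (hI : Inn Q ≤ A) (hA : A ≤ autInducedBy S Q)
    {g : MulAut Q} (hg : g ∈ E.autGroup Q) (hco : (orderOf g).Coprime p)
    (hgA : ∀ a ∈ A, g * a * g⁻¹ ∈ A) :
    ∃ ξ ∈ gAut F E (pre S Q A), (orderOf ξ).Coprime p ∧
      ∀ (x : Q) (h : (x : Ω) ∈ pre S Q A), ((ξ ⟨x, h⟩ : pre S Q A) : Ω) = ((g x : Q) : Ω) := by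
  obtain ⟨hEs, hF, hsub, hT, hAI, hfr⟩ := id hE.1
  have hQT := hQ.le
  have hQn := hQ.fn hT
  have hQS := hQn.1
  haveI := finite_of_le hQS
  haveI : Finite T := finite_of_le (S := S) hT.1
  have hTp : IsPGroup p T := hS.to_le hT.1
  have hQfc := (fullyNormalized_imp hS hF hQn).1
  have hTn := stronglyClosed_le_normalizer hT
  have hgF : g ∈ F.autGroup Q := autGroup_mono hsub Q hg
  obtain ⟨ψ₀, hψ₀, hψ₀g⟩ := exists_lift hS hE Q hQ hQc g hg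
  let U : Subgroup Ω := rc S Q
  have hUS : U ≤ S := rc_le hQS
  haveI := finite_of_le hUS
  obtain ⟨n, hn, hne⟩ := exists_pprime_exp p ψ₀ g hco
  set ψ := ψ₀ ^ n with hψdef
  have hψ : IsLift F Q ψ := Subgroup.pow_mem (liftGroup F hQS) (show ψ₀ ∈ liftGroup F hQS from hψ₀) n
  have hψg : Rel (le_rc Q) ψ g := by rw [← hne]; exact hψ₀g.pow n
  have hUT : U ⊓ T = Q := rc_inf_eq hQT hQc
  have hUTc : E.IsCentric (U ⊓ T) := hUT.symm ▸ hQc
  have hdec : ∀ u : U, ∃ q ∈ Q, ∃ c ∈ centralizerIn S Q, (u : Ω) = q * c := by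
    intro u
    have hu : (u : Ω) ∈ ((Q ⊔ centralizerIn S Q : Subgroup Ω) : Set Ω) := u.2
    rw [Subgroup.coe_mul_of_right_le_normalizer_left _ _
      (fun _ hc => Subgroup.centralizer_le_normalizer _ (Subgroup.mem_inf.1 hc).2 : centralizerIn S Q ≤ Subgroup.normalizer (Q : Set Ω))] at hu
    obtain ⟨q, hq, c, hc, he⟩ := hu
    exact ⟨q, hq, c, hc, he.symm⟩
  have hψT : ψ ∈ modTriv T U := fun u => by
    obtain ⟨q, hq, c, hc, he⟩ := hdec u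
    have e : u = (⟨q, le_rc Q hq⟩ : U) * ⟨c, cent_le_rc Q hc⟩ := Subtype.ext he
    have h1 : q⁻¹ * ((ψ ⟨q, le_rc Q hq⟩ : U) : Ω) ∈ T :=
      T.mul_mem (T.inv_mem (hQT hq)) (hQT (hψ.2.1 _ hq))
    have h2 : c⁻¹ * ((ψ ⟨c, cent_le_rc Q hc⟩ : U) : Ω) ∈ T := hQT (hψ.2.2 ⟨c, cent_le_rc Q hc⟩ hc).1
    have h3 := (Subgroup.mem_normalizer_iff.1 (hTn (S.inv_mem hc.1)) _).1 h1
    have := T.mul_mem h3 h2
    rw [e, map_mul, Subgroup.coe_mul, Subgroup.coe_mul]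
    simpa [mul_assoc] using this
  have hψU : ψ ∈ gAut F E U := by
    refine ⟨⟨hψ.1, hψT⟩, ?_⟩
    obtain ⟨b, -, hb⟩ := exists_rel F (inf_le_left : U ⊓ T ≤ U) hUS hψ.1 fun y hy =>
      ⟨(ψ y).2, by
        have hyQ : (y : Ω) ∈ Q := hUT.le ⟨y.2, hy.2⟩
        exact hQT (hψ.2.1 y hyQ)⟩
    refine ⟨b, (equivHom_autGroup E inf_le_right).2 ?_, hb⟩
    refine hom_congr E (restrict_mem E ((equivHom_autGroup E hQT).1 hg) hUT.le) fun y => ?_
    exact (hb.apply y).symm.trans (hψg.apply ⟨(y : Ω), hUT.le y.2⟩)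
  have hψop : ψ ∈ opOf p (gAut F E U) := mem_opOf hψU hn
  -- the witnesses in the extender
  set M := pre S Q A with hMdef
  have hMN : M ≤ normalizerIn S Q := pre_le
  have hMS : M ≤ S := hMN.trans (normalizerIn_le S Q)
  haveI := finite_of_le hMS
  have hQM : Q ≤ M := self_le_pre hQS hI
  have hUM : U ≤ M := sup_le hQM cent_le_pre
  have hwit : ∀ h ∈ M, ∃ t ∈ T, t ∈ M ∧ ∃ v ∈ S,
      (∀ q : Q, ∀ z : Q, (z : Ω) = h * ((g⁻¹ q : Q) : Ω) * h⁻¹ → ((g z : Q) : Ω) = t * h * q * (t * h)⁻¹) ∧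
      ∀ (y : U) (hy : h * (y : Ω) * h⁻¹ ∈ U), ((ψ ⟨_, hy⟩ : U) : Ω) = v * (ψ y : U) * v⁻¹ := by
    intro h hh
    obtain ⟨hhS, a, ha, hae⟩ := id hh
    have hhN := hMN hh
    set a₁ := g * a * g⁻¹ * a⁻¹ with ha₁
    have ha₁A : a₁ ∈ A := A.mul_mem (hgA a ha) (A.inv_mem ha)
    have ha₁E : a₁ ∈ E.autGroup Q := by
      have h1 := conj_mem_aut hE.1 hQT (autInducedBy_le_autGroup F hQS (hA ha)) (Subgroup.inv_mem _ hg)
      have := Subgroup.mul_mem _ hg h1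
      simpa [ha₁, mul_assoc] using this
    obtain ⟨t, ht, hte⟩ := (mem_autInducedBy_iff _).1 (autT_of_mem hS hE.1 hQT hQn (hA ha₁A) ha₁E)
    have htM : t ∈ M := ⟨hT.1 ht, a₁, ha₁A, hte⟩
    obtain ⟨ct, hct, hcte⟩ := exists_conjAut (K := T) (P := U) ht (mem_normalizer_rc hQS (hMN htM))
    obtain ⟨ch, hch, hche⟩ := exists_conjAut (K := S) (P := U) hhS (mem_normalizer_rc hQS hhN)
    have hrt : Rel (le_rc Q) ct a₁ := fun q => Subtype.ext ((hcte _).trans (hte q).symm)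
    have hrh : Rel (le_rc Q) ch a := fun q => Subtype.ext ((hche _).trans (hae q).symm)
    set δ := ct⁻¹ * (ψ * (ch * ψ⁻¹ * ch⁻¹)) with hδ
    have hδk : δ ∈ opOf p (gAut F E U) ⊔ autInducedBy T U :=
      Subgroup.mul_mem _ (Subgroup.mem_sup_right (Subgroup.inv_mem _ hct))
        (Subgroup.mem_sup_left (Subgroup.mul_mem _ hψop (conj_mem_opOf (fun z hz =>
          conj_mem_gAut hE.1.2.2 hUS (autInducedBy_le_autGroup F hUS hch) hz) (Subgroup.inv_mem _ hψop))))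
    have hδR : Rel (le_rc Q) δ 1 := by
      have e := hrt.inv.mul (hψg.mul ((hrh.mul hψg.inv).mul hrh.inv))
      rwa [show a₁⁻¹ * (g * (a * g⁻¹ * a⁻¹)) = 1 by rw [ha₁]; group] at e
    obtain ⟨u, hu⟩ := fix_mem_inn hS hE hUS hUTc hδk fun x hx =>
      Subtype.ext (hδR.apply ⟨(x : Ω), hUT.le ⟨x.2, hx⟩⟩)
    refine ⟨t, ht, htM, t * u * h, S.mul_mem (S.mul_mem (hT.1 ht) (hUS u.2)) hhS, fun q z hz => ?_,
      fun y hy => ?_⟩
    · have e : z = a (g⁻¹ q) := Subtype.ext (hz.trans (hae _).symm)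
      have e' : g (a (g⁻¹ q)) = a₁ (a q) := by
        rw [ha₁]
        simp [MulAut.mul_apply]
      rw [e, e', hte, hae]
      group
    · have e1 : ψ (ch y) = ct (δ (ch (ψ y))) := by
        rw [hδ]; simp [MulAut.mul_apply]
      rw [show (⟨_, hy⟩ : U) = ch y from Subtype.ext (hche y).symm, e1, hcte, ← hu, MulAut.conj_apply,
        Subgroup.coe_mul, Subgroup.coe_mul, Subgroup.coe_inv, hche]
      group
  have hcen := rc_centric hQfc
  obtain ⟨χ, hχ, hag⟩ := (fullyCentralized_receptive hS hF (KerClass.centric_fullyCentralized hcen)).2 _ _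
    ((equivHom_autGroup F hUS).1 hψ.1) (equivHom_range ψ)
  have hMe : M ≤ extender S U (equivHom ψ) := fun h hh => by
    obtain ⟨t, -, -, v, hv, -, hve⟩ := hwit h hh
    exact Subgroup.subset_closure ⟨hMS hh, mem_normalizer_rc hQS (hMN hh), v, hv, fun y hy => hve y hy⟩
  have hχM := restrict_mem F hχ hMe
  set φ := χ.comp (Subgroup.inclusion hMe) with hφ
  have hφQ : ∀ (q : Q) (h : (q : Ω) ∈ M), φ ⟨q, h⟩ = ((g q : Q) : Ω) := fun q h =>
    (hag q (le_rc Q q.2) (hMe h)).trans (hψg.apply q)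
  have hact : ∀ (y : M) (q : Q), φ y * q * (φ y)⁻¹ = ((g ⟨(y : Ω) * ((g⁻¹ q : Q) : Ω) * (y : Ω)⁻¹,
      (Subgroup.mem_normalizer_iff.1 (hMN y.2).2 _).1 (g⁻¹ q).2⟩ : Q) : Ω) := by
    intro y q
    have h1 : (y : Ω) * ((g⁻¹ q : Q) : Ω) * (y : Ω)⁻¹ ∈ Q :=
      (Subgroup.mem_normalizer_iff.1 (hMN y.2).2 _).1 (g⁻¹ q).2
    rw [← hφQ ⟨_, h1⟩ (hQM h1), map_apply_conj φ y.2 (hQM (g⁻¹ q).2), hφQ (g⁻¹ q), MulAut.apply_inv_self]
  have hinv : ∀ y : M, φ y ∈ M := by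
    intro y
    obtain ⟨-, a, ha, hae⟩ := id y.2
    refine ⟨hom_apply_mem F hχM y, g * a * g⁻¹, hgA a ha, fun q => ?_⟩
    rw [hact y q, MulAut.mul_apply, MulAut.mul_apply]
    exact congrArg (fun z : Q => ((g z : Q) : Ω)) (Subtype.ext (hae _))
  obtain ⟨ξ₀, hξ₀, hξ₀e⟩ := exists_aut_of_invariant F hχM hinv
  have hξ₀x : Rel hQM ξ₀ g := fun q => Subtype.ext ((hξ₀e _).trans (hφQ q _))
  obtain ⟨m, hm, hme⟩ := exists_pprime_exp p ξ₀ g hco
  set ξ := ξ₀ ^ m with hξdef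
  have hξg : Rel hQM ξ g := by rw [← hme]; exact hξ₀x.pow m
  have hξF : ξ ∈ F.autGroup M := Subgroup.pow_mem _ hξ₀ m
  have hξh := (equivHom_autGroup F hMS).1 hξF
  -- trivial modulo `T`
  have hnorm : ∀ s ∈ S, ∀ t ∈ T, s * t * s⁻¹ ∈ T := fun s hs t ht =>
    (Subgroup.mem_normalizer_iff.1 (hTn hs) t).1 ht
  let K : Subgroup M :=
    { carrier := {y : M | (y : Ω)⁻¹ * ((ξ₀ y : M) : Ω) ∈ T}
      one_mem' := by simp [T.one_mem]
      mul_mem' := fun {y z} hy hz => by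
        have := T.mul_mem (hnorm _ (S.inv_mem (hMS z.2)) _ hy) hz
        show ((y * z : M) : Ω)⁻¹ * ((ξ₀ (y * z) : M) : Ω) ∈ T
        rw [map_mul, Subgroup.coe_mul, Subgroup.coe_mul]
        simpa [mul_assoc] using this
      inv_mem' := fun {y} hy => by
        have := hnorm _ (hMS y.2) _ (T.inv_mem hy)
        show ((y⁻¹ : M) : Ω)⁻¹ * ((ξ₀ y⁻¹ : M) : Ω) ∈ T
        rw [map_inv, Subgroup.coe_inv, Subgroup.coe_inv]
        simpa [mul_assoc] using this }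
  have hKU : ∀ c : M, (c : Ω) ∈ U → c ∈ K := fun c hc => by
    show (c : Ω)⁻¹ * ((ξ₀ c : M) : Ω) ∈ T
    rw [hξ₀e]
    show (c : Ω)⁻¹ * χ ⟨(c : Ω), _⟩ ∈ T
    rw [hag (c : Ω) hc (hMe c.2)]
    exact hψT ⟨_, hc⟩
  have hKT : ∀ c : M, (c : Ω) ∈ T → c ∈ K := fun c hc =>
    T.mul_mem (T.inv_mem hc) (stronglyClosed_apply_mem hT ((equivHom_autGroup F hMS).1 hξ₀) c hc)
  have hξT : ξ ∈ modTriv T M := by
    intro y
    obtain ⟨t, ht, htM, v, -, hte, -⟩ := hwit y y.2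
    obtain ⟨d, hd⟩ : ∃ d : M, d = y⁻¹ * ξ₀ y := ⟨_, rfl⟩
    have hdK : d ∈ K := by
      have h1 : (t * (y : Ω))⁻¹ * φ y ∈ centralizerIn S Q := by
        refine ⟨S.mul_mem (S.inv_mem (S.mul_mem (hT.1 ht) (hMS y.2))) (hom_apply_mem F hχM y),
          Subgroup.mem_centralizer_iff.2 fun q hq => ?_⟩
        have e := hact y ⟨q, hq⟩
        rw [hte ⟨q, hq⟩ _ rfl] at e
        calc q * ((t * (y : Ω))⁻¹ * φ y) = (t * (y : Ω))⁻¹ * (t * (y : Ω) * q * (t * (y : Ω))⁻¹) * φ y := by group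
          _ = (t * (y : Ω))⁻¹ * (φ y * q * (φ y)⁻¹) * φ y := by rw [← e]
          _ = _ := by group
      have hc : (t * (y : Ω))⁻¹ * φ y ∈ U := cent_le_rc Q h1
      have e : d = (y⁻¹ * ⟨t, htM⟩ * y) * ⟨_, hUM hc⟩ := Subtype.ext (by
        rw [hd, Subgroup.coe_mul, Subgroup.coe_mul, hξ₀e]
        simp [mul_assoc])
      rw [e]
      refine K.mul_mem (hKT _ ?_) (hKU _ hc)
      simpa [mul_assoc] using hnorm _ (S.inv_mem (hMS y.2)) t ht
    have hconj : ∀ u : M, (u : Ω) ∈ T → ∀ z : M, ((z⁻¹ * u * z : M) : Ω) ∈ T := fun u hu z => by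
      simpa [mul_assoc] using hnorm _ (S.inv_mem (hMS z.2)) _ hu
    have hdj : ∀ j : ℕ, ((d⁻¹ * (ξ₀ ^ j) d : M) : Ω) ∈ T := by
      intro j
      induction j with
      | zero => simp [T.one_mem]
      | succ j ih =>
        have h1 : ((d⁻¹ * ξ₀ d : M) : Ω) ∈ T := hdK
        have h2 := stronglyClosed_apply_mem hT ((equivHom_autGroup F hMS).1 hξ₀) _ ih
        have e : d⁻¹ * (ξ₀ ^ (j + 1)) d = (d⁻¹ * ξ₀ d) * ξ₀ (d⁻¹ * (ξ₀ ^ j) d) := by
          rw [map_mul, map_inv, pow_succ', MulAut.mul_apply]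
          simp [mul_assoc]
        rw [e, Subgroup.coe_mul]
        exact T.mul_mem h1 h2
    have hpow : ∀ j : ℕ, (((d ^ j)⁻¹ * (y⁻¹ * (ξ₀ ^ j) y) : M) : Ω) ∈ T := by
      intro j
      induction j with
      | zero => simp [T.one_mem]
      | succ j ih =>
        have e : (ξ₀ ^ (j + 1)) y = (ξ₀ ^ j) y * (ξ₀ ^ j) d := by
          rw [← map_mul, hd, mul_inv_cancel_left, pow_succ, MulAut.mul_apply]
        have e' : (d ^ (j + 1))⁻¹ * (y⁻¹ * (ξ₀ ^ (j + 1)) y) =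
            (d⁻¹ * ((d ^ j)⁻¹ * (y⁻¹ * (ξ₀ ^ j) y)) * d) * (d⁻¹ * (ξ₀ ^ j) d) := by
          rw [e, pow_succ]; group
        rw [e', Subgroup.coe_mul]
        exact T.mul_mem (hconj _ ih d) (hdj j)
    have hTd : ∀ j : ℕ, ((d ^ j : M) : Ω) ∈ T → ((y⁻¹ * (ξ₀ ^ j) y : M) : Ω) ∈ T := fun j hj => by
      have := T.mul_mem hj (hpow j)
      rwa [← Subgroup.coe_mul, mul_inv_cancel_left] at this
    -- the order of `ξ`
    have hd' : ∀ j : ℕ, ((d ^ (m * j) : M) : Ω) ∈ T → ((y⁻¹ * (ξ ^ j) y : M) : Ω) ∈ T := fun j hj => by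
      rw [hξdef, ← pow_mul]
      exact hTd _ hj
    have hk : ((d ^ (m * orderOf ξ) : M) : Ω) ∈ T := by
      have := T.inv_mem (hpow (m * orderOf ξ))
      rw [pow_mul ξ₀, ← hξdef, pow_orderOf_eq_one] at this
      simpa [mul_assoc] using this
    obtain ⟨k, hdk⟩ := (hS.to_le hMS) d
    have hco' : (orderOf ξ).Coprime (orderOf (d ^ m)) := by
      refine Nat.Coprime.coprime_dvd_right (orderOf_dvd_of_pow_eq_one (n := p ^ k) ?_)
        (Nat.Coprime.pow_right k hm)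
      rw [← pow_mul, mul_comm, pow_mul, hdk, one_pow]
    obtain ⟨l, hl⟩ := exists_pow_eq_self_of_coprime hco'
    have h1 : ((d ^ (m * 1) : M) : Ω) ∈ T := by
      rw [mul_one, ← hl, ← pow_mul d, Subgroup.coe_pow]
      exact T.pow_mem hk l
    have := hd' 1 h1
    rw [pow_one, Subgroup.coe_mul, Subgroup.coe_inv] at this
    exact this
  -- the class on `M ∩ T`
  set M0 := M ⊓ T with hM0
  have hQM0 : Q ≤ M0 := le_inf hQM hQT
  have hM0M : M0 ≤ M := inf_le_left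
  have hM0T : M0 ≤ T := inf_le_right
  haveI := finite_of_le (hM0M.trans hMS)
  obtain ⟨β, hβF, hξβ⟩ := exists_rel F hM0M hMS hξF fun y hy =>
    ⟨(ξ y).2, stronglyClosed_apply_mem hT hξh y hy.2⟩
  have hβe : Rel hQM0 β g := rel_descend hξβ hξg
  have hn0 : M0 ≤ Subgroup.normalizer (Q : Set Ω) := fun u hu => (hMN hu.1).2
  obtain ⟨φ₁, hφ₁, hφ₁e⟩ := (fullyCentralized_receptive hTp hEs (KerClass.centric_fullyCentralized hQc)).2 Q _
    ((equivHom_autGroup E hQT).1 hg) (equivHom_range g)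
  have hβv : ∀ (u : Q) (h : (u : Ω) ∈ M0), ((β ⟨u, h⟩ : M0) : Ω) = (g u : Q) := fun u _ => hβe.apply u
  have hNe : M0 ≤ extender T Q (equivHom g) := fun w hw =>
    Subgroup.subset_closure ⟨hw.2, hn0 hw, (β ⟨w, hw⟩ : M0), hM0T (β _).2, fun u hu => by
      rw [equivHom_apply, equivHom_apply, ← hβv ⟨_, hu⟩ (hQM0 hu), ← hβv u (hQM0 u.2), ← Subgroup.coe_inv,
        ← Subgroup.coe_mul, ← Subgroup.coe_mul, ← map_inv, ← map_mul, ← map_mul]
      exact congrArg (fun w : M0 => ((β w : M0) : Ω)) (Subtype.ext rfl)⟩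
  set f := φ₁.comp (Subgroup.inclusion hNe) with hfdef
  have hf : f ∈ E.Hom M0 := restrict_mem E hφ₁ hNe
  have hfP : ∀ (u : Q) (h : (u : Ω) ∈ M0), f ⟨u, h⟩ = ((β ⟨u, h⟩ : M0) : Ω) := fun u h =>
    (hφ₁e u u.2 (hNe h)).trans (hβv u h).symm
  have hfN : ∀ y : M0, f y ∈ M0 := by
    intro y
    have hd : ((β y : M0) : Ω)⁻¹ * f y ∈ Q := by
      refine mem_of_centralizes hQc (T.mul_mem (T.inv_mem (hM0T (β y).2)) (hom_apply_mem E hf y)) fun w hw => ?_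
      obtain ⟨u, hu⟩ := g.surjective ⟨w, hw⟩
      have hy : (y : Ω) * u * (y : Ω)⁻¹ ∈ Q := (Subgroup.mem_normalizer_iff.1 (hn0 y.2) u).1 u.2
      have e1 := hfP ⟨_, hy⟩ (hQM0 hy)
      rw [map_apply_conj f y.2 (hQM0 u.2), hfP u _, hβv u _, hu] at e1
      have e2 : ((β ⟨(y : Ω) * u * (y : Ω)⁻¹, hQM0 hy⟩ : M0) : Ω) = ((β y : M0) : Ω) * w * ((β y : M0) : Ω)⁻¹ := by
        rw [show (⟨(y : Ω) * u * (y : Ω)⁻¹, hQM0 hy⟩ : M0) = y * ⟨u, hQM0 u.2⟩ * y⁻¹ from Subtype.ext rfl, map_mul,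
          map_mul, map_inv, Subgroup.coe_mul, Subgroup.coe_mul, Subgroup.coe_inv, hβv u _, hu]
      change f y * w * (f y)⁻¹ = ((β ⟨(y : Ω) * u * (y : Ω)⁻¹, hQM0 hy⟩ : M0) : Ω) at e1
      rw [e2] at e1
      calc w * (((β y : M0) : Ω)⁻¹ * f y) = ((β y : M0) : Ω)⁻¹ * (((β y : M0) : Ω) * w * ((β y : M0) : Ω)⁻¹) * f y := by group
        _ = ((β y : M0) : Ω)⁻¹ * (f y * w * (f y)⁻¹) * f y := by rw [e1]
        _ = ((β y : M0) : Ω)⁻¹ * f y * w := by group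
    have := M0.mul_mem (β y).2 (hQM0 hd)
    rwa [mul_inv_cancel_left] at this
  obtain ⟨α, hα, hαe⟩ := exists_aut_of_invariant E hf hfN
  set δ := β⁻¹ * α with hδ
  have hαP : Rel hQM0 α g := fun u => Subtype.ext (((hαe _).trans (hfP u (hQM0 u.2))).trans (hβv u (hQM0 u.2)))
  have hδP : Rel hQM0 δ 1 := by rw [← inv_mul_cancel g]; exact hβe.inv.mul hαP
  obtain ⟨j, hj⟩ := pElement_of_disp (hTp.to_le hM0T) hQM0 hδP fun y =>
    mem_of_centralizes hQc (T.mul_mem (T.inv_mem (hM0T y.2)) (hM0T (δ y).2))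
      (Subgroup.mem_centralizer_iff.1 (disp_centralizes hQM0 hn0 hδP y))
  have hnorm' : F.autGroup M0 ≤ Subgroup.normalizer (E.autGroup M0 : Set (MulAut M0)) := fun a ha =>
    mem_normalizer_of_conj_mem_finite fun b hb => conj_mem_aut hE.1 hM0T ha hb
  have hβE : β ∈ E.autGroup M0 := by
    refine mem_of_coprime_mul_pElement hnorm' hβF
      (Subgroup.mul_mem _ (Subgroup.inv_mem _ hβF) (autGroup_mono hsub M0 hα))
      (Nat.Coprime.coprime_dvd_left (rel_orderOf_dvd hξβ) hm) ⟨j, hj⟩ ?_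
    rw [mul_inv_cancel_left]
    exact hα
  exact ⟨ξ, ⟨⟨hξF, hξT⟩, β, hβE, hξβ⟩, hm, fun x h => hξg.apply x⟩

/-- An element of order prime to `p` of `Aut_E(P)` normalizing `A` extends in `seSys` to the preimage of `A`. -/
theorem pprime_extends (hS : IsPGroup p S) (hE : E.IsNormalIn F p) {P : Subgroup Ω} (hPT : P ≤ T)
    (hPc : E.IsCentric P) (hPE : E.IsFullyNormalized P) {A : Subgroup (MulAut P)} (hI : Inn P ≤ A)
    (hA : A ≤ autInducedBy S P) {g : MulAut P} (hg : g ∈ E.autGroup P) (hco : (orderOf g).Coprime p)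
    (hgA : cj g A = A) : ExtTo (seSys p F E) P A g := by
  obtain ⟨hEs, hF, hsub, hT, hAI, hfr⟩ := id hE.1
  haveI : Finite T := finite_of_le (S := S) hT.1
  have hPS := hPT.trans hT.1
  haveI := finite_of_le hPS
  obtain ⟨Q, hQ, hPQ⟩ := exists_nice hS hF hT hPT
  have hQn := hQ.fn hT
  have hQT := hQ.le
  haveI := finite_of_le hQn.1
  obtain ⟨θ, hθ, hθN, hθP⟩ := exists_normalizer_map_fullyNormalized hS hF hQn hPQ
  have hPN := le_normalizerIn hPS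
  set e := mapEquiv F (restrict_mem F hθ hPN) (extend_restrict_range hPN hθP) with hedef
  have he : equivHom e ∈ F.Hom P := equivHom_mapEquiv F _ _
  have hQc : E.IsCentric Q := centric_of_conj hE.1.2.2 hPc hPQ
  set g₀ := MulAut.congr e g with hg₀
  have hg₀E : g₀ ∈ E.autGroup Q := congr_mem_of_frattini hAI hQT e (hfr P hPT _ he) hg
  have hg₀o : (orderOf g₀).Coprime p := by rw [hg₀, MulEquiv.orderOf_eq]; exact hco
  set A₀ := A.map (MulAut.congr e).toMonoidHom with hA₀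
  have hθe : ∀ (x : P) (h : (x : Ω) ∈ normalizerIn S P), θ ⟨x, h⟩ = ((e x : Q) : Ω) := fun x h => rfl
  have hconj : ∀ (a : MulAut P) (s : normalizerIn S P), (∀ x : P, ((a x : P) : Ω) = s * x * (s : Ω)⁻¹) →
      ∀ y : Q, ((MulAut.congr e a y : Q) : Ω) = θ s * y * (θ s)⁻¹ := by
    intro a s hae y
    obtain ⟨x, rfl⟩ := e.surjective y
    rw [congr_apply, e.symm_apply_apply, ← hθe _ (hPN (a x).2), ← hθe x (hPN x.2), ← map_inv, ← map_mul,
      ← map_mul]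
    exact congrArg θ (Subtype.ext (hae x))
  have hI₀ : Inn Q ≤ A₀ := by
    rintro _ ⟨u, rfl⟩
    refine ⟨MulAut.conj (e.symm u), hI ⟨_, rfl⟩, MulEquiv.ext fun y => ?_⟩
    simp [congr_apply, MulAut.conj_apply]
  have hA₀S : A₀ ≤ autInducedBy S Q := by
    rintro _ ⟨a, ha, rfl⟩
    obtain ⟨s, hs, hse⟩ := exists_pre hA ha
    exact (mem_autInducedBy_iff _).2 ⟨θ ⟨s, pre_le hs⟩, hom_apply_mem F hθ _, hconj a _ hse⟩
  have hgA₀ : ∀ a ∈ A₀, g₀ * a * g₀⁻¹ ∈ A₀ := by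
    rintro _ ⟨a, ha, rfl⟩
    refine ⟨g * a * g⁻¹, ?_, by rw [hg₀]; simp [map_mul, map_inv]⟩
    have h1 : g * a * g⁻¹ ∈ cj g A := mem_cj.2 (by simpa [mul_assoc] using ha)
    exact hgA.le h1
  obtain ⟨ξ, hξ, hξo, hξg⟩ := exists_gAut_of_lift hS hE hQ hQc hI₀ hA₀S hg₀E hg₀o hgA₀
  -- pull back along `θ`
  set M := pre S P A with hMdef
  have hMN : M ≤ normalizerIn S P := pre_le
  have hθM := restrict_mem F hθ hMN
  set M₁ := (θ.comp (Subgroup.inclusion hMN)).range with hM₁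
  have hM₁le : M₁ ≤ pre S Q A₀ := by
    rintro _ ⟨s, rfl⟩
    obtain ⟨-, a, ha, hae⟩ := id s.2
    exact ⟨hom_apply_mem F hθ _, _, ⟨a, ha, rfl⟩, hconj a _ hae⟩
  have hNT : normalizerIn T P ≤ normalizerIn S P := inf_le_inf_right _ hT.1
  have hcardN : Nat.card (normalizerIn T Q) ≤ Nat.card (normalizerIn T P) := by
    obtain ⟨α, hα, φ₀, hφ₀, hαe⟩ := hfr P hPT _ he
    have h0 := hom_apply_mem E hφ₀
    have hαh := (mem_autGroup_iff F hT.1 α⁻¹).1 (Subgroup.inv_mem _ hα)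
    haveI : Finite φ₀.range := finite_of_le (range_le E hφ₀)
    refine le_trans ?_ (hPE.2 φ₀.range ⟨φ₀, hφ₀, rfl⟩)
    refine card_le_of_hom F hαh (normalizerIn_le T Q) ((normalizerIn_le T _).trans hT.1) fun u hu => ?_
    refine ⟨(α⁻¹ ⟨u, hu.1⟩).2, mem_normalizer_of_conj_mem_finite ?_⟩
    rintro _ ⟨x, rfl⟩
    have hx : u * ((e x : Q) : Ω) * u⁻¹ ∈ Q := (Subgroup.mem_normalizer_iff.1 hu.2 _).1 (e x).2
    obtain ⟨z, hz⟩ := e.surjective ⟨_, hx⟩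
    refine ⟨z, ?_⟩
    have ex : ∀ x : P, α⁻¹ ⟨((e x : Q) : Ω), hQT (e x).2⟩ = ⟨φ₀ x, h0 x⟩ := fun x => by
      rw [show (⟨((e x : Q) : Ω), hQT (e x).2⟩ : T) = α ⟨φ₀ x, h0 x⟩ from Subtype.ext (hαe x (h0 x)),
        MulAut.inv_apply_self]
    have h2 := congrArg Subtype.val (ex z)
    have h3 : (⟨((e z : Q) : Ω), hQT (e z).2⟩ : T) = ⟨u, hu.1⟩ * ⟨((e x : Q) : Ω), hQT (e x).2⟩ * ⟨u, hu.1⟩⁻¹ :=
      Subtype.ext (by rw [hz]; rfl)
    rw [h3, map_mul, map_mul, map_inv, ex x] at h2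
    exact h2.symm
  have hTinf : ∀ y ∈ pre S Q A₀, y ∈ T → y ∈ M₁ := by
    intro y hy hyT
    obtain ⟨x, hx, rfl⟩ := exists_preimage_of_card_le F hθ hNT ((normalizerIn_le T Q).trans hT.1)
      (fun u hu => ⟨stronglyClosed_apply_mem hT hθ _ hu.1, (hθN _).2⟩) hcardN y ⟨hyT, (pre_le hy).2⟩
    obtain ⟨-, a₀, ⟨a, ha, rfl⟩, hae⟩ := id hy
    refine ⟨⟨x, hT.1 hx.1, a, ha, fun z => ?_⟩, rfl⟩
    have hxz : x * (z : Ω) * x⁻¹ ∈ P := (Subgroup.mem_normalizer_iff.1 hx.2 _).1 z.2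
    have h1 := hae (e z)
    rw [MulEquiv.coe_toMonoidHom, congr_apply, e.symm_apply_apply, ← hθe _ (hPN (a z).2), ← hθe z (hPN z.2),
      ← map_inv, ← map_mul, ← map_mul] at h1
    exact congrArg Subtype.val (F.injective_of_mem hθ h1)
  haveI : Finite (pre S Q A₀) := finite_of_le (S := S) (pre_le.trans (normalizerIn_le S Q))
  have hξinv : ∀ y : pre S Q A₀, (y : Ω) ∈ M₁ → ((ξ y : pre S Q A₀) : Ω) ∈ M₁ := fun y hy => by
    have h1 := hξ.1.2 y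
    have h2 : (y : Ω)⁻¹ * ((ξ y : pre S Q A₀) : Ω) ∈ M₁ := hTinf _ ((y⁻¹ * ξ y : pre S Q A₀)).2 h1
    have := M₁.mul_mem hy h2
    rwa [mul_inv_cancel_left] at this
  have hM₀S : pre S Q A₀ ≤ S := pre_le.trans (normalizerIn_le S Q)
  obtain ⟨ξ₁, hξ₁F, hξξ₁⟩ := exists_rel F hM₁le hM₀S hξ.1.1 hξinv
  have hM₁S := hM₁le.trans hM₀S
  have hξ₁ : ξ₁ ∈ gAut F E M₁ := by
    refine ⟨⟨hξ₁F, fun y => ?_⟩, ?_⟩
    · have h1 := hξ.1.2 ⟨(y : Ω), hM₁le y.2⟩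
      rwa [hξξ₁.apply y] at h1
    · obtain ⟨b, hb, hξb⟩ := hξ.2
      obtain ⟨b₁, -, hb₁⟩ := exists_rel F (inf_le_left : M₁ ⊓ T ≤ M₁) hM₁S hξ₁F fun y hy =>
        ⟨(ξ₁ y).2, stronglyClosed_apply_mem hT ((equivHom_autGroup F hM₁S).1 hξ₁F) y hy.2⟩
      refine ⟨b₁, (equivHom_autGroup E inf_le_right).2 (hom_congr E
        (restrict_mem E ((equivHom_autGroup E inf_le_right).1 hb) (inf_le_inf_right T hM₁le)) fun y => ?_), hb₁⟩
      exact ((hb₁.apply y).symm.trans (hξξ₁.apply ⟨(y : Ω), y.2.1⟩).symm).trans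
        (hξb.apply (Subgroup.inclusion (inf_le_inf_right T hM₁le) y))
  set e' := mapEquiv F hθM (rfl : (θ.comp (Subgroup.inclusion hMN)).range = M₁) with he'
  have he'm : equivHom e' ∈ F.Hom M := equivHom_mapEquiv F _ _
  have he's := equivHom_symm_mem F e' he'm
  set x := MulAut.congr e'.symm ξ₁ with hxdef
  have hx : x ∈ gAut F E M := congr_mem_gAut hE.1.2.2 he's hξ₁
  have hMS : M ≤ S := hMN.trans (normalizerIn_le S P)
  have hgen : SGen p F E M x := by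
    refine ⟨isCentric_mono hPc (le_inf (self_le_pre hPS hI) hPT) inf_le_right, ?_, hx⟩
    rw [hxdef, MulEquiv.orderOf_eq]
    exact hξo.coprime_dvd_left (rel_orderOf_dvd hξξ₁)
  refine ⟨_, (mem_autGroup_iff _ hMS x).1 (sClosed_seSys M hMS x hgen), fun y hy => ?_⟩
  show ((x ⟨y, hy⟩ : M) : Ω) = ((g y : P) : Ω)
  have hgy : ((g y : P) : Ω) ∈ M := self_le_pre hPS hI (g y).2
  suffices h : ξ₁ (e' ⟨y, hy⟩) = e' ⟨_, hgy⟩ by
    rw [hxdef, congr_apply, MulEquiv.symm_symm, h, MulEquiv.symm_apply_apply]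
  refine Subtype.ext ?_
  rw [← hξξ₁.apply (e' ⟨y, hy⟩)]
  have h2 : (e' ⟨y, hy⟩ : Ω) = ((e y : Q) : Ω) := rfl
  rw [show (⟨(e' ⟨y, hy⟩ : Ω), hM₁le (e' ⟨y, hy⟩).2⟩ : pre S Q A₀) =
    ⟨((e y : Q) : Ω), h2 ▸ hM₁le (e' ⟨y, hy⟩).2⟩ from Subtype.ext h2, hξg (e y), hg₀, congr_apply,
    e.symm_apply_apply]
  rfl

end Cfsg.Agent.RelProd
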