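import Cfsg.Agent.Lib.RelProd.SEBig
import Cfsg.Agent.Lib.Fusion.PPowerExist

/-!
# Automorphisms trivial modulo the hyperfocal subgroup

An automorphism of `Q` of order prime to `p` trivial modulo `H = hyp(X)` whose restriction to `Q ∩ H` lies in `X`
agrees on `Q ∩ H` with such an automorphism of `X`, when the conjugates of `Q ∩ H` contain their centralizers
in `H`.
-/

set_option autoImplicit false
set_option linter.unusedSectionVars false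
set_option linter.style.haveILetI false

namespace Cfsg.Agent.RelProd

open Cfsg Cfsg.FusionSystem Cfsg.Agent.FusionSys Cfsg.Agent.FusionSys.FocCent
  Cfsg.Agent.FusionSys.KerClass Cfsg.Agent.FusionSys.LayerCore Cfsg.Agent.FusionMeet

variable {Ω : Type*} [Group Ω] {R H : Subgroup Ω} {p : ℕ} [hp : Fact p.Prime] [Finite R]

/-- The elements of order prime to `p` of the automizers are trivial modulo the hyperfocal subgroup. -/
theorem mod_hyperfocal {X : FusionSystem R} (hXH : X.hyperfocalSubgroup p = H) {Q : Subgroup Ω} (hQ : Q ≤ R)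
    {a : MulAut Q} (ha : a ∈ X.autGroup Q) (hco : (orderOf a).Coprime p) : a ∈ modTriv H Q := fun q => by
  rw [← hXH]
  exact hyperfocal_mem hQ (a := ⟨a, ha⟩) (Subgroup.subset_closure (by
    show (orderOf (⟨a, ha⟩ : X.autGroup Q)).Coprime p
    rwa [← Subgroup.orderOf_coe])) q

/-- The case of a receptive intersection with `H`. -/
theorem rigid_receptive {X : FusionSystem R} (hXH : X.hyperfocalSubgroup p = H) (hH : X.StronglyClosed H)
    {Q : Subgroup Ω} (hQ : Q ≤ R) (hrec : X.IsReceptive (Q ⊓ H))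
    (hcen : centralizerIn H (Q ⊓ H) ≤ Q ⊓ H) {a : MulAut Q} (hco : (orderOf a).Coprime p) (haH : a ∈ modTriv H Q)
    {a₁ : MulAut ↥(Q ⊓ H)} (ha₁ : a₁ ∈ X.autGroup (Q ⊓ H)) (hrel : Rel inf_le_left a a₁) :
    ∃ y ∈ X.autGroup Q, (orderOf y).Coprime p ∧ y ∈ modTriv H Q ∧ Rel inf_le_left y a₁ := by
  haveI := finite_of_le hQ
  have hHn := stronglyClosed_le_normalizer hH
  have hle : Q ⊓ H ≤ Q := inf_le_left
  have hZR : Q ⊓ H ≤ R := hle.trans hQ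
  haveI := finite_of_le hZR
  set C := centralizerIn R (Q ⊓ H) with hC
  have hQn : ∀ q ∈ Q, q ∈ Subgroup.normalizer ((Q ⊓ H : Subgroup Ω) : Set Ω) := fun q hq =>
    Subgroup.inf_normalizer_le_normalizer_inf ⟨Subgroup.le_normalizer hq, hHn (hQ hq)⟩
  obtain ⟨ψ, hψ, hψe⟩ := hrec.2 (Q ⊓ H) _ ((equivHom_autGroup _ hZR).1 ha₁) (equivHom_range a₁)
  have hv0 : ∀ u : ↥(Q ⊓ H), ((a₁ u : ↥(Q ⊓ H)) : Ω) = ((a ⟨u, u.2.1⟩ : Q) : Ω) := fun u => (hrel.apply u).symm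
  have hMle : Q ⊔ C ≤ extender R (Q ⊓ H) (equivHom a₁) := by
    refine sup_le (fun q hq => ?_) (centralizerIn_le_extender _)
    refine Subgroup.subset_closure ⟨hQ hq, hQn q hq, (a ⟨q, hq⟩ : Q), hQ (a _).2, fun u hu => ?_⟩
    rw [equivHom_apply, equivHom_apply, hv0, hv0, ← Subgroup.coe_inv, ← Subgroup.coe_mul, ← Subgroup.coe_mul,
      ← map_inv, ← map_mul, ← map_mul]
    rfl
  have hψM := restrict_mem _ hψ hMle
  set M := Q ⊔ C with hM
  have hMR : M ≤ R := sup_le hQ (centralizerIn_le _ _)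
  haveI := finite_of_le hMR
  have hQM : Q ≤ M := le_sup_left
  have hCM : C ≤ M := le_sup_right
  set φ := ψ.comp (Subgroup.inclusion hMle) with hφdef
  have hφ0 : ∀ (u : ↥(Q ⊓ H)) (h : (u : Ω) ∈ M), φ ⟨u, h⟩ = ((a₁ u : ↥(Q ⊓ H)) : Ω) := fun u h =>
    hψe u u.2 (hMle h)
  have hcomm : ∀ (m : M) (v : Ω), (∀ u : ↥(Q ⊓ H), φ m * ((a₁ u : ↥(Q ⊓ H)) : Ω) * (φ m)⁻¹ =
      v * ((a₁ u : ↥(Q ⊓ H)) : Ω) * v⁻¹) → v ∈ R → v⁻¹ * φ m ∈ C := by
    intro m v hv hvS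
    refine ⟨R.mul_mem (R.inv_mem hvS) (hom_apply_mem _ hψM m), Subgroup.mem_centralizer_iff.2 fun z hz => ?_⟩
    obtain ⟨u, hu⟩ := a₁.surjective ⟨z, hz⟩
    have e := hv u
    rw [hu] at e
    calc z * (v⁻¹ * φ m) = v⁻¹ * (v * z * v⁻¹) * φ m := by group
      _ = v⁻¹ * (φ m * z * (φ m)⁻¹) * φ m := by rw [← e]
      _ = _ := by group
  have hφC : ∀ (c : Ω) (hc : c ∈ C), φ ⟨c, hCM hc⟩ ∈ C := by
    intro c hc
    have := hcomm ⟨c, hCM hc⟩ 1 (fun u => by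
      have hu : (u : Ω) ∈ M := hQM u.2.1
      rw [← hφ0 u hu, one_mul, inv_one, mul_one, ← map_inv, ← map_mul, ← map_mul]
      refine congrArg φ (Subtype.ext ?_)
      show c * (u : Ω) * c⁻¹ = u
      rw [← Subgroup.mem_centralizer_iff.1 hc.2 u u.2, mul_inv_cancel_right]) R.one_mem
    rwa [inv_one, one_mul] at this
  have hφQ : ∀ (q : Ω) (hq : q ∈ Q), ((a ⟨q, hq⟩ : Q) : Ω)⁻¹ * φ ⟨q, hQM hq⟩ ∈ C := by
    intro q hq
    refine hcomm _ _ (fun u => ?_) (hQ (a _).2)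
    have hw : q * (u : Ω) * q⁻¹ ∈ Q ⊓ H := (Subgroup.mem_normalizer_iff.1 (hQn q hq) _).1 u.2
    have e1 := hφ0 ⟨_, hw⟩ (hQM hw.1)
    rw [map_apply_conj φ (hQM hq) (hQM u.2.1), hφ0, hv0 ⟨_, hw⟩] at e1
    rw [e1, hv0, ← Subgroup.coe_inv, ← Subgroup.coe_mul, ← Subgroup.coe_mul, ← map_inv, ← map_mul, ← map_mul]
    rfl
  have hinv : ∀ m : M, φ m ∈ M := by
    have h : Q ⊔ C ≤ ((M.comap φ)).map M.subtype := sup_le
      (fun q hq => ⟨⟨q, hQM hq⟩, by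
        have := M.mul_mem (hQM (a ⟨q, hq⟩).2) (hCM (hφQ q hq))
        rwa [mul_inv_cancel_left] at this, rfl⟩)
      fun c hc => ⟨⟨c, hCM hc⟩, hCM (hφC c hc), rfl⟩
    intro m
    obtain ⟨m', hm', he⟩ := h m.2
    rwa [show m = m' from Subtype.ext he.symm]
  obtain ⟨ξ, hξ, hξe⟩ := exists_aut_of_invariant _ hψM hinv
  have hξ0 : Rel (hle.trans hQM) ξ a₁ := fun u => Subtype.ext ((hξe _).trans (hφ0 u _))
  have hco₁ : (orderOf a₁).Coprime p := hco.coprime_dvd_left (rel_orderOf_dvd hrel)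
  obtain ⟨n, hn, hne⟩ := exists_pprime_exp p ξ a₁ hco₁
  set η := ξ ^ n with hη
  have hη0 : Rel (hle.trans hQM) η a₁ := by rw [← hne]; exact hξ0.pow n
  have hηX : η ∈ X.autGroup M := Subgroup.pow_mem _ hξ n
  have hηh := (mem_autGroup_iff _ hMR η).1 hηX
  have hηH := mod_hyperfocal hXH hMR hηX hn
  have hηQ : ∀ (q : Ω) (hq : q ∈ Q), ((η ⟨q, hQM hq⟩ : M) : Ω) ∈ Q := by
    intro q hq
    set y := a ⟨q, hq⟩ with hy
    have h1 : ((y : Q) : Ω)⁻¹ * ((η ⟨q, hQM hq⟩ : M) : Ω) ∈ H := by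
      have := H.mul_mem (H.inv_mem (haH ⟨q, hq⟩)) (hηH ⟨q, hQM hq⟩)
      simpa [mul_assoc] using this
    have h2 : ((y : Q) : Ω)⁻¹ * ((η ⟨q, hQM hq⟩ : M) : Ω) ∈ Q ⊓ H := by
      refine hcen ⟨h1, Subgroup.mem_centralizer_iff.2 fun z hz => ?_⟩
      obtain ⟨u, hu⟩ := a₁.surjective ⟨z, hz⟩
      have hw : q * (u : Ω) * q⁻¹ ∈ Q ⊓ H := (Subgroup.mem_normalizer_iff.1 (hQn q hq) _).1 u.2
      have e1 : ((η (⟨q, hQM hq⟩ * ⟨u, hQM u.2.1⟩ * ⟨q, hQM hq⟩⁻¹) : M) : Ω) =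
          ((a₁ ⟨_, hw⟩ : ↥(Q ⊓ H)) : Ω) := hη0.apply ⟨_, hw⟩
      rw [map_mul, map_mul, map_inv, Subgroup.coe_mul, Subgroup.coe_mul, Subgroup.coe_inv, hη0.apply u, hu,
        hv0 ⟨_, hw⟩] at e1
      have e2 : ((a ⟨q * (u : Ω) * q⁻¹, hw.1⟩ : Q) : Ω) = (y : Ω) * z * (y : Ω)⁻¹ := by
        rw [show (⟨q * (u : Ω) * q⁻¹, hw.1⟩ : Q) = ⟨q, hq⟩ * ⟨u, u.2.1⟩ * ⟨q, hq⟩⁻¹ from Subtype.ext rfl, map_mul,
          map_mul, map_inv, Subgroup.coe_mul, Subgroup.coe_mul, Subgroup.coe_inv, ← hv0 u, hu]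
      rw [e2] at e1
      set m := ((η ⟨q, hQM hq⟩ : M) : Ω)
      change m * z * m⁻¹ = (y : Ω) * z * (y : Ω)⁻¹ at e1
      calc z * ((y : Ω)⁻¹ * m) = (y : Ω)⁻¹ * ((y : Ω) * z * (y : Ω)⁻¹) * m := by group
        _ = (y : Ω)⁻¹ * (m * z * m⁻¹) * m := by rw [e1]
        _ = _ := by group
    have := Q.mul_mem y.2 h2.1
    rwa [mul_inv_cancel_left] at this
  obtain ⟨ζ, hζ, hζe⟩ := exists_rel X hQM hMR hηX fun y hy => hηQ y hy
  have hζo : (orderOf ζ).Coprime p := hn.coprime_dvd_left (rel_orderOf_dvd hζe)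
  exact ⟨ζ, hζ, hζo, mod_hyperfocal hXH hQ hζ hζo, rel_descend hζe hη0⟩

/-- The automorphism of `X` with the given restriction to `Q ∩ H`, and the difference. -/
theorem rigid (hR : IsPGroup p R) {X : FusionSystem R} (hX : X.IsSaturated p)
    (hXH : X.hyperfocalSubgroup p = H) {Q : Subgroup Ω} (hQ : Q ≤ R)
    (hcen : ∀ Z, X.IsConj (Q ⊓ H) Z → centralizerIn H Z ≤ Z) {a : MulAut Q} (hco : (orderOf a).Coprime p)
    (haH : a ∈ modTriv H Q) {a₁ : MulAut ↥(Q ⊓ H)} (ha₁ : a₁ ∈ X.autGroup (Q ⊓ H))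
    (hrel : Rel inf_le_left a a₁) :
    ∃ y ∈ X.autGroup Q, (orderOf y).Coprime p ∧ y⁻¹ * a ∈ modTriv H Q ∧
      (∀ x : Q, (x : Ω) ∈ H → (y⁻¹ * a) x = x) ∧ ∃ k : ℕ, (y⁻¹ * a) ^ p ^ k = 1 := by
  have hH : X.StronglyClosed H := hXH ▸ hyperfocal_stronglyClosed hR hX
  have hHn := stronglyClosed_le_normalizer hH
  haveI := finite_of_le hQ
  have hle : Q ⊓ H ≤ Q := inf_le_left
  obtain ⟨Z, hQZ, hZn⟩ := exists_fullyNormalized X (hle.trans hQ)
  obtain ⟨χ, hχ, -, hχZ⟩ := exists_normalizer_map_fullyNormalized hR hX hZn hQZ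
  have hQN : Q ≤ normalizerIn R (Q ⊓ H) := fun q hq =>
    ⟨hQ hq, Subgroup.inf_normalizer_le_normalizer_inf ⟨Subgroup.le_normalizer hq, hHn (hQ hq)⟩⟩
  set Q' := imgOf χ Q with hQ'
  have hQ'R : Q' ≤ R := imgOf_le X hχ
  have hQ'H : Q' ⊓ H = Z := by rw [hQ', ← imgOf_inf hH hχ hQN]; exact hχZ
  set e : Q ≃* Q' := mapEquiv X (restrict_mem X hχ hQN) (range_restrict χ hQN)
  have heX : equivHom e ∈ X.Hom Q := equivHom_mapEquiv X _ _
  have heX' := equivHom_symm_mem X e heX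
  haveI := finite_of_le hQ'R
  set b := MulAut.congr e a with hb
  have hbo : (orderOf b).Coprime p := by rw [hb, MulEquiv.orderOf_eq]; exact hco
  have hbH : b ∈ modTriv H Q' := fun z => by
    obtain ⟨q, rfl⟩ := e.surjective z
    rw [hb, congr_apply, e.symm_apply_apply, ← Subgroup.coe_inv, ← Subgroup.coe_mul, ← map_inv, ← map_mul]
    exact stronglyClosed_apply_mem hH heX (q⁻¹ * a q) (haH q)
  have hmem : ∀ q : Q, (q : Ω) ∈ H ↔ ((e q : Q') : Ω) ∈ H := fun q =>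
    ⟨fun h => stronglyClosed_apply_mem hH heX q h, fun h => by
      have h' := stronglyClosed_apply_mem hH heX' (e q) h
      rwa [equivHom_apply, e.symm_apply_apply] at h'⟩
  have hr : ((equivHom e).comp (Subgroup.inclusion hle)).range = Q' ⊓ H := by
    refine ((range_restrict (equivHom e) hle).trans
      (imgOf_congr hle (hle.trans hQN) fun x hx => rfl)).trans ?_
    exact imgOf_inf hH hχ hQN
  set e₁ : ↥(Q ⊓ H) ≃* ↥(Q' ⊓ H) := mapEquiv X (restrict_mem X heX hle) hr with he₁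
  have he₁X : equivHom e₁ ∈ X.Hom (Q ⊓ H) := equivHom_mapEquiv X _ _
  set b₁ := MulAut.congr e₁ a₁ with hb₁
  have hb₁X : b₁ ∈ X.autGroup (Q' ⊓ H) := congr_mem_autGroup X e₁ he₁X (equivHom_symm_mem X e₁ he₁X) ha₁
  have hbrel : Rel inf_le_left b b₁ := fun u => by
    obtain ⟨v, rfl⟩ := e₁.surjective u
    rw [hb, congr_apply, show b₁ (e₁ v) = e₁ (a₁ v) from congrArg (fun w => e₁ (a₁ w)) (e₁.symm_apply_apply v),
      show Subgroup.inclusion (inf_le_left : Q' ⊓ H ≤ Q') (e₁ v) = e (Subgroup.inclusion hle v) from Subtype.ext rfl,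
      e.symm_apply_apply, hrel v]
    exact Subtype.ext rfl
  have hcen' : centralizerIn H (Q' ⊓ H) ≤ Q' ⊓ H := hcen _ ⟨_, restrict_mem X heX hle, hr⟩
  obtain ⟨z, hz, hzo, hzH, hzr⟩ := rigid_receptive hXH hH hQ'R
    (hQ'H.symm ▸ fullyNormalized_receptive hR hX hZn) hcen' hbo hbH hb₁X hbrel
  set y := MulAut.congr e.symm z with hy
  have hyX : y ∈ X.autGroup Q := congr_mem_autGroup X e.symm heX' (by rwa [MulEquiv.symm_symm]) hz
  have hyo : (orderOf y).Coprime p := by rw [hy, MulEquiv.orderOf_eq]; exact hzo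
  have hdH : y⁻¹ * a ∈ modTriv H Q :=
    (modTriv H Q).mul_mem ((modTriv H Q).inv_mem (mod_hyperfocal hXH hQ hyX hyo)) haH
  have hdfix : ∀ x : Q, (x : Ω) ∈ H → (y⁻¹ * a) x = x := by
    intro x hx
    apply y.injective
    rw [MulAut.mul_apply, MulAut.apply_inv_self, hy, congr_apply, MulEquiv.symm_symm]
    apply e.injective
    rw [e.apply_symm_apply]
    have h1 := hbrel ⟨(e x : Ω), (e x).2, (hmem x).1 hx⟩
    have h2 := hzr ⟨(e x : Ω), (e x).2, (hmem x).1 hx⟩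
    rw [show Subgroup.inclusion (inf_le_left : Q' ⊓ H ≤ Q') ⟨(e x : Ω), (e x).2, (hmem x).1 hx⟩ = e x from rfl]
      at h1 h2
    rw [h2, ← h1, hb, congr_apply, e.symm_apply_apply]
  refine ⟨y, hyX, hyo, hdH, hdfix, pElement_of_disp (hR.to_le hQ) hle (fun u => hdfix _ u.2.2) fun q => ?_⟩
  exact ⟨Q.mul_mem (Q.inv_mem q.2) ((y⁻¹ * a) q).2, hdH q⟩

end Cfsg.Agent.RelProd
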