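import Cfsg.Agent.Lib.RelProd.SEFull
import Cfsg.Agent.Lib.RelProd.SERigid
import Cfsg.Agent.Lib.RelProd.CentricSub

/-!
# The product of a normal subsystem with an overgroup of its carrier

Over `R` with `T ≤ R` it is the subsystem of `p`-power index of `seSys`; it is determined by its `p`-residual.
-/

set_option autoImplicit false
set_option linter.unusedSectionVars false
set_option linter.style.haveILetI false

namespace Cfsg.Agent.RelProd

open Cfsg Cfsg.FusionSystem Cfsg.Agent.FusionSys Cfsg.Agent.FusionSys.FocCent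
  Cfsg.Agent.FusionSys.KerClass Cfsg.Agent.FusionSys.LayerCore Cfsg.Agent.FusionMeet

variable {Ω : Type*} [Group Ω] {S T R H : Subgroup Ω} {p : ℕ} [hp : Fact p.Prime]

/-- Elements of `O^p` of an automizer. -/
theorem opOf_index {D : FusionSystem H} {X : FusionSystem R} (hi : D.HasPPowerIndexIn X p) {Q : Subgroup Ω}
    (hQ : Q ≤ H) {a : MulAut Q} (ha : a ∈ X.autGroup Q) (hco : (orderOf a).Coprime p) : a ∈ D.autGroup Q :=
  hi.2.2 Q hQ ⟨⟨a, ha⟩, Subgroup.subset_closure (by
    show (orderOf (⟨a, ha⟩ : X.autGroup Q)).Coprime p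
    rwa [← Subgroup.orderOf_coe]), rfl⟩

variable [Finite S] {F : FusionSystem S} {E : FusionSystem T}

/-- The hyperfocal subgroup of `seSys` is that of the normal subsystem. -/
theorem seSys_hyperfocal (hS : IsPGroup p S) (hE : E.IsNormalIn F p) :
    (seSys p F E).hyperfocalSubgroup p = E.hyperfocalSubgroup p := by
  have hT := hE.1.2.2.2.1
  haveI : Finite T := finite_of_le (S := S) hT.1
  have hle : E.IsSubsystemOf (seSys p F E) := fun P φ hφ => e_le_seSys hS hE hφ
  refine le_antisymm ((Subgroup.closure_le _).2 ?_) (hyperfocal_sub_mono hle)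
  rintro _ ⟨P, a, x, hP, ha, rfl⟩
  haveI := finite_of_le hP
  set H := E.hyperfocalSubgroup p
  -- generators
  have hgen : ∀ b : (seSys p F E).autGroup P, (orderOf b).Coprime p → ∀ y : P,
      (y : Ω)⁻¹ * ((b : MulAut P) y : Ω) ∈ H := by
    intro b hb y
    have hb' : (orderOf (b : MulAut P)).Coprime p := by rwa [Subgroup.orderOf_coe]
    obtain ⟨⟨hbF, hbT⟩, c, hc, hbc⟩ := seSys_pprime hS hE hP b.2 hb'
    have hQ : ∀ (l : ℕ) (t : P), (t : Ω) ∈ T → (t : Ω)⁻¹ * ((((b : MulAut P) ^ l) t : P) : Ω) ∈ H := by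
      intro l t ht
      haveI := finite_of_le (inf_le_left.trans hP : P ⊓ T ≤ S)
      have hco : (orderOf (c ^ l)).Coprime p :=
        (hb'.coprime_dvd_left (rel_orderOf_dvd hbc)).coprime_dvd_left (orderOf_pow_dvd l)
      have h := mod_hyperfocal (X := E) (H := H) rfl inf_le_right (Subgroup.pow_mem _ hc l) hco ⟨(t : Ω), t.2, ht⟩
      have e := (hbc.pow l).apply ⟨(t : Ω), t.2, ht⟩
      change (t : Ω)⁻¹ * _ ∈ H at h
      rwa [← e] at h
    obtain ⟨t, ht⟩ : ∃ t : P, (b : MulAut P) y = y * t := ⟨_, (mul_inv_cancel_left _ _).symm⟩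
    have htT : (t : Ω) ∈ T := by
      have h := hbT y
      rwa [ht, Subgroup.coe_mul, inv_mul_cancel_left] at h
    have key : ∀ l : ℕ, ((t : Ω) ^ l)⁻¹ * ((y : Ω)⁻¹ * (((b : MulAut P) ^ l) y : Ω)) ∈ H := by
      intro l
      induction l with
      | zero => simp
      | succ l ih =>
        have h1 := hQ l t htT
        have h2 := hyperfocal_conj_mem E (T.inv_mem htT) ih
        have h3 := H.mul_mem h2 h1
        convert h3 using 1
        rw [pow_succ (b : MulAut P), MulAut.mul_apply, ht, map_mul,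
          Subgroup.coe_mul, pow_succ]
        group
    have hn : (t : Ω) ^ orderOf b ∈ H := by
      have h := key (orderOf b)
      rw [show (b : MulAut P) ^ orderOf b = 1 by rw [← Subgroup.coe_pow, pow_orderOf_eq_one]; rfl] at h
      simpa using h
    obtain ⟨e, he⟩ := hS ⟨t, hP t.2⟩
    have he' : (t : Ω) ^ p ^ e = 1 := congrArg Subtype.val he
    obtain ⟨l, hl⟩ := exists_pow_eq_self_of_coprime (x := (t : Ω))
      (Nat.Coprime.coprime_dvd_right (orderOf_dvd_of_pow_eq_one he') (hb.pow_right e))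
    rw [ht, Subgroup.coe_mul, inv_mul_cancel_left, ← hl]
    exact H.pow_mem hn l
  unfold Cfsg.pResidual at ha
  rw [← Subgroup.mem_toSubmonoid, Subgroup.closure_toSubmonoid_of_finite] at ha
  induction ha using Submonoid.closure_induction generalizing x with
  | mem b hb => exact hgen b hb x
  | one => simp
  | mul b c _ _ hb hc =>
    have := H.mul_mem (hc x) (hb ((c : MulAut P) x))
    simpa [mul_assoc] using this

/-- Existence over `R`. -/
theorem exists_product (hS : IsPGroup p S) (hE : E.IsNormalIn F p) (hTR : T ≤ R) (hRS : R ≤ S) :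
    ∃ D : FusionSystem R, D.IsSaturated p ∧ D.HasPPowerIndexIn (seSys p F E) p ∧ E.IsSubsystemOf D ∧
      D.hyperfocalSubgroup p = E.hyperfocalSubgroup p := by
  haveI : Finite T := finite_of_le (S := S) hE.1.2.2.2.1.1
  obtain ⟨D, hD, hDi, -⟩ := exists_pPower hS (seSys_saturated hS hE) hRS
    ((seSys_hyperfocal hS hE).le.trans ((hyperfocal_le E).trans hTR))
  have hED : E.IsSubsystemOf D :=
    pPower_le (hS.to_le (hTR.trans hRS)) hE.1.1 (fun P φ hφ => e_le_seSys hS hE hφ) hTR hDi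
  exact ⟨D, hD, hDi, hED,
    le_antisymm ((hyperfocal_sub_mono hDi.1).trans (seSys_hyperfocal hS hE).le) (hyperfocal_sub_mono hED)⟩

/-- The residuals agree. -/
theorem residual_hom_eq {U W : Subgroup Ω} (hUW : U = W) {G : FusionSystem R} {A : FusionSystem U}
    {B : FusionSystem W} [Finite W] (hW : IsPGroup p W) (hA : A.IsSaturated p) (hAi : A.HasPPowerIndexIn G p)
    (hB : B.IsSaturated p) (hBi : B.HasPPowerIndexIn G p) : ∀ P, A.Hom P = B.Hom P := by
  subst hUW
  obtain rfl : A = B := pPower_unique hW hB hBi hA hAi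
  exact fun _ => rfl

theorem index_congr {U W : Subgroup Ω} (hUW : U = W) {G : FusionSystem R} {A : FusionSystem U} {B : FusionSystem W}
    (h : ∀ P, A.Hom P = B.Hom P) (hi : A.HasPPowerIndexIn G p) : B.HasPPowerIndexIn G p := by
  subst hUW
  obtain rfl : A = B := hom_ext _ _ h
  exact hi

/-- Any candidate equals the product. -/
theorem product_unique (hS : IsPGroup p S) (hE : E.IsNormalIn F p) (hTR : T ≤ R) (hRS : R ≤ S)
    (hH : E.hyperfocalSubgroup p = H) {D X : FusionSystem R} (hD : D.IsSaturated p)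
    (hDi : D.HasPPowerIndexIn (seSys p F E) p) (hED : E.IsSubsystemOf D) (hDH : D.hyperfocalSubgroup p = H)
    (hX : X.IsSaturated p) (hXF : X.IsSubsystemOf F) (hXH : X.hyperfocalSubgroup p = H) {E₁ : FusionSystem H}
    (hE₁ : E₁.IsSaturated p) (hE₁E : E₁.HasPPowerIndexIn E p) (hE₁X : E₁.HasPPowerIndexIn X p)
    (hE₁D : E₁.HasPPowerIndexIn D p) : D = X := by
  obtain ⟨hEs, hF, hsub, hT, hAI, hfr⟩ := id hE.1
  haveI : Finite T := finite_of_le (S := S) hT.1
  haveI : Finite R := finite_of_le (S := S) hRS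
  have hTp : IsPGroup p T := hS.to_le hT.1
  have hRp : IsPGroup p R := hS.to_le hRS
  have hHT : H ≤ T := hH ▸ hyperfocal_le E
  have hHR : H ≤ R := hHT.trans hTR
  -- the residual is normal
  have hHnT : (H.subgroupOf T).Normal := ⟨fun n hn g => hH ▸ hyperfocal_conj_mem E g.2 (hH ▸ hn : (n : Ω) ∈ _)⟩
  have hHnR : (H.subgroupOf R).Normal := ⟨fun n hn g => hXH ▸ hyperfocal_conj_mem X g.2 (hXH ▸ hn : (n : Ω) ∈ _)⟩
  have hnE := pPower_isNormalIn hTp hEs hHT hHnT hE₁ hE₁E
  have hnX := pPower_isNormalIn hRp hX hHR hHnR hE₁ hE₁X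
  have hnD := pPower_isNormalIn hRp hD hHR hHnR hE₁ hE₁D
  have hXT : X.StronglyClosed T := ⟨hTR, fun U hU φ hφ x => hT.2 U hU φ (hXF U hφ) x⟩
  -- centric intersections with `H`
  have hcent : ∀ {U : Subgroup Ω} [Finite U] {G : FusionSystem U}, IsPGroup p U → G.IsSaturated p →
      E₁.IsNormalIn G p → ∀ {P : Subgroup Ω}, (P = U ∨ (G.IsCentric P ∧ G.IsRadical p P)) →
      ∀ Z, G.IsConj (P ⊓ H) Z → centralizerIn H Z ≤ Z := by
    intro U _ G hUp hG hn P hP Z hZ
    have hc : E₁.IsCentric (P ⊓ H) := by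
      rcases hP with rfl | ⟨hc, hr⟩
      · haveI : Finite H := finite_of_le (S := P) hn.1.2.2.2.1.1
        rw [inf_eq_right.2 hn.1.2.2.2.1.1]
        exact ⟨le_rfl, fun X hX => (centralizerIn_le H X).trans
          (Subgroup.eq_of_le_of_card_ge (isConj_le_right hX) (isConj_card hX).le).ge⟩
      · by_contra h
        exact (Cfsg.Agent.S5251.result p hUp G hG E₁ hn P hc h).2 hr
    have hZc := centric_of_conj hn.1.2.2 hc hZ
    exact hZc.2 Z (isConj_refl E₁ hZc.1)
  have hsyl : ∀ {U : Subgroup Ω} [Finite U] {G : FusionSystem U}, IsPGroup p U → G.IsSaturated p →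
      G.StronglyClosed H → ∀ {P : Subgroup Ω}, G.IsFullyNormalized P → ∀ d ∈ G.autGroup P, d ∈ modTriv H P →
      (∀ x : P, (x : Ω) ∈ H → d x = x) → d ∈ autInducedBy U P := by
    intro U _ G hUp hG hGH P hP d hd hdH hfix
    haveI := finite_of_le hP.1
    have h1 := Cfsg.Agent.S5251.stab_mem_pCore hUp hGH hP.1 ⟨d, hd⟩ hdH hfix
    obtain ⟨-, Q, hQ⟩ := (fullyNormalized_imp hUp hG hP).2
    exact Subgroup.mem_subgroupOf.1 (hQ.le (Cfsg.Agent.PBasic.pCore_le_sylow Q h1))
  have hnormE : ∀ {P : Subgroup Ω}, P ≤ T → F.autGroup P ≤ Subgroup.normalizer (E.autGroup P : Set (MulAut P)) :=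
    fun {P} hP a ha => by
      haveI := finite_of_le (hP.trans hT.1)
      exact mem_normalizer_of_conj_mem_finite fun b hb => conj_mem_aut hE.1 hP ha hb
  -- the normal subsystem lies in the candidate
  have hEX : E.IsSubsystemOf X := by
    have key : E ≤ restrictSys X T hXT := by
      refine alperin_centric_radical hTp hEs fun P hP => ?_
      have hPn : E.IsFullyNormalized P := hP.elim (fun h => h ▸ fullyNormalized_top E) fun h => h.2.2
      have hPT := hPn.1
      have hPR := hPT.trans hTR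
      haveI := finite_of_le hPR
      have hc := hcent hTp hEs hnE (hP.imp_right fun h => ⟨h.1, h.2.1⟩)
      intro α hα
      refine (mem_autGroup_iff _ hPT α).2 ⟨(mem_autGroup_iff _ hPR α).1 ?_, hPT⟩
      refine ((le_sylow_sup_opOf (isSyl_of_fullyAutomized (fullyNormalized_imp hTp hEs hPn).2)).trans
        (sup_le ((autInducedBy_mono hTR).trans (autInducedBy_le_autGroup X hPR))
          ((Subgroup.closure_le _).2 fun a ha => ?_))) hα
      have haF := autGroup_mono hsub P ha.1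
      obtain ⟨a₁, ha₁, hrel⟩ := exists_rel E (inf_le_left : P ⊓ H ≤ P) hPT ha.1 fun y hy => ⟨(a y).2,
        stronglyClosed_apply_mem hnE.1.2.2.2.1 ((mem_autGroup_iff E hPT a).1 ha.1) y hy.2⟩
      have ha₁' : a₁ ∈ E₁.autGroup (P ⊓ H) :=
        opOf_index hE₁E inf_le_right ha₁ (ha.2.coprime_dvd_left (rel_orderOf_dvd hrel))
      have hcen : ∀ Z, X.IsConj (P ⊓ H) Z → centralizerIn H Z ≤ Z := by
        intro Z hZ
        have h1 : E₁.IsCentric (P ⊓ H) := ⟨inf_le_right, fun W hW => hc W (by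
          obtain ⟨φ, hφ, hr⟩ := hW
          exact ⟨φ, hE₁E.1 _ hφ, hr⟩)⟩
        have h2 := centric_of_conj hnX.1.2.2 h1 hZ
        exact h2.2 Z (isConj_refl E₁ h2.1)
      obtain ⟨y, hyX, hyo, hdH, hfix, hdp⟩ := rigid hRp hX hXH hPR hcen ha.2
        (mod_hyperfocal hH hPT ha.1 ha.2) (autGroup_mono hE₁X.1 _ ha₁') hrel
      have hyF := autGroup_mono hXF P hyX
      have hyE : y ∈ E.autGroup P := mem_of_coprime_mul_pElement (hnormE hPT) hyF
        (Subgroup.mul_mem _ (Subgroup.inv_mem _ hyF) haF) hyo hdp (by rw [mul_inv_cancel_left]; exact ha.1)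
      have hd : y⁻¹ * a ∈ autInducedBy T P := hsyl hTp hEs hnE.1.2.2.2.1 hPn _
        (Subgroup.mul_mem _ (Subgroup.inv_mem _ hyE) ha.1) hdH hfix
      have := Subgroup.mul_mem _ hyX (autInducedBy_le_autGroup X hPR (autInducedBy_mono hTR hd))
      rwa [mul_inv_cancel_left] at this
    exact fun P φ hφ => (key P hφ).1
  -- the candidate lies in the product
  have hXD : X.IsSubsystemOf D := by
    have key : X ≤ interSub X (seSys p F E) hRS := by
      refine alperin_centric_radical hRp hX fun P hP => ?_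
      have hPn : X.IsFullyNormalized P := hP.elim (fun h => h ▸ fullyNormalized_top X) fun h => h.2.2
      have hPR := hPn.1
      have hPS := hPR.trans hRS
      haveI := finite_of_le hPS
      have hc := hcent hRp hX hnX (hP.imp_right fun h => ⟨h.1, h.2.1⟩)
      have hPTc : E.IsCentric (P ⊓ T) := by
        rcases hP with rfl | ⟨hPc, hr, -⟩
        · rw [inf_eq_right.2 hTR]; exact centric_top hE
        · by_contra h
          exact (outer_core_of_sub hRp hX hEX hXT P hPc h).2 hr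
      intro α hα
      refine (mem_autGroup_iff _ hPR α).2 ⟨(mem_autGroup_iff X hPR α).1 hα, (mem_autGroup_iff _ hPS α).1 ?_⟩
      refine ((le_sylow_sup_opOf (isSyl_of_fullyAutomized (fullyNormalized_imp hRp hX hPn).2)).trans
        (sup_le ((autInducedBy_mono hRS).trans (autInducedBy_le_autGroup _ hPS))
          ((Subgroup.closure_le _).2 fun a ha => sClosed_seSys P hPS a ?_))) hα
      have haF := autGroup_mono hXF P ha.1
      have haH := mod_hyperfocal hXH hPR ha.1 ha.2
      have haX := (mem_autGroup_iff X hPR a).1 ha.1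
      refine ⟨hPTc, ha.2, ⟨haF, fun q => hHT (haH q)⟩, ?_⟩
      have hQR : P ⊓ T ≤ R := inf_le_left.trans hPR
      haveI := finite_of_le hQR
      obtain ⟨b, hb, hab⟩ := exists_rel X (inf_le_left : P ⊓ T ≤ P) hPR ha.1 fun y hy =>
        ⟨(a y).2, stronglyClosed_apply_mem hXT haX y hy.2⟩
      refine ⟨b, ?_, hab⟩
      have hQH : P ⊓ T ⊓ H = P ⊓ H := by rw [inf_assoc, inf_eq_right.2 hHT]
      have hbo := ha.2.coprime_dvd_left (rel_orderOf_dvd hab)
      obtain ⟨b₁, hb₁, hrel⟩ := exists_rel X (inf_le_left : P ⊓ T ⊓ H ≤ P ⊓ T) hQR hb fun y hy => ⟨(b y).2,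
        stronglyClosed_apply_mem hnX.1.2.2.2.1 ((mem_autGroup_iff X hQR b).1 hb) y hy.2⟩
      have hb₁' : b₁ ∈ E₁.autGroup (P ⊓ T ⊓ H) :=
        opOf_index hE₁X inf_le_right hb₁ (hbo.coprime_dvd_left (rel_orderOf_dvd hrel))
      have hcen : ∀ Z, E.IsConj (P ⊓ T ⊓ H) Z → centralizerIn H Z ≤ Z := fun Z hZ => hc Z (by
        obtain ⟨φ, hφ, hr⟩ := hZ
        rw [← hQH]
        exact ⟨φ, hEX _ hφ, hr⟩)
      obtain ⟨y, hyE, hyo, hdH, hfix, hdp⟩ := rigid hTp hEs hH inf_le_right hcen hbo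
        (mod_hyperfocal hXH hQR hb hbo) (autGroup_mono hE₁E.1 _ hb₁') hrel
      have hbF := autGroup_mono hXF _ hb
      have hdF : y⁻¹ * b ∈ F.autGroup (P ⊓ T) :=
        Subgroup.mul_mem _ (Subgroup.inv_mem _ (autGroup_mono hsub _ hyE)) hbF
      obtain ⟨k, hk⟩ := hdp
      refine mem_of_coprime_mul_pElement (hnormE inf_le_right) hbF (Subgroup.inv_mem _ hdF) hbo
        ⟨k, by rw [inv_pow, hk, inv_one]⟩ ?_
      rwa [mul_inv_rev, inv_inv, ← mul_assoc, mul_inv_cancel, one_mul]
    exact pPower_le hRp hX (fun P φ hφ => (key P hφ).2) le_rfl hDi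
  -- and contains it
  have hDX : D ≤ X := by
    refine alperin_centric_radical hRp hD fun P hP => ?_
    have hPn : D.IsFullyNormalized P := hP.elim (fun h => h ▸ fullyNormalized_top D) fun h => h.2.2
    have hPR := hPn.1
    have hPS := hPR.trans hRS
    haveI := finite_of_le hPS
    have hc := hcent hRp hD hnD (hP.imp_right fun h => ⟨h.1, h.2.1⟩)
    refine (le_sylow_sup_opOf (isSyl_of_fullyAutomized (fullyNormalized_imp hRp hD hPn).2)).trans
      (sup_le (autInducedBy_le_autGroup X hPR) ((Subgroup.closure_le _).2 fun a ha => ?_))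
    have haD := (mem_autGroup_iff D hPR a).1 ha.1
    obtain ⟨a₁, ha₁, hrel⟩ := exists_rel D (inf_le_left : P ⊓ H ≤ P) hPR ha.1 fun y hy => ⟨(a y).2,
      stronglyClosed_apply_mem hnD.1.2.2.2.1 haD y hy.2⟩
    have ha₁' : a₁ ∈ E₁.autGroup (P ⊓ H) :=
      opOf_index hE₁D inf_le_right ha₁ (ha.2.coprime_dvd_left (rel_orderOf_dvd hrel))
    have hcen : ∀ Z, X.IsConj (P ⊓ H) Z → centralizerIn H Z ≤ Z := fun Z hZ => hc Z (by
      obtain ⟨φ, hφ, hr⟩ := hZ
      exact ⟨φ, hXD _ hφ, hr⟩)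
    obtain ⟨y, hyX, -, hdH, hfix, -⟩ := rigid hRp hX hXH hPR hcen ha.2
      (mod_hyperfocal hDH hPR ha.1 ha.2) (autGroup_mono hE₁X.1 _ ha₁') hrel
    have hd : y⁻¹ * a ∈ autInducedBy R P := hsyl hRp hD hnD.1.2.2.2.1 hPn _
      (Subgroup.mul_mem _ (Subgroup.inv_mem _ (autGroup_mono hXD P hyX)) ha.1) hdH hfix
    have := Subgroup.mul_mem _ hyX (autInducedBy_le_autGroup X hPR hd)
    rwa [mul_inv_cancel_left] at this
  exact le_antisymm_fusion hDX hXD

end Cfsg.Agent.RelProd
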