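import Cfsg.Agent.Lib.RelProd.Restrict
import Cfsg.Agent.Lib.RelProd.PPrimeDecomp

/-!
# The product of the carrier with a normal subsystem

`seSys` is generated on `S` by the elements of order prime to `p` of `gAut` at the subgroups meeting `T` in a
centric subgroup.
-/

set_option autoImplicit false
set_option linter.unusedSectionVars false
set_option linter.style.haveILetI false

namespace Cfsg.Agent.RelProd

open Cfsg Cfsg.FusionSystem Cfsg.Agent.FusionSys Cfsg.Agent.FusionSys.FocCent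
  Cfsg.Agent.FusionSys.KerClass Cfsg.Agent.FusionMeet

variable {Ω : Type*} [Group Ω] {S T : Subgroup Ω} {p : ℕ} [hp : Fact p.Prime] [Finite S]
variable {F : FusionSystem S} {E : FusionSystem T}

/-- The generators. -/
def SGen (p : ℕ) (F : FusionSystem S) (E : FusionSystem T) (P : Subgroup Ω) (x : MulAut P) : Prop :=
  E.IsCentric (P ⊓ T) ∧ (orderOf x).Coprime p ∧ x ∈ gAut F E P

/-- Contains all the generators. -/
def SClosed (p : ℕ) (F : FusionSystem S) (E : FusionSystem T) (X : FusionSystem S) : Prop :=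
  ∀ P ≤ S, ∀ x : MulAut P, SGen p F E P x → x ∈ X.autGroup P

/-- The system generated by them. -/
def seSys (p : ℕ) (F : FusionSystem S) (E : FusionSystem T) : FusionSystem S where
  Hom P := {φ | φ ∈ F.Hom P ∧ ∀ X : FusionSystem S, SClosed p F E X → φ ∈ X.Hom P}
  le_of_mem h := F.le_of_mem h.1
  injective_of_mem h := F.injective_of_mem h.1
  conj_mem hP hg := ⟨F.conj_mem hP hg, fun X _ => X.conj_mem hP hg⟩
  comp_mem hφ hψ h := ⟨F.comp_mem hφ.1 hψ.1 h, fun X hX => X.comp_mem (hφ.2 X hX) (hψ.2 X hX) h⟩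
  inv_mem {P φ} h := by
    obtain ⟨ψ, hψ, hψe⟩ := F.inv_mem h.1
    refine ⟨ψ, ⟨hψ, fun X hX => ?_⟩, hψe⟩
    obtain ⟨ψ', hψ', hψe'⟩ := X.inv_mem (h.2 X hX)
    refine hom_congr X hψ' fun y => ?_
    obtain ⟨_, x, rfl⟩ := y
    exact (hψe x).trans (hψe' x).symm

theorem seSys_sub : (seSys p F E).IsSubsystemOf F := fun _ _ h => h.1

theorem seSys_closed (hT : F.StronglyClosed T) : (seSys p F E).StronglyClosed T :=
  ⟨hT.1, fun U hU φ hφ x => hT.2 U hU φ hφ.1 x⟩

theorem sClosed_seSys : SClosed p F E (seSys p F E) := fun P hP x hx =>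
  (mem_autGroup_iff _ hP x).2 ⟨(mem_autGroup_iff F hP x).1 (gAut_le F E P hx.2.2),
    fun X hX => (mem_autGroup_iff X hP x).1 (hX P hP x hx)⟩

theorem seSys_pGen : PGen p (seSys p F E) := fun X hX _ _ h =>
  h.2 X fun U hU x hx => hX U hU x (sClosed_seSys U hU x hx) hx.2.1

/-- The data for `R = S`. -/
theorem toData (hS : IsPGroup p S) (hE : E.IsNormalIn F p) : Data p F E S :=
  ⟨hS, hE.1.2.1, hE, hE.1.2.2.2.1.1, fullyNormalized_top F⟩

/-- Every map is conjugation by an element of `S` modulo `T` with the same class. -/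
theorem seSys_class (hS : IsPGroup p S) (hE : E.IsNormalIn F p) {P : Subgroup Ω} {φ : P →* Ω}
    (hφ : φ ∈ (seSys p F E).Hom P) : ∃ r ∈ S, ∃ β : MulAut T, (∀ t : T, ((β t : T) : Ω) = r * t * r⁻¹) ∧
      (∀ x : P, (r * (x : Ω) * r⁻¹)⁻¹ * φ x ∈ T) ∧ ClsS F E P φ β := by
  have hinv := hE.1.2.2
  have hT : F.StronglyClosed T := hinv.2.1
  have hAI : AutInvariant F E := hinv.2.2.1
  have hTn := stronglyClosed_le_normalizer hT
  have hn : ∀ r ∈ S, ∀ t ∈ T, r * t * r⁻¹ ∈ T := fun r hr t ht =>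
    (Subgroup.mem_normalizer_iff.1 (hTn hr) t).1 ht
  let X : FusionSystem S :=
    { Hom := fun P => {φ | φ ∈ F.Hom P ∧ ∃ r ∈ S, ∃ β : MulAut T, (∀ t : T, ((β t : T) : Ω) = r * t * r⁻¹) ∧
        (∀ x : P, (r * (x : Ω) * r⁻¹)⁻¹ * φ x ∈ T) ∧ ClsS F E P φ β}
      le_of_mem := fun h => F.le_of_mem h.1
      injective_of_mem := fun h => F.injective_of_mem h.1
      conj_mem := fun {P g} hP hg => by
        obtain ⟨β, hβ, hβe⟩ := exists_conjAut (K := S) (P := T) hg (hTn hg)
        exact ⟨F.conj_mem hP hg, g, hg, β, hβe, fun x => by rw [conjHom_apply, inv_mul_cancel]; exact T.one_mem,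
          cls_of_aut (autInducedBy_le_autGroup F hT.1 hβ) inf_le_right fun x => (hβe ⟨(x : Ω), x.2.2⟩).symm⟩
      comp_mem := by
        rintro P U φ ψ ⟨hφ, r, hr, β, hβ, h1, hc⟩ ⟨hψ, s, hs, γ, hγ, h2, hc'⟩ h
        refine ⟨F.comp_mem hφ hψ h, s * r, S.mul_mem hs hr, γ * β, fun t => ?_, fun x => ?_,
          ClsS.comp hAI hT hφ hc hc' h⟩
        · rw [MulAut.mul_apply, hγ, hβ]; group
        · show (s * r * (x : Ω) * (s * r)⁻¹)⁻¹ * ψ ⟨φ x, h x⟩ ∈ T
          have h3 := T.mul_mem (hn s hs _ (h1 x)) (h2 ⟨φ x, h x⟩)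
          simpa [mul_assoc] using h3
      inv_mem := by
        rintro P φ ⟨hφ, r, hr, β, hβ, h1, hc⟩
        obtain ⟨ψ, hψ, hψe⟩ := F.inv_mem hφ
        refine ⟨ψ, ⟨hψ, r⁻¹, S.inv_mem hr, β⁻¹, fun t => ?_, fun y => ?_, ?_⟩, hψe⟩
        · have h2 := hβ (β⁻¹ t)
          rw [MulAut.apply_inv_self] at h2
          rw [h2]; group
        · obtain ⟨_, x, rfl⟩ := y
          rw [hψe x]
          have h3 := hn r⁻¹ (S.inv_mem hr) _ (T.inv_mem (h1 x))
          simpa [mul_assoc] using h3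
        · set e := mapEquiv F hφ (rfl : φ.range = φ.range)
          have he : equivHom e ∈ F.Hom P := equivHom_mapEquiv F _ _
          refine ((hc.congr (ψ := equivHom e) fun _ => rfl).symm hAI hT e he (equivHom_symm_mem F e he)).congr
            fun y => ?_
          obtain ⟨x, rfl⟩ := e.surjective y
          show ψ ⟨φ x, _⟩ = ((e.symm (e x) : P) : Ω)
          rw [e.symm_apply_apply]
          exact hψe x }
  refine (hφ.2 X fun U hU x hx => ?_).2
  obtain ⟨⟨hxF, hxT⟩, b, hb, hxb⟩ := id hx.2.2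
  refine (mem_autGroup_iff X hU x).2 ⟨(mem_autGroup_iff F hU x).1 hxF, 1, S.one_mem, 1, fun t => by simp,
    fun y => ?_, ?_⟩
  · simp only [one_mul, inv_one, mul_one]
    exact hxT y
  · refine (cls_of_mem ((equivHom_autGroup E inf_le_right).1 hb)).congr fun y => ?_
    show ((x (Subgroup.inclusion inf_le_left y) : U) : Ω) = _
    rw [hxb y]
    rfl

/-- The automorphisms of order prime to `p` are trivial modulo `T` with class `1`. -/
theorem seSys_pprime (hS : IsPGroup p S) (hE : E.IsNormalIn F p) {P : Subgroup Ω} (hP : P ≤ S) {a : MulAut P}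
    (ha : a ∈ (seSys p F E).autGroup P) (hco : (orderOf a).Coprime p) : a ∈ gAut F E P := by
  have hinv := hE.1.2.2
  have hT : F.StronglyClosed T := hinv.2.1
  have hAI : AutInvariant F E := hinv.2.2.1
  haveI := finite_of_le hP
  have haF := autGroup_mono seSys_sub P ha
  have hah := (mem_autGroup_iff F hP a).1 haF
  obtain ⟨r, hr, β, hβ, hmod, hc⟩ := seSys_class hS hE ((mem_autGroup_iff _ hP a).1 ha)
  have hn : ∀ r ∈ S, ∀ t ∈ T, r * t * r⁻¹ ∈ T := fun r hr t ht =>
    (Subgroup.mem_normalizer_iff.1 (stronglyClosed_le_normalizer hT hr) t).1 ht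
  have hpow : ∀ n : ℕ, (∀ t : T, (((β ^ n) t : T) : Ω) = r ^ n * t * (r ^ n)⁻¹) ∧
      (∀ x : P, (r ^ n * (x : Ω) * (r ^ n)⁻¹)⁻¹ * (((a ^ n) x : P) : Ω) ∈ T) ∧
      ClsS F E P (equivHom (a ^ n)) (β ^ n) := by
    intro n
    induction n with
    | zero =>
      refine ⟨fun t => by simp, fun x => by simp, ?_⟩
      exact (cls_of_mem (subtype_mem E inf_le_right)).congr fun x => by simp
    | succ n ih =>
      obtain ⟨h1, h2, h3⟩ := ih
      refine ⟨fun t => ?_, fun x => ?_, ?_⟩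
      · rw [pow_succ' β, MulAut.mul_apply, hβ, h1, pow_succ']; group
      · have h4 := T.mul_mem (hn r hr _ (h2 x)) (hmod ((a ^ n) x))
        change r * ((r ^ n * (x : Ω) * (r ^ n)⁻¹)⁻¹ * (((a ^ n) x : P) : Ω)) * r⁻¹ *
          ((r * (((a ^ n) x : P) : Ω) * r⁻¹)⁻¹ * ((a ((a ^ n) x) : P) : Ω)) ∈ T at h4
        rw [pow_succ' a, MulAut.mul_apply, pow_succ']
        simpa [mul_assoc] using h4
      · rw [pow_succ' β]
        have hah' : equivHom (a ^ n) ∈ F.Hom P := (equivHom_autGroup F hP).1 (Subgroup.pow_mem _ haF n)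
        refine (ClsS.comp hAI hT hah' h3 (hc.congr (ψ := equivHom a) fun _ => rfl)
          fun x => ((a ^ n) x).2).congr fun x => ?_
        rw [pow_succ' a]
        rfl
  obtain ⟨k, hk⟩ := hS ⟨r, hr⟩
  have hk' : r ^ p ^ k = 1 := congrArg Subtype.val hk
  obtain ⟨h1, h2, h3⟩ := hpow (p ^ k)
  rw [hk'] at h1 h2
  have hb : β ^ p ^ k = 1 := MulEquiv.ext fun t => Subtype.ext (by rw [h1]; simp)
  rw [hb] at h3
  have hmem : a ^ p ^ k ∈ gAut F E P := by
    have hapF : a ^ p ^ k ∈ F.autGroup P := Subgroup.pow_mem _ haF _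
    refine ⟨⟨hapF, fun x => by simpa using h2 x⟩, ?_⟩
    obtain ⟨-, φ₀, hφ₀, he⟩ := h3
    obtain ⟨b, hb, hbe⟩ := exists_rel F (inf_le_left : P ⊓ T ≤ P) hP hapF fun y hy =>
      ⟨((a ^ p ^ k) y).2, stronglyClosed_apply_mem hT ((equivHom_autGroup F hP).1 hapF) y hy.2⟩
    refine ⟨b, (equivHom_autGroup E inf_le_right).2 (hom_congr E hφ₀ fun x => ?_), hbe⟩
    have e2 := he x
    rw [MulAut.one_apply] at e2
    exact (hbe.apply x).symm.trans e2
  obtain ⟨m, hm⟩ := exists_pow_eq_self_of_coprime (Nat.Coprime.pow_right k hco).symm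
  rw [← hm]
  exact Subgroup.pow_mem _ hmem m

/-- `O^p` of an automizer lies in `gAut`. -/
theorem opOf_seSys_le (hS : IsPGroup p S) (hE : E.IsNormalIn F p) {P : Subgroup Ω} (hP : P ≤ S) :
    opOf p ((seSys p F E).autGroup P) ≤ opOf p (gAut F E P) :=
  (Subgroup.closure_le _).2 fun _ ha => mem_opOf (seSys_pprime hS hE hP ha.1 ha.2) ha.2

/-- `opOf (gAut)` lies in the system when the intersection with `T` is centric. -/
theorem opOf_gAut_le_seSys {P : Subgroup Ω} (hP : P ≤ S) (hPc : E.IsCentric (P ⊓ T)) :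
    opOf p (gAut F E P) ≤ (seSys p F E).autGroup P :=
  (Subgroup.closure_le _).2 fun x hx => sClosed_seSys P hP x ⟨hPc, hx.2, hx.1⟩

/-- Elements of `O^p(gAut) Aut_T(P)` fixing `P ∩ T` are inner. -/
theorem fix_mem_inn (hS : IsPGroup p S) (hE : E.IsNormalIn F p) {P : Subgroup Ω} (hP : P ≤ S)
    (hPc : E.IsCentric (P ⊓ T)) {k : MulAut P} (hk : k ∈ opOf p (gAut F E P) ⊔ autInducedBy T P)
    (hfix : ∀ x : P, (x : Ω) ∈ T → k x = x) : k ∈ Inn P := by
  have C := toData hS hE
  have hT := C.closed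
  have hF := hE.1.2.1
  obtain ⟨P', hPP', hP'⟩ := exists_fullyNormalized F hP
  obtain ⟨θ, hθ, hθN, hθP⟩ := exists_normalizer_map_fullyNormalized hS hF hP' hPP'
  have hPN := le_normalizerIn hP
  set e := mapEquiv F (restrict_mem F hθ hPN) (extend_restrict_range hPN hθP)
  have he : equivHom e ∈ F.Hom P := equivHom_mapEquiv F _ _
  have he' := equivHom_symm_mem F e he
  have hP'S := hP'.1
  haveI := finite_of_le hP'S
  have hTv : ∀ y : P, (y : Ω) ∈ T ↔ ((e y : P') : Ω) ∈ T := fun y =>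
    ⟨fun h => stronglyClosed_apply_mem hT he y h, fun h => by
      have := stronglyClosed_apply_mem hT he' (e y) h
      rwa [equivHom_apply, e.symm_apply_apply] at this⟩
  have hk' : MulAut.congr e k ∈ opOf p (gAut F E P') ⊔ autInducedBy T P' := by
    have hle : opOf p (gAut F E P) ⊔ autInducedBy T P ≤
        (opOf p (gAut F E P') ⊔ autInducedBy T P').comap (MulAut.congr e).toMonoidHom := by
      refine sup_le ((Subgroup.closure_le _).2 fun x hx =>
        Subgroup.mem_sup_left (mem_opOf (congr_mem_gAut C.inv he hx.1) ?_)) fun x hx => Subgroup.mem_sup_right ?_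
      · have h0 : orderOf (MulAut.congr e x) = orderOf x := MulEquiv.orderOf_eq (MulAut.congr e) x
        show (orderOf (MulAut.congr e x)).Coprime p
        rw [h0]
        exact hx.2
      · obtain ⟨t, ht, hte⟩ := (mem_autInducedBy_iff _).1 hx
        have htN : t ∈ normalizerIn S P := ⟨hT.1 ht, mem_normalizer_of_autInduced hte⟩
        refine (mem_autInducedBy_iff _).2 ⟨θ ⟨t, htN⟩, stronglyClosed_apply_mem hT hθ ⟨t, htN⟩ ht, fun y => ?_⟩
        obtain ⟨u, rfl⟩ := e.surjective y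
        rw [MulEquiv.coe_toMonoidHom, congr_apply, e.symm_apply_apply]
        show θ _ = θ _ * θ _ * (θ _)⁻¹
        rw [← map_inv, ← map_mul, ← map_mul]
        exact congrArg θ (Subtype.ext (hte u))
    exact hle hk
  have hfix' : ∀ y : P', (y : Ω) ∈ T → MulAut.congr e k y = y := fun y hy => by
    obtain ⟨u, rfl⟩ := e.surjective y
    rw [congr_apply, e.symm_apply_apply, hfix u ((hTv u).2 hy)]
  have hP'c : E.IsCentric (P' ⊓ T) := centric_of_conj C.inv hPc (isConj_inf hT hPP')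
  have hle' : opOf p (gAut F E P') ⊔ autInducedBy T P' ≤ gAut F E P' :=
    sup_le (opOf_le _) (autT_le_gAut C hP'S)
  have hkS : MulAut.congr e k ∈ autInducedBy S P' := by
    have hg := hle' hk'
    have h1 := Cfsg.Agent.S5251.stab_mem_pCore hS hT hP'S ⟨MulAut.congr e k, gAut_le F E P' hg⟩ hg.1.2 hfix'
    obtain ⟨-, R, hR⟩ := (fullyNormalized_imp hS hF hP').2
    exact Subgroup.mem_subgroupOf.1 (hR.le (Cfsg.Agent.PBasic.pCore_le_sylow R h1))
  obtain ⟨t, htn, hte⟩ : ∃ t ∈ T, ∀ y : P', ((MulAut.congr e k y : P') : Ω) = t * y * t⁻¹ := by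
    have hnorm : autInducedBy T P' ≤ Subgroup.normalizer (opOf p (gAut F E P') : Set (MulAut P')) := fun g hg =>
      mem_normalizer_of_conj_mem_finite fun z hz => conj_mem_opOf (fun w hw => conj_mem_gAut C.inv hP'S
        (autInducedBy_le_autGroup F hP'S (autInducedBy_mono hT.1 hg)) hw) hz
    have h2 := hk'
    rw [← SetLike.mem_coe, Subgroup.coe_mul_of_right_le_normalizer_left _ _ hnorm] at h2
    obtain ⟨o, ho, w, hw, how⟩ := h2
    have hoS : o ∈ autInducedBy S P' := by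
      have := Subgroup.mul_mem _ hkS (Subgroup.inv_mem _ (autInducedBy_mono hT.1 hw))
      rwa [← how, mul_inv_cancel_right] at this
    have := Subgroup.mul_mem _ (opOf_inf_autS C hP'c hP' ho hoS) hw
    change o * w = _ at how
    rw [how] at this
    exact (mem_autInducedBy_iff _).1 this
  have htP : t ∈ P' ⊓ T := mem_of_centralizes hP'c htn fun y hy => by
    have h3 := hte ⟨y, hy.1⟩
    rw [hfix' ⟨y, hy.1⟩ hy.2] at h3
    calc y * t = t * y * t⁻¹ * t := by rw [← h3]
      _ = t * y := by group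
  refine ⟨e.symm ⟨t, htP.1⟩, MulEquiv.ext fun x => e.injective ?_⟩
  refine Subtype.ext ?_
  show ((e (e.symm ⟨t, htP.1⟩ * x * (e.symm ⟨t, htP.1⟩)⁻¹) : P') : Ω) = _
  rw [map_mul, map_mul, map_inv, e.apply_symm_apply]
  have h4 := hte (e x)
  rw [congr_apply, e.symm_apply_apply] at h4
  exact h4.symm

/-- The normal subsystem lies in the system. -/
theorem e_le_seSys (hS : IsPGroup p S) (hE : E.IsNormalIn F p) {P : Subgroup Ω} {φ : P →* Ω}
    (hφ : φ ∈ E.Hom P) : φ ∈ (seSys p F E).Hom P := by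
  obtain ⟨hEs, -, hsub, hT, -, -⟩ := id hE.1
  haveI : Finite T := finite_of_le (S := S) hT.1
  have hTp : IsPGroup p T := hS.to_le hT.1
  have key : E ≤ restrictSys (seSys p F E) T (seSys_closed hT) := by
    refine alperin_centric_radical hTp hEs fun Q hQ => ?_
    have hQc : E.IsCentric Q := hQ.elim (fun h => by rw [h]; exact ⟨le_rfl, fun X hX => (centralizerIn_le T X).trans
      (Subgroup.eq_of_le_of_card_ge (isConj_le_right hX) (isConj_card hX).le).ge⟩) fun h => h.1
    have hQn : E.IsFullyNormalized Q := hQ.elim (fun h => h ▸ fullyNormalized_top E) fun h => h.2.2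
    have hQT := hQn.1
    have hQS := hQT.trans hT.1
    haveI := finite_of_le hQS
    have hQi : Q ⊓ T = Q := inf_eq_left.2 hQT
    intro α hα
    refine (mem_autGroup_iff _ hQT α).2 ⟨(mem_autGroup_iff _ hQS α).1 ?_, hQT⟩
    refine ((le_sylow_sup_opOf (isSyl_of_fullyAutomized (fullyNormalized_imp hTp hEs hQn).2)).trans
      (sup_le ((autInducedBy_mono hT.1).trans (autInducedBy_le_autGroup _ hQS))
        ((Subgroup.closure_le _).2 fun x hx => ?_))) hα
    have hxh := (mem_autGroup_iff E hQT x).1 hx.1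
    have hxF : x ∈ F.autGroup Q := autGroup_mono hsub Q hx.1
    refine sClosed_seSys Q hQS x ⟨hQi.symm ▸ hQc, hx.2, ⟨hxF, fun y =>
      T.mul_mem (T.inv_mem (hQT y.2)) (hQT (x y).2)⟩, ?_⟩
    obtain ⟨b, hb, hbe⟩ := exists_rel F (inf_le_left : Q ⊓ T ≤ Q) hQS hxF fun y hy => ⟨(x y).2, hQT (x y).2⟩
    refine ⟨b, (equivHom_autGroup E inf_le_right).2 ?_, hbe⟩
    exact hom_congr E (restrict_mem E hxh inf_le_left) fun y => (hbe.apply y).symm
  exact (key P hφ).1

end Cfsg.Agent.RelProd
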