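import Cfsg.Agent.Lib.RelProd.SELift

/-!
# Saturation of `seSys` at centric subgroups of `T`
-/

set_option autoImplicit false
set_option linter.unusedSectionVars false
set_option linter.style.haveILetI false

namespace Cfsg.Agent.RelProd

open Cfsg Cfsg.FusionSystem Cfsg.Agent.FusionSys Cfsg.Agent.FusionSys.FocCent
  Cfsg.Agent.FusionSys.KerClass Cfsg.Agent.FusionMeet

variable {Ω : Type*} [Group Ω] {S T : Subgroup Ω} {p : ℕ} [hp : Fact p.Prime] [Finite S]
variable {F : FusionSystem S} {E : FusionSystem T}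

/-- The automizer of `T` is generated by `O^p` and the induced automorphisms. -/
theorem autGroup_top_eq {D : FusionSystem S} (hT : D.StronglyClosed T) (hgen : PGen p D) :
    D.autGroup T = jGroup p D T := by
  refine le_antisymm (fun α hα => ?_) (jGroup_le hT.1)
  haveI := finite_of_le hT.1
  let X : FusionSystem S :=
    { Hom := fun R => {φ | φ ∈ D.Hom R ∧ ∀ (hTR : T ≤ R) (m : MulAut T),
        (∀ t : T, ((m t : T) : Ω) = φ (Subgroup.inclusion hTR t)) → m ∈ jGroup p D T}
      le_of_mem := fun h => D.le_of_mem h.1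
      injective_of_mem := fun h => D.injective_of_mem h.1
      conj_mem := fun {R g} hR hg => ⟨D.conj_mem hR hg, fun hTR m hm => Subgroup.mem_sup_right
        ((mem_autInducedBy_iff _).2 ⟨g, hg, hm⟩)⟩
      comp_mem := by
        rintro R U φ ψ ⟨hφ, h1⟩ ⟨hψ, h2⟩ h
        refine ⟨D.comp_mem hφ hψ h, fun hTR m hm => ?_⟩
        have hφT : ∀ t : T, (φ.comp (Subgroup.inclusion hTR)) t ∈ T := fun t =>
          stronglyClosed_apply_mem hT hφ _ t.2
        obtain ⟨m₁, -, hm₁⟩ := exists_aut_of_invariant D (restrict_mem D hφ hTR) hφT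
        have hTU : T ≤ U := fun t ht => by
          obtain ⟨s, hs⟩ := m₁.surjective ⟨t, ht⟩
          rw [show t = ((m₁ s : T) : Ω) from (congrArg Subtype.val hs).symm, hm₁]
          exact h _
        obtain ⟨m₂, -, hm₂⟩ := exists_aut_of_invariant D (restrict_mem D hψ hTU) fun t : T =>
          stronglyClosed_apply_mem hT hψ (Subgroup.inclusion hTU t) t.2
        have : m = m₂ * m₁ := MulEquiv.ext fun t => Subtype.ext (by
          rw [hm, MulAut.mul_apply, hm₂]
          exact congrArg ψ (Subtype.ext (hm₁ t).symm))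
        exact this ▸ Subgroup.mul_mem _ (h2 hTU m₂ hm₂) (h1 hTR m₁ hm₁)
      inv_mem := by
        rintro R φ ⟨hφ, h1⟩
        obtain ⟨ψ, hψ, he, hr, -⟩ := exists_inv_imgOf D hφ
        refine ⟨ψ, ⟨hψ, fun hTR m hm => ?_⟩, fun x => he x _⟩
        have hTR' : T ≤ R := fun t ht => by
          obtain ⟨s, hs⟩ := m.surjective ⟨t, ht⟩
          rw [show t = ((m s : T) : Ω) from (congrArg Subtype.val hs).symm, hm]
          exact hr.le ⟨_, rfl⟩
        refine (Subgroup.inv_mem_iff _).1 (h1 hTR' m⁻¹ fun t => ?_)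
        obtain ⟨s, rfl⟩ := m.surjective t
        rw [MulAut.inv_apply_self]
        obtain ⟨u, hu⟩ := hTR s.2
        have e : ((m s : T) : Ω) = u := by
          rw [hm, show Subgroup.inclusion hTR s = ⟨φ u, ⟨u, rfl⟩⟩ from Subtype.ext hu.symm]
          exact he u ⟨u, rfl⟩
        rw [show Subgroup.inclusion hTR' (m s) = u from Subtype.ext e]
        exact hu.symm }
  have hDX : D ≤ X := hgen X fun U hU x hx hco => by
    have hxh := (mem_autGroup_iff D hU x).1 hx
    refine (mem_autGroup_iff X hU x).2 ⟨hxh, fun hTR m hm => Subgroup.mem_sup_left (mem_opOf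
      ((mem_autGroup_iff D hT.1 m).2 (hom_congr D (restrict_mem D hxh hTR) hm)) ?_)⟩
    exact hco.coprime_dvd_left (rel_orderOf_dvd (h := hTR) (α := x) (β := m) fun t => Subtype.ext (hm t).symm)
  exact (hDX T ((mem_autGroup_iff D hT.1 α).1 hα)).2 le_rfl α fun t => rfl

/-- The classes of centric subgroups of `T` are saturated. -/
theorem satClass_centric (hS : IsPGroup p S) (hE : E.IsNormalIn F p) :
    ∀ P : Subgroup Ω, P ≤ T → E.IsCentric P → SatClass (seSys p F E) p P := by
  obtain ⟨hEs, hF, hsub, hT, hAI, hfr⟩ := id hE.1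
  haveI : Finite T := finite_of_le (S := S) hT.1
  have hTp : IsPGroup p T := hS.to_le hT.1
  have hDT : (seSys p F E).StronglyClosed T := seSys_closed hT
  intro P₀
  induction hk : Nat.card T - Nat.card P₀ using Nat.strong_induction_on generalizing P₀ with
  | _ k ih =>
  intro hP₀T hP₀c
  obtain ⟨P, hP₀P, hP⟩ := exists_fullyNormalized (seSys p F E) (hP₀T.trans hT.1)
  have hFc : ∀ {A B : Subgroup Ω}, (seSys p F E).IsConj A B → F.IsConj A B := fun h => by
    obtain ⟨φ, hφ, hr⟩ := h
    exact ⟨φ, seSys_sub _ hφ, hr⟩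
  have hPT : P ≤ T := isConj_le_stronglyClosed hDT hP₀T hP₀P
  have hPc : E.IsCentric P := centric_of_conj hE.1.2.2 hP₀c (hFc hP₀P)
  have hPS := hP.1
  haveI := finite_of_le hPS
  have hsat : ∀ R ≤ T, (∃ a ≤ R, (seSys p F E).IsConj P a) → Nat.card P < Nat.card R →
      SatClass (seSys p F E) p R := by
    rintro R hR ⟨a, haR, hPa⟩ hlt
    refine ih _ ?_ R rfl hR (isCentric_mono (centric_of_conj hE.1.2.2 hPc (hFc hPa)) haR hR)
    have h1 : Nat.card R ≤ Nat.card T := Subgroup.card_le_of_le hR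
    have h2 := isConj_card hP₀P
    omega
  have hgood := good_all_in hS hDT seSys_pGen hPT hsat hP
  -- `P` is fully normalized in `E`
  have hPE : E.IsFullyNormalized P := by
    refine ⟨hPT, fun Q hQ => ?_⟩
    obtain ⟨φ, hφ, hr⟩ := id hQ
    have hQ' : (seSys p F E).IsConj P Q := ⟨φ, e_le_seSys hS hE hφ, hr⟩
    obtain ⟨χ, hχ, hχP⟩ := hgood Q hQ'
    have hQT : Q ≤ T := isConj_le_stronglyClosed hDT hPT hQ'
    have hQN : Q ≤ normalizerIn S Q := le_normalizerIn (hQT.trans hT.1)
    have hle : normalizerIn T Q ≤ normalizerIn S Q := inf_le_inf_right _ hT.1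
    exact card_le_of_hom _ hχ hle ((normalizerIn_le T P).trans hT.1) fun u hu =>
      ⟨stronglyClosed_apply_mem hDT hχ _ hu.1, (hχP ▸ imgOf_mem_normalizer _ hχ hQN ⟨u, hle hu⟩ hu.2).2⟩
  set L := (seSys p F E).autGroup P with hLdef
  set W := autInducedBy S P with hWdef
  set K := opOf p (E.autGroup P) with hKdef
  have hopE : opOf p L ≤ K := (Subgroup.closure_le _).2 fun x hx =>
    mem_opOf (gAut_autE hPT (seSys_pprime hS hE hPS hx.1 hx.2)) hx.2
  have hEL : E.autGroup P ≤ L := fun x hx =>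
    (mem_autGroup_iff _ hPS x).2 (e_le_seSys hS hE ((mem_autGroup_iff E hPT x).1 hx))
  have hJ : L = jGroup p (seSys p F E) P := by
    rcases eq_or_lt_of_le hPT with he | hlt
    · rw [hLdef, he]
      exact autGroup_top_eq hDT seSys_pGen
    · exact autGroup_eq_jGroup hS hDT seSys_pGen hlt hsat hP
  have hLKW : L = K ⊔ W := by
    refine le_antisymm ?_ (sup_le ((opOf_le _).trans hEL) (autInducedBy_le_autGroup _ hPS))
    rw [hJ]
    exact sup_le_sup_right hopE _
  have hWn : W ≤ Subgroup.normalizer (K : Set (MulAut P)) := fun w hw =>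
    mem_normalizer_of_conj_mem_finite fun y hy => conj_mem_opOf (fun z hz =>
      conj_mem_aut hE.1 hPT (autInducedBy_le_autGroup F hPS hw) hz) hy
  have hsyl : IsSyl p W L := by
    have h1 := (isSyl_of_fullyAutomized (fullyNormalized_imp hTp hEs hPE).2).inf_normal (opOf_le (p := p) _)
      (fun a ha => mem_normalizer_of_conj_mem_finite fun y hy =>
        conj_mem_opOf (fun z hz => Subgroup.mul_mem _ (Subgroup.mul_mem _ ha hz) (Subgroup.inv_mem _ ha)) hy)
    have h2 : autInducedBy T P ⊓ K = W ⊓ K := h1.eq_of_le (inf_le_inf_right _ (autInducedBy_mono hT.1))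
      inf_le_right ((autInducedBy_isPGroup hS).to_le inf_le_left)
    rw [hLKW]
    exact isSyl_sup_of_inf (autInducedBy_isPGroup hS) hWn (h2 ▸ h1)
  refine (satClass_of_ext hPS hgood hsyl fun A g hI hAW hg hgA => ?_).imp fun Q h => ⟨isConj_trans hP₀P h.1, h.2⟩
  have hLI : L ≤ Subgroup.normalizer (Inn P : Set (MulAut P)) := fun a _ =>
    mem_normalizer_of_conj_mem_finite fun z hz => conj_mem_inn a hz
  refine extends_all hsyl hLI (fun A g => ExtTo (seSys p F E) P A g) ?_ ?_ ?_ ?_ ?_ A g hI hAW hg hgA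
  · intro A B g _ hAB _ _ h
    obtain ⟨ψ, hψ, he⟩ := h
    exact ⟨_, restrict_mem _ hψ (pre_mono hAB), fun x hx => he x (pre_mono hAB hx)⟩
  · intro A g h hI _ _ _ _ _ h1 h2
    exact ext_comp hPS hI h1 h2
  · intro A g hI hA _ _ h
    exact ext_inv hPS hI hA h
  · intro A g _ _ hg
    obtain ⟨s, hs, hse⟩ := (mem_autInducedBy_iff _).1 hg
    exact ⟨_, (seSys p F E).conj_mem (pre_le.trans (normalizerIn_le S P)) hs, fun x hx =>
      (conjHom_apply _ _ _).trans (hse x).symm⟩
  · intro A g hI hA hg hco hAg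
    exact pprime_extends hS hE hPT hPc hPE hI hA (gAut_autE hPT (seSys_pprime hS hE hPS hg hco)) hco hAg

end Cfsg.Agent.RelProd
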