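import Cfsg.Agent.Lib.RelProd.Basic

/-!
# The relative product system

`relSys` is generated on `R` by the elements of order prime to `p` of `gAut`.
-/

set_option autoImplicit false
set_option linter.unusedSectionVars false
set_option linter.style.haveILetI false

namespace Cfsg.Agent.RelProd

open Cfsg Cfsg.FusionSystem Cfsg.Agent.FusionSys Cfsg.Agent.FusionSys.FocCent
  Cfsg.Agent.FusionSys.KerClass Cfsg.Agent.FusionMeet

variable {Ω : Type*} [Group Ω] {S T R : Subgroup Ω} {p : ℕ} [hp : Fact p.Prime] [Finite S]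
variable {F : FusionSystem S} {E : FusionSystem T}

/-- The generators. -/
def Gen (p : ℕ) (F : FusionSystem S) (E : FusionSystem T) (P : Subgroup Ω) (x : MulAut P) : Prop :=
  (orderOf x).Coprime p ∧ x ∈ gAut F E P

/-- Contains all the generators. -/
def GenClosed (p : ℕ) (F : FusionSystem S) (E : FusionSystem T) (X : FusionSystem R) : Prop :=
  ∀ P, Hc F E R P → ∀ x : MulAut P, Gen p F E P x → x ∈ X.autGroup P

/-- The system generated by them. -/
def relSys (C : Data p F E R) : FusionSystem R where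
  Hom P := {φ | φ ∈ (inSys F C.le).Hom P ∧ ∀ X : FusionSystem R, GenClosed p F E X → φ ∈ X.Hom P}
  le_of_mem h := (inSys F C.le).le_of_mem h.1
  injective_of_mem h := F.injective_of_mem h.1.1
  conj_mem hP hg := ⟨(inSys F C.le).conj_mem hP hg, fun X _ => X.conj_mem hP hg⟩
  comp_mem hφ hψ h :=
    ⟨(inSys F C.le).comp_mem hφ.1 hψ.1 h, fun X hX => X.comp_mem (hφ.2 X hX) (hψ.2 X hX) h⟩
  inv_mem {P φ} h := by
    obtain ⟨ψ, hψ, hψe⟩ := (inSys F C.le).inv_mem h.1
    refine ⟨ψ, ⟨hψ, fun X hX => ?_⟩, hψe⟩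
    obtain ⟨ψ', hψ', hψe'⟩ := X.inv_mem (h.2 X hX)
    refine hom_congr X hψ' fun y => ?_
    obtain ⟨_, x, rfl⟩ := y
    exact (hψe x).trans (hψe' x).symm

theorem relSys_sub (C : Data p F E R) : (relSys C).IsSubsystemOf F := fun _ _ h => h.1.1

theorem relSys_min {C : Data p F E R} {X : FusionSystem R} (hX : GenClosed p F E X) :
    ∀ P, (relSys C).Hom P ⊆ X.Hom P := fun _ _ h => h.2 X hX

theorem gen_mem_autGroup {P : Subgroup Ω} {x : MulAut P} (h : Gen p F E P x) : x ∈ F.autGroup P :=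
  gAut_le F E P h.2

theorem genClosed_relSys (C : Data p F E R) : GenClosed p F E (relSys C) := fun P hP x hx =>
  (mem_autGroup_iff _ hP.le x).2 ⟨⟨(mem_autGroup_iff F (hP.le.trans C.le) x).1 (gen_mem_autGroup hx), hP.le,
    fun y => hP.le (x y).2⟩, fun X hX => (mem_autGroup_iff X hP.le x).1 (hX P hP x hx)⟩

theorem congr_gen (C : Data p F E R) {P P' : Subgroup Ω} {θ : P ≃* P'} (hθ : equivHom θ ∈ F.Hom P)
    {x : MulAut P} (hx : Gen p F E P x) : Gen p F E P' (MulAut.congr θ x) :=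
  ⟨by rw [MulEquiv.orderOf_eq]; exact hx.1, congr_mem_gAut C.inv hθ hx.2⟩

theorem relSys_autInvariant (C : Data p F E R) : AutInvariant F (relSys C) := by
  intro P hPR φ hφ α hα
  set F' := inSys F C.le
  have hαm := (mem_autGroup_iff F C.le α).1 hα
  have hX : GenClosed p F E (twistSys F' (relSys C) α) := by
    intro Q hQ x hx
    have hαQ := restrict_mem F hαm hQ.le
    set A := (Q.subgroupOf R).map (R.subtype.comp α.toMonoidHom) with hA
    have hr : ((R.subtype.comp α.toMonoidHom).comp (Subgroup.inclusion hQ.le)).range = A := range_restrict _ hQ.le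
    set e := mapEquiv F hαQ hr
    have hA' : Hc F E R A := hQ.of_conj C ⟨_, hαQ, hr⟩ (by rintro _ ⟨y, -, rfl⟩; exact (α y).2)
    have h3 := (mem_autGroup_iff _ hA'.le _).1
      (genClosed_relSys C A hA' _ (congr_gen C (equivHom_mapEquiv F hαQ hr) hx))
    refine (mem_autGroup_iff _ hQ.le x).2 ⟨⟨(mem_autGroup_iff F (hQ.le.trans C.le) x).1 (gen_mem_autGroup hx),
      hQ.le, fun y => hQ.le (x y).2⟩, _, h3, fun q hq hφq hαq => ?_⟩
    show ((e (x (e.symm ⟨_, hαq⟩)) : A) : Ω) = _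
    rw [show e.symm ⟨_, hαq⟩ = q from e.injective ((e.apply_symm_apply _).trans (Subtype.ext rfl))]
    rfl
  obtain ⟨-, χ, hχ, hχe⟩ := relSys_min hX P hφ
  exact ⟨χ, hχ, fun x hφx hαx => hχe x (hPR x.2) hφx hαx⟩

/-- Every map of the system is conjugation by an element of `R` modulo `T`. -/
theorem relSys_mod (C : Data p F E R) {P : Subgroup Ω} {φ : P →* Ω} (hφ : φ ∈ (relSys C).Hom P) :
    ∃ r ∈ R, ∀ x : P, (r * (x : Ω) * r⁻¹)⁻¹ * φ x ∈ T := by
  have hn : ∀ r ∈ R, ∀ t ∈ T, r * t * r⁻¹ ∈ T := fun r hr t ht =>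
    (Subgroup.mem_normalizer_iff.1 (stronglyClosed_le_normalizer C.closed (C.le hr)) t).1 ht
  let X : FusionSystem R :=
    { Hom := fun P => {φ | φ ∈ (inSys F C.le).Hom P ∧ ∃ r ∈ R, ∀ x : P, (r * (x : Ω) * r⁻¹)⁻¹ * φ x ∈ T}
      le_of_mem := fun h => (inSys F C.le).le_of_mem h.1
      injective_of_mem := fun h => (inSys F C.le).injective_of_mem h.1
      conj_mem := fun {P g} hP hg => ⟨(inSys F C.le).conj_mem hP hg, g, hg, fun x => by
        rw [conjHom_apply, inv_mul_cancel]; exact T.one_mem⟩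
      comp_mem := by
        rintro P U φ ψ ⟨hφ, r, hr, hre⟩ ⟨hψ, s, hs, hse⟩ h
        refine ⟨(inSys F C.le).comp_mem hφ hψ h, s * r, R.mul_mem hs hr, fun x => ?_⟩
        show (s * r * (x : Ω) * (s * r)⁻¹)⁻¹ * ψ ⟨φ x, h x⟩ ∈ T
        have h1 := T.mul_mem (hn s hs _ (hre x)) (hse ⟨φ x, h x⟩)
        simpa [mul_assoc] using h1
      inv_mem := by
        rintro P φ ⟨hφ, r, hr, hre⟩
        obtain ⟨ψ, hψ, hψe⟩ := (inSys F C.le).inv_mem hφ
        refine ⟨ψ, ⟨hψ, r⁻¹, R.inv_mem hr, fun y => ?_⟩, hψe⟩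
        obtain ⟨_, x, rfl⟩ := y
        rw [hψe x]
        have h1 := hn r⁻¹ (R.inv_mem hr) _ (T.inv_mem (hre x))
        simpa [mul_assoc] using h1 }
  refine (relSys_min (X := X) (fun Q hQ x hx => ?_) P hφ).2
  refine (mem_autGroup_iff X hQ.le x).2 ⟨⟨(mem_autGroup_iff F (hQ.le.trans C.le) x).1 (gen_mem_autGroup hx),
    hQ.le, fun y => hQ.le (x y).2⟩, 1, R.one_mem, fun y => ?_⟩
  simp only [one_mul, inv_one, mul_one]
  exact hx.2.1.2 y

theorem bGroup_le_relSys (C : Data p F E R) {Q : Subgroup Ω} (hQc : Hc F E R Q) :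
    bGroup p F E R Q ≤ (relSys C).autGroup Q := by
  haveI : Finite R := finite_of_le (S := S) C.le
  exact sup_le ((Subgroup.closure_le _).2 fun x hx => genClosed_relSys C Q hQc x ⟨hx.2, hx.1⟩)
    (autInducedBy_le_autGroup _ hQc.le)

/-- An element of `T` outside a fully normalized `Q` with non-centric intersection normalizing it. -/
theorem exists_outer (C : Data p F E R) {Q : Subgroup Ω} (hQm : Mem T R Q) (hQ : F.IsFullyNormalized Q)
    (hnc : ¬ E.IsCentric (Q ⊓ T)) : ∃ w ∈ T, w ∉ Q ∧ w ∈ Subgroup.normalizer (Q : Set Ω) ∧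
      ∀ y ∈ Q ⊓ T, y * w = w * y := by
  haveI : Finite T := finite_of_le (S := S) C.closed.1
  haveI := finite_of_le hQ.1
  have hQS := hQ.1
  set Q₀ := Q ⊓ T with hQ₀
  have h0T : Q₀ ≤ T := inf_le_right
  have hTn := stronglyClosed_le_normalizer C.closed
  obtain ⟨Q₁, hc, hQ₁⟩ := exists_fullyNormalized F (h0T.trans C.closed.1)
  have hQ₁T : Q₁ ≤ T := isConj_le_stronglyClosed C.closed h0T hc
  have hnot : ¬ centralizerIn T Q₁ ≤ Q₁ := by
    intro hle
    refine hnc ⟨h0T, fun X hX => ?_⟩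
    have hXF : F.IsConj Q₀ X := by
      obtain ⟨χ, hχ, hr⟩ := hX
      exact ⟨χ, C.inv.1 Q₀ hχ, hr⟩
    have hXT : X ≤ T := isConj_le_stronglyClosed C.closed h0T hXF
    obtain ⟨θ, hθ, -, hθX⟩ := exists_normalizer_map_fullyNormalized C.pg C.sat hQ₁
      (isConj_trans (isConj_symm hXF) hc)
    intro y hy
    have hXN : X ≤ normalizerIn S X := le_normalizerIn (hXT.trans C.closed.1)
    have hyN : y ∈ normalizerIn S X := centralizerIn_le_normalizerIn S X ⟨C.closed.1 hy.1, hy.2⟩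
    have h1 : θ ⟨y, hyN⟩ ∈ Q₁ := hle ⟨stronglyClosed_apply_mem C.closed hθ _ hy.1,
      apply_mem_centralizer θ hXN (extend_restrict_range hXN hθX) _ hy.2⟩
    obtain ⟨x, hx, hxX, hxe⟩ := (mem_map_subgroupOf θ _).1 (hθX.ge h1)
    have h2 : x = y := congrArg Subtype.val (F.injective_of_mem hθ hxe)
    exact h2 ▸ hxX
  obtain ⟨θ, hθ, hθN, hθQ⟩ := exists_normalizer_map_fullyNormalized C.pg C.sat hQ₁ hc
  have hQN : Q ≤ normalizerIn S Q₀ := fun q hq => ⟨hQS hq,
    Subgroup.inf_normalizer_le_normalizer_inf ⟨Subgroup.le_normalizer hq, hTn (hQS hq)⟩⟩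
  set Q' := (θ.comp (Subgroup.inclusion hQN)).range with hQ'
  have hc' : F.IsConj Q Q' := ⟨_, restrict_mem F hθ hQN, rfl⟩
  have hQ'S : Q' ≤ S := isConj_le_right hc'
  obtain ⟨θi, hθi, -, hθie, -⟩ := exists_inv F (restrict_mem F hθ hQN)
  have hQ'T : Q' ⊓ T ≤ Q₁ := by
    rintro _ ⟨⟨q, rfl⟩, hyT⟩
    have h1 := stronglyClosed_apply_mem C.closed hθi ⟨_, ⟨q, rfl⟩⟩ hyT
    have h2 : (q : Ω) ∈ T := (hθie q ⟨q, rfl⟩) ▸ h1
    exact hθQ.le ⟨Subgroup.inclusion hQN q, ⟨q.2, h2⟩, rfl⟩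
  set C₁ := centralizerIn T Q₁ with hC₁
  have hC₁S : C₁ ≤ S := (centralizerIn_le _ _).trans C.closed.1
  have hn : Q' ≤ Subgroup.normalizer (C₁ : Set Ω) := by
    intro y hy
    haveI := finite_of_le hC₁S
    refine mem_normalizer_of_conj_mem_finite fun c hc => ⟨(Subgroup.mem_normalizer_iff.1 (hTn (hQ'S hy)) c).1 hc.1,
      Subgroup.mem_centralizer_iff.2 fun u hu => ?_⟩
    obtain ⟨q, rfl⟩ := hy
    set z := θ (Subgroup.inclusion hQN q)
    change u * (z * c * z⁻¹) = z * c * z⁻¹ * u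
    have hu' : z⁻¹ * u * z ∈ Q₁ := by
      simpa using (Subgroup.mem_normalizer_iff.1 (Subgroup.inv_mem _ (hθN (Subgroup.inclusion hQN q)).2) u).1 hu
    calc u * (z * c * z⁻¹) = z * (z⁻¹ * u * z * c) * z⁻¹ := by group
      _ = z * (c * (z⁻¹ * u * z)) * z⁻¹ := by rw [Subgroup.mem_centralizer_iff.1 hc.2 _ hu']
      _ = z * c * z⁻¹ * u := by group
  have hKS : Q' ⊔ C₁ ≤ S := sup_le hQ'S hC₁S
  haveI := finite_of_le hKS
  have hlt : Q' < Q' ⊔ C₁ := lt_of_le_of_ne le_sup_left fun he => hnot fun y hy =>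
    hQ'T ⟨(le_sup_right.trans he.ge) hy, hy.1⟩
  obtain ⟨y, hy, hyQ⟩ := SetLike.exists_of_lt (lt_normalizerIn (C.pg.to_le hKS) hlt)
  have hy' : y ∈ Q' ⊔ C₁ := hy.1
  rw [← SetLike.mem_coe, Subgroup.coe_mul_of_left_le_normalizer_right _ _ hn] at hy'
  obtain ⟨q, hq, c, hc₁, rfl⟩ := hy'
  have hcQ : c ∉ Q' := fun h => hyQ (Q'.mul_mem hq h)
  have hcN : c ∈ normalizerIn S Q' := ⟨hC₁S hc₁, by
    have := Subgroup.mul_mem _ (Subgroup.inv_mem _ (Subgroup.le_normalizer hq)) hy.2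
    simpa using this⟩
  obtain ⟨χ, hχ, hχN, hχQ⟩ := exists_normalizer_map_fullyNormalized C.pg C.sat hQ (isConj_symm hc')
  obtain ⟨χi, hχi, -, hχie, -⟩ := exists_inv F hχ
  refine ⟨χ ⟨c, hcN⟩, stronglyClosed_apply_mem C.closed hχ _ hc₁.1, fun h => ?_, (hχN _).2, fun z hz => ?_⟩
  · obtain ⟨x, hx, hxQ, hxe⟩ := (mem_map_subgroupOf χ _).1 (hχQ.ge h)
    have h2 : x = c := congrArg Subtype.val (F.injective_of_mem hχ hxe)
    exact hcQ (h2 ▸ hxQ)
  · obtain ⟨x, hx, hxQ, rfl⟩ := (mem_map_subgroupOf χ _).1 (hχQ.ge hz.1)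
    have h1 := stronglyClosed_apply_mem C.closed hχi ⟨_, ⟨⟨x, hx⟩, rfl⟩⟩ hz.2
    have hxT : x ∈ T := (congrArg (· ∈ T) (hχie ⟨x, hx⟩ ⟨_, rfl⟩)).mp h1
    rw [← map_mul, ← map_mul]
    exact congrArg χ (Subtype.ext (Subgroup.mem_centralizer_iff.1 hc₁.2 x (hQ'T ⟨hxQ, hxT⟩)))

/-- Every automorphism of `Q` carries conjugation by such an element to conjugation by an element of `S`. -/
theorem outer_mem_extender (C : Data p F E R) {Q : Subgroup Ω} (hQ : F.IsFullyNormalized Q) {w : Ω}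
    (hwT : w ∈ T) (hwn : w ∈ Subgroup.normalizer (Q : Set Ω)) (hw0 : ∀ y ∈ Q ⊓ T, y * w = w * y) {γ : MulAut Q}
    (hγ : γ ∈ F.autGroup Q) : w ∈ extender S Q (equivHom γ) := by
  have hQS := hQ.1
  haveI := finite_of_le hQS
  have hTn := stronglyClosed_le_normalizer C.closed
  have hwS := C.closed.1 hwT
  set K : Subgroup (MulAut Q) :=
    F.autGroup Q ⊓ modTriv T Q ⊓ relSub (inf_le_left : Q ⊓ T ≤ Q) (⊥ : Subgroup (MulAut ↥(Q ⊓ T))) with hK
  have hKp : IsPGroup p K := by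
    rintro ⟨a, ⟨-, haT⟩, b, hb, hab⟩
    rw [Subgroup.mem_bot.1 hb] at hab
    obtain ⟨k, hk⟩ := pElement_of_disp (C.pg.to_le hQS) (inf_le_left : Q ⊓ T ≤ Q) hab fun y =>
      ⟨Q.mul_mem (Q.inv_mem y.2) (a y).2, haT y⟩
    exact ⟨k, Subtype.ext hk⟩
  have hKn : ∀ g ∈ F.autGroup Q, ∀ a ∈ K, g * a * g⁻¹ ∈ K := by
    rintro g hg a ⟨⟨haF, haT⟩, b, hb, hab⟩
    have hgh := (equivHom_autGroup F hQS).1 hg
    obtain ⟨g₀, -, hg₀⟩ := exists_rel F (inf_le_left : Q ⊓ T ≤ Q) hQS hg fun y hy =>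
      ⟨(g y).2, stronglyClosed_apply_mem C.closed hgh y hy.2⟩
    refine ⟨⟨Subgroup.mul_mem _ (Subgroup.mul_mem _ hg haF) (Subgroup.inv_mem _ hg), fun q => ?_⟩,
      g₀ * b * g₀⁻¹, ?_, (hg₀.mul hab).mul hg₀.inv⟩
    · obtain ⟨r, rfl⟩ := g.surjective q
      rw [MulAut.mul_apply, MulAut.mul_apply, MulAut.inv_apply_self, ← Subgroup.coe_inv, ← Subgroup.coe_mul,
        ← map_inv, ← map_mul]
      exact stronglyClosed_apply_mem C.closed hgh (r⁻¹ * a r) (haT r)
    · rw [Subgroup.mem_bot.1 hb]; simp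
  obtain ⟨cw, hcw, hcwe⟩ := exists_conjAut (K := S) (P := Q) hwS hwn
  have hcwK : cw ∈ K := ⟨⟨autInducedBy_le_autGroup F hQS hcw, fun q => by
      rw [hcwe]
      have h1 := (Subgroup.mem_normalizer_iff.1 (hTn (S.inv_mem (hQS q.2))) w).1 hwT
      have := T.mul_mem h1 (T.inv_mem hwT)
      simpa [mul_assoc] using this⟩, 1, Subgroup.mem_bot.2 rfl, fun y => Subtype.ext (by
      rw [hcwe]
      show w * (y : Ω) * w⁻¹ = y
      rw [← hw0 y y.2, mul_inv_cancel_right])⟩
  obtain ⟨j, hj, hjW⟩ := (isSyl_of_fullyAutomized (fullyNormalized_imp C.pg C.sat hQ).2).exists_conj hKp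
    (inf_le_left.trans inf_le_left)
  have h1 := hKn _ (Subgroup.inv_mem _ hj) _ (hKn γ hγ cw hcwK)
  have h2 := hjW ⟨_, h1, rfl⟩
  simp only [MulEquiv.coe_toMonoidHom, MulAut.conj_apply] at h2
  rw [show j * (j⁻¹ * (γ * cw * γ⁻¹) * j⁻¹⁻¹) * j⁻¹ = γ * cw * γ⁻¹ by group] at h2
  obtain ⟨v, hv, hve⟩ := (mem_autInducedBy_iff _).1 h2
  refine Subgroup.subset_closure ⟨hwS, hwn, v, hv, fun q hq => ?_⟩
  have h3 := hve (γ q)
  simp only [MulAut.mul_apply, MulAut.inv_apply_self] at h3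
  refine Eq.trans ?_ h3
  rw [equivHom_apply, show (⟨w * (q : Ω) * w⁻¹, hq⟩ : Q) = cw q from Subtype.ext (hcwe q).symm]

/-- Every map of `F` between covering subgroups is an automorphism of `R` after a map of the system. -/
theorem relSys_frattini (C : Data p F E R) {P : Subgroup Ω} (hP : Mem T R P) {φ : P →* Ω}
    (hφ : φ ∈ F.Hom P) (hφR : φ.range ≤ R) : FrattiniMap F (relSys C) P φ := by
  set D := relSys C
  have hS := C.pg
  have hF := C.sat
  have hAI := relSys_autInvariant C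
  haveI : Finite R := finite_of_le (S := S) C.le
  induction hk : Nat.card R - Nat.card P using Nat.strong_induction_on generalizing P with
  | _ k ih =>
  haveI := finite_of_le (hP.1.trans C.le)
  have hsmall : ∀ {N : Subgroup Ω} {ψ : N →* Ω}, Mem T R N → Nat.card P < Nat.card N → ψ ∈ F.Hom N →
      ψ.range ≤ R → FrattiniMap F D N ψ := fun {N ψ} hN hlt hψ hψR => by
    refine ih _ ?_ hN hψ hψR rfl
    have : Nat.card N ≤ Nat.card R := Subgroup.card_le_of_le hN.1
    omega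
  rcases eq_or_lt_of_le hP.1 with rfl | hlt
  · have hr : φ.range = P := Subgroup.eq_of_le_of_card_ge hφR (isConj_card ⟨φ, hφ, rfl⟩).le
    obtain ⟨α, hα, hαe⟩ := exists_autGroup_of_range F hφ hr
    exact ⟨α, hα, P.subtype, subtype_mem D le_rfl, fun x _ => (hαe x).symm⟩
  obtain ⟨Q, hPQ, hQR, hQ⟩ := C.exists_fn hP
  have hQm : Mem T R Q := C.mem_conj hP hPQ hQR
  have hφm : Mem T R φ.range := C.mem_conj hP ⟨φ, hφ, rfl⟩ hφR
  have hgrow : ∀ A : Subgroup Ω, A ≤ R → Nat.card A = Nat.card P →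
      Nat.card P < Nat.card (normalizerIn R A) := by
    intro A hA hc
    haveI := finite_of_le (S := S) ((normalizerIn_le R A).trans C.le)
    have hAlt : A < R := lt_of_le_of_ne hA fun he => hlt.ne
      (Subgroup.eq_of_le_of_card_ge hP.1 (by rw [← hc, he]))
    rw [← hc]
    exact card_lt_of_lt (lt_normalizerIn (hS.to_le C.le) hAlt)
  have step : ∀ A : Subgroup Ω, Mem T R A → F.IsConj A Q → Nat.card A = Nat.card P →
      ∃ e : A ≃* Q, equivHom e ∈ F.Hom A ∧ FrattiniMap F D A (equivHom e) := by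
    intro A hA hAQ hc
    obtain ⟨ψ, hψ, -, hψA⟩ := exists_normalizer_map_fullyNormalized hS hF hQ hAQ
    have hle : normalizerIn R A ≤ normalizerIn S A := inf_le_inf_right _ C.le
    have h1 := hsmall (hA.mono (le_normalizerIn hA.1) (normalizerIn_le R A)) (hgrow A hA.1 hc)
      (restrict_mem F hψ hle) (by
        rintro _ ⟨x, rfl⟩
        exact C.apply_mem' hψ (le_normalizerIn (hA.1.trans C.le)) hA (extend_restrict_range _ hψA) hQR x.2.1)
    exact ⟨mapEquiv F (restrict_mem F hψ (le_normalizerIn (hA.1.trans C.le))) (extend_restrict_range _ hψA),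
      equivHom_mapEquiv F _ _, frattini_congr (frattini_restrict h1 (le_normalizerIn hA.1)) fun _ => rfl⟩
  have hc1 : Nat.card P = Nat.card φ.range := isConj_card ⟨φ, hφ, rfl⟩
  obtain ⟨e₁, he₁, hg₁⟩ := step P hP hPQ rfl
  obtain ⟨e₂, he₂, hg₂⟩ := step φ.range hφm (isConj_trans (isConj_symm ⟨φ, hφ, rfl⟩) hPQ) hc1.symm
  set f := mapEquiv F hφ rfl
  set γ : MulAut Q := e₁.symm.trans (f.trans e₂)
  have hγ : γ ∈ F.autGroup Q := (equivHom_autGroup F hQ.1).2
    (equivHom_trans F (equivHom_symm_mem F e₁ he₁) (equivHom_trans F (equivHom_mapEquiv F hφ rfl) he₂))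
  haveI := finite_of_le hQ.1
  obtain ⟨hQfc, -⟩ := fullyNormalized_imp hS hF hQ
  have hext : ∀ n ∈ F.autGroup Q, ∀ N : Subgroup Ω, N ≤ R → Q < N → N ≤ extender S Q (equivHom n) →
      FrattiniMap F D Q (equivHom n) := by
    intro n hn N hNR hQN hNe
    obtain ⟨ψ, hψ, hψe⟩ := (fullyCentralized_receptive hS hF hQfc).2 Q _ ((equivHom_autGroup F hQ.1).1 hn)
      (equivHom_range n)
    haveI := finite_of_le (S := S) (hNR.trans C.le)
    refine frattini_congr (frattini_restrict (hsmall (hQm.mono hQN.le hNR)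
      ((isConj_card hPQ).trans_lt (card_lt_of_lt hQN)) (restrict_mem F hψ hNe) ?_) hQN.le)
      fun x => (hψe x x.2 _).symm
    rintro _ ⟨x, rfl⟩
    refine C.apply_mem hψ (hQN.le.trans hNe) hQm (fun q => ?_) (hNR x.2)
    rw [show ψ (Subgroup.inclusion (hQN.le.trans hNe) q) = _ from hψe q q.2 _]
    exact hQR (n q).2
  have hγF : FrattiniMap F D Q (equivHom γ) := by
    by_cases hQc : Hc F E R Q
    · have hB := bGroup_le C hQ.1
      have hn : F.autGroup Q ≤ Subgroup.normalizer (bGroup p F E R Q : Set (MulAut Q)) := fun g hg =>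
        mem_normalizer_of_conj_mem_finite fun y hy => conj_mem_bGroup C hQc hQ hg hy
      obtain ⟨n, hnF, b, hb, hnb, hnW⟩ := exists_frattini_syl (isSyl_bGroup C hQc hQ) hB hn hγ
      have hNe : normalizerIn R Q ≤ extender S Q (equivHom n) := by
        intro g hg
        obtain ⟨c, hc, hce⟩ := exists_conjAut (K := R) (P := Q) hg.1 hg.2
        obtain ⟨h, hh, hhe⟩ := (mem_autInducedBy_iff _).1 (hnW c hc)
        refine Subgroup.subset_closure ⟨C.le hg.1, hg.2, h, C.le hh, fun x hx => ?_⟩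
        have h2 := hhe (n x)
        simp only [MulAut.mul_apply, MulAut.inv_apply_self] at h2
        refine Eq.trans ?_ h2
        rw [equivHom_apply, show (⟨g * (x : Ω) * g⁻¹, hx⟩ : Q) = c x from Subtype.ext (hce x).symm]
      have hQlt : Q < R := lt_of_le_of_ne hQR fun he => hlt.ne
        (Subgroup.eq_of_le_of_card_ge hP.1 (by rw [isConj_card hPQ, he]))
      have hnF' := hext n hnF _ (normalizerIn_le R Q) (lt_normalizerIn (hS.to_le C.le) hQlt) hNe
      have hbF : FrattiniMap F D Q (equivHom b) :=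
        frattini_of_mem ((mem_autGroup_iff D hQR _).1 (bGroup_le_relSys C hQc hb))
      exact frattini_congr (frattini_comp hAI hbF hnF' fun x => (b x).2) fun x =>
        congrArg (fun a : MulAut Q => ((a x : Q) : Ω)) hnb
    · by_cases hC : centralizerIn R Q ≤ Q
      · have hnc : ¬ E.IsCentric (Q ⊓ T) := by
          intro hcen
          refine hQc ⟨hQm, hcen, fun Q' hQ' hQ'R y hy => ?_⟩
          obtain ⟨θ, hθ, hθr⟩ := isConj_symm hQ'
          obtain ⟨χ, hχ, hχe⟩ := (fullyCentralized_receptive hS hF hQfc).2 Q' θ hθ hθr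
          have hyE : y ∈ extender S Q' θ := centralizerIn_le_extender θ ⟨C.le hy.1, hy.2⟩
          have hr' : (χ.comp (Subgroup.inclusion (le_extender F hθ))).range = Q := by
            rw [show χ.comp (Subgroup.inclusion (le_extender F hθ)) = θ from
              MonoidHom.ext fun x => hχe x x.2 _, hθr]
          have h1 : χ ⟨y, hyE⟩ ∈ centralizerIn R Q :=
            ⟨C.apply_mem' hχ (le_extender F hθ) (C.mem_conj hQm hQ' hQ'R) hr' hQR hy.1,
              apply_mem_centralizer χ (le_extender F hθ) hr' _ hy.2⟩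
          obtain ⟨w, hw⟩ := hθr.ge (hC h1)
          have hwE : (w : Ω) ∈ extender S Q' θ := le_extender F hθ w.2
          rw [← hχe w w.2 hwE] at hw
          have h2 : (w : Ω) = y := congrArg Subtype.val (F.injective_of_mem hχ hw)
          exact h2 ▸ w.2
        obtain ⟨w, hwT, hwQ, hwn, hw0⟩ := exists_outer C hQm hQ hnc
        refine hext γ hγ (Q ⊔ Subgroup.zpowers w) (sup_le hQR (Subgroup.zpowers_le.2 (C.leT hwT)))
          (lt_of_le_of_ne le_sup_left fun he => hwQ (he.ge (Subgroup.mem_sup_right (Subgroup.mem_zpowers w)))) ?_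
        exact sup_le (le_extender F ((equivHom_autGroup F hQ.1).1 hγ))
          (Subgroup.zpowers_le.2 (outer_mem_extender C hQ hwT hwn hw0 hγ))
      · refine hext γ hγ (Q ⊔ centralizerIn R Q) (sup_le hQR (centralizerIn_le _ _))
          (lt_of_le_of_ne le_sup_left fun he => hC (le_sup_right.trans he.ge)) ?_
        exact (sup_le_sup_left (inf_le_inf_right _ C.le) Q).trans
          (centralizerIn_sup_le_extender F ((equivHom_autGroup F hQ.1).1 hγ))
  have h2' : FrattiniMap F D Q (equivHom e₂.symm) := frattini_symm hAI e₂ hg₂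
  refine frattini_congr (frattini_comp hAI (frattini_comp hAI hg₁ hγF fun x => (e₁ x).2) h2'
    fun x => (γ (e₁ x)).2) fun x => ?_
  show φ x = ((e₂.symm (e₂ (f (e₁.symm (e₁ x)))) : _) : Ω)
  rw [e₂.symm_apply_apply, e₁.symm_apply_apply]
  rfl

theorem exists_cls (C : Data p F E R) {P : Subgroup Ω} (hP : Mem T R P) {φ : P →* Ω} (hφ : φ ∈ F.Hom P)
    (hφR : φ.range ≤ R) : ∃ β, Cls F (relSys C) P φ β := by
  obtain ⟨α, hα, φ₀, hφ₀, he⟩ := relSys_frattini C hP hφ hφR
  exact ⟨α, hα, φ₀, hφ₀, fun x => he x _⟩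

/-! ### The automorphisms of `T` acting on `P` as maps of the system -/

/-- The classes of the inclusion of `P`. -/
def dRes (C : Data p F E R) {P : Subgroup Ω} (hP : P ≤ R) : Subgroup (MulAut ↥R) where
  carrier := {α | Cls F (relSys C) P P.subtype α}
  one_mem' := cls_of_mem (subtype_mem _ hP)
  mul_mem' {a b} ha hb := (Cls.comp (relSys_autInvariant C) hb ha fun x => x.2).congr fun _ => rfl
  inv_mem' {a} ha := Cls.symm (relSys_autInvariant C) (MulEquiv.refl P) (ha.congr fun _ => rfl)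

theorem mem_dRes_iff (C : Data p F E R) {P : Subgroup Ω} (hP : P ≤ R) {α : MulAut ↥R} :
    α ∈ dRes C hP ↔ α ∈ F.autGroup R ∧
      (R.subtype.comp α.toMonoidHom).comp (Subgroup.inclusion hP) ∈ (relSys C).Hom P := by
  constructor
  · intro h
    obtain ⟨hα, φ₀, hφ₀, he⟩ := (dRes C hP).inv_mem h
    refine ⟨by simpa using Subgroup.inv_mem _ hα, hom_congr _ hφ₀ fun x => ?_⟩
    have h1 : (⟨(x : Ω), hP x.2⟩ : ↥R) = α⁻¹ ⟨φ₀ x, hom_apply_mem _ hφ₀ x⟩ := Subtype.ext (he x)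
    show ((α ⟨(x : Ω), hP x.2⟩ : ↥R) : Ω) = _
    rw [h1, MulAut.apply_inv_self]
  · rintro ⟨hα, hres⟩
    have h : α⁻¹ ∈ dRes C hP := ⟨Subgroup.inv_mem _ hα, _, hres, fun x => by
      show (x : Ω) = ((α⁻¹ (α ⟨(x : Ω), hP x.2⟩) : ↥R) : Ω)
      rw [MulAut.inv_apply_self]⟩
    simpa using Subgroup.inv_mem _ h

theorem dRes_le (C : Data p F E R) {P : Subgroup Ω} (hP : P ≤ R) :
    dRes C hP ≤ F.autGroup R := fun _ h => h.1

theorem dRes_antitone (C : Data p F E R) {P Q : Subgroup Ω} (hP : P ≤ R) (hQP : Q ≤ P) :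
    dRes C hP ≤ dRes C (hQP.trans hP) := fun _ h => (h.restrict hQP).congr fun _ => rfl

/-- Two classes of one map differ by an element of `dRes`. -/
theorem cls_unique (C : Data p F E R) {P : Subgroup Ω} (hP : P ≤ R) {φ : P →* Ω} (hφ : φ ∈ F.Hom P)
    {β β' : MulAut ↥R} (h : Cls F (relSys C) P φ β) (h' : Cls F (relSys C) P φ β') :
    β'⁻¹ * β ∈ dRes C hP := by
  set e := mapEquiv F hφ rfl
  have h1 : Cls F (relSys C) P (equivHom e) β' := h'.congr fun _ => rfl
  have h2 : Cls F (relSys C) P (equivHom e) β := h.congr fun _ => rfl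
  exact (Cls.comp (relSys_autInvariant C) h2 (h1.symm (relSys_autInvariant C) e) fun x => (e x).2).congr fun x => by
    show (x : Ω) = ((e.symm (e x) : P) : Ω)
    rw [e.symm_apply_apply]

theorem cls_mul_dRes (C : Data p F E R) {P : Subgroup Ω} (hP : P ≤ R) {φ : P →* Ω}
    {β d : MulAut ↥R} (h : Cls F (relSys C) P φ β) (hd : d ∈ dRes C hP) :
    Cls F (relSys C) P φ (β * d) :=
  (Cls.comp (relSys_autInvariant C) (show Cls F (relSys C) P P.subtype d from hd) h fun x => x.2).congr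
    fun _ => rfl

/-- `dRes` is transported by isomorphisms of the system. -/
theorem dRes_transport (C : Data p F E R) {P Q : Subgroup Ω} (hP : P ≤ R) (hQ : Q ≤ R)
    (e : P ≃* Q) {a d : MulAut ↥R} (ha : Cls F (relSys C) P (equivHom e) a) (hd : d ∈ dRes C hP) :
    a * d * a⁻¹ ∈ dRes C hQ := by
  have h1 := Cls.comp (relSys_autInvariant C) (ha.symm (relSys_autInvariant C) e) (cls_mul_dRes C hP ha hd)
    fun y => (e.symm y).2
  exact h1.congr fun y => (congrArg Subtype.val (e.apply_symm_apply y)).symm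

/-! ### The expected value of `dRes` -/

/-- `O^p(J(T)) Aut_T(T)` together with the automorphisms of `T` induced by `C_S(Q)`. -/
def gGroup (C : Data p F E R) (Q : Subgroup Ω) : Subgroup (MulAut ↥R) :=
  bGroup p F E R R ⊔ autInducedBy (centralizerIn S Q) R

theorem gGroup_mono (C : Data p F E R) {Q U : Subgroup Ω} (h : Q ≤ U) : gGroup C U ≤ gGroup C Q :=
  sup_le_sup_left (autInducedBy_mono (inf_le_inf_left S (Subgroup.centralizer_le h))) _

theorem gGroup_le (C : Data p F E R) (Q : Subgroup Ω) : gGroup C Q ≤ F.autGroup R :=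
  sup_le (bGroup_le C C.le) ((autInducedBy_mono (centralizerIn_le S Q)).trans (autInducedBy_le_autGroup F C.le))

theorem conj_mem_top (C : Data p F E R) {a k : MulAut ↥R} (ha : a ∈ F.autGroup R)
    (hk : k ∈ bGroup p F E R R) : a * k * a⁻¹ ∈ bGroup p F E R R :=
  conj_mem_bGroup C (hc_self C) C.fnR ha hk

theorem mem_gGroup (C : Data p F E R) {Q : Subgroup Ω} {α : MulAut ↥R} (h : α ∈ gGroup C Q) :
    ∃ s ∈ centralizerIn S Q, ∃ (c : MulAut ↥R) (k : MulAut ↥R), k ∈ bGroup p F E R R ∧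
      (∀ x : ↥R, ((c x : ↥R) : Ω) = s * (x : Ω) * s⁻¹) ∧ α = c * k := by
  haveI : Finite ↥R := finite_of_le (S := S) C.le
  have hn : autInducedBy (centralizerIn S Q) R ≤
      Subgroup.normalizer (bGroup p F E R R : Set (MulAut ↥R)) := fun a ha =>
    mem_normalizer_of_conj_mem_finite fun k hk =>
      conj_mem_top C (autInducedBy_le_autGroup F C.le (autInducedBy_mono (centralizerIn_le S Q) ha)) hk
  rw [gGroup, sup_comm, ← SetLike.mem_coe, Subgroup.coe_mul_of_left_le_normalizer_right _ _ hn] at h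
  obtain ⟨c, hc, k, hk, rfl⟩ := h
  obtain ⟨s, hs, hse⟩ := (mem_autInducedBy_iff _).1 hc
  exact ⟨s, hs, c, k, hk, hse, rfl⟩

theorem gGroup_le_dRes (C : Data p F E R) {Q : Subgroup Ω} (hQ : Q ≤ R) :
    gGroup C Q ≤ dRes C hQ := by
  refine sup_le (fun k hk => (mem_dRes_iff C hQ).2 ⟨bGroup_le C C.le hk, restrict_mem _ ?_ hQ⟩) fun c hc => ?_
  · exact (mem_autGroup_iff _ le_rfl k).1
      (bGroup_le_relSys C (hc_self C) hk)
  · obtain ⟨s, hs, hse⟩ := (mem_autInducedBy_iff _).1 hc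
    refine (mem_dRes_iff C hQ).2 ⟨autInducedBy_le_autGroup F C.le (autInducedBy_mono (centralizerIn_le S Q) hc),
      hom_congr _ (subtype_mem _ hQ) fun x => ?_⟩
    show ((c ⟨(x : Ω), hQ x.2⟩ : ↥R) : Ω) = x
    rw [hse, ← Subgroup.mem_centralizer_iff.1 hs.2 x x.2, mul_inv_cancel_right]

/-- The automizer of the carrier. -/
theorem relSys_autGroup_top (C : Data p F E R) :
    (relSys C).autGroup R = bGroup p F E R R := by
  haveI : Finite R := finite_of_le (S := S) C.le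
  refine le_antisymm ?_ (bGroup_le_relSys C (hc_self C))
  have key : ∀ (P : Subgroup Ω) (φ : P →* Ω), φ ∈ (relSys C).Hom P → P = R →
      ∃ k ∈ bGroup p F E R R, ∀ (x : P) (hx : (x : Ω) ∈ R), φ x = ((k ⟨x, hx⟩ : R) : Ω) := by
    let Y : FusionSystem R :=
      { Hom := fun P => {φ | φ ∈ (relSys C).Hom P ∧ (P = R → ∃ k ∈ bGroup p F E R R,
          ∀ (x : P) (hx : (x : Ω) ∈ R), φ x = ((k ⟨x, hx⟩ : R) : Ω))}
        le_of_mem := fun h => (relSys C).le_of_mem h.1
        injective_of_mem := fun h => (relSys C).injective_of_mem h.1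
        conj_mem := by
          refine fun {P g} hP hg => ⟨(relSys C).conj_mem hP hg, fun hPT => ?_⟩
          obtain ⟨c, hc, hce⟩ := exists_conjAut (K := R) (P := R) hg (Subgroup.le_normalizer hg)
          exact ⟨c, autR_le_bGroup p F E R R hc, fun x hx => (hce ⟨x, hx⟩).symm⟩
        comp_mem := by
          rintro P U φ ψ ⟨hφ, hφk⟩ ⟨hψ, hψk⟩ h
          refine ⟨(relSys C).comp_mem hφ hψ h, fun hPT => ?_⟩
          obtain ⟨k, hk, hke⟩ := hφk hPT
          have hPT' : ∀ y ∈ R, y ∈ P := fun y hy => hPT.symm ▸ hy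
          have hR : U = R := by
            refine le_antisymm (hom_le _ hψ) fun y hy => ?_
            have h1 := h ⟨(k.symm ⟨y, hy⟩ : R), hPT' _ (SetLike.coe_mem _)⟩
            rw [hke _ (SetLike.coe_mem (k.symm ⟨y, hy⟩)), show (⟨((k.symm ⟨y, hy⟩ : R) : Ω), SetLike.coe_mem (k.symm ⟨y, hy⟩)⟩ : R) = k.symm ⟨y, hy⟩ from rfl,
              k.apply_symm_apply] at h1
            exact h1
          obtain ⟨l, hl, hle⟩ := hψk hR
          refine ⟨l * k, Subgroup.mul_mem _ hl hk, fun x hx => ?_⟩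
          show ψ ⟨φ x, h x⟩ = _
          rw [hle _ (hom_apply_mem _ hφ x), MulAut.mul_apply]
          exact congrArg (fun z : R => ((l z : R) : Ω)) (Subtype.ext (hke x hx))
        inv_mem := by
          rintro P φ ⟨hφ, hφk⟩
          obtain ⟨ψ, hψ, hψe⟩ := (relSys C).inv_mem hφ
          refine ⟨ψ, ⟨hψ, fun hr => ?_⟩, hψe⟩
          have hPT : P = R := Subgroup.eq_of_le_of_card_ge (hom_le _ hφ) (by
            rw [isConj_card (F := relSys C) ⟨φ, hφ, rfl⟩, hr])
          obtain ⟨k, hk, hke⟩ := hφk hPT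
          refine ⟨k⁻¹, Subgroup.inv_mem _ hk, fun y hy => ?_⟩
          obtain ⟨_, x, rfl⟩ := y
          rw [hψe x, show (⟨φ x, hy⟩ : R) = k ⟨x, hom_le _ hφ x.2⟩ from Subtype.ext (hke x _),
            MulAut.inv_apply_self] }
    have hY : GenClosed p F E Y := by
      intro P hP x hx
      refine (mem_autGroup_iff Y hP.le x).2 ⟨(mem_autGroup_iff _ hP.le x).1 (genClosed_relSys C P hP x hx),
        fun hPT => ?_⟩
      subst hPT
      exact ⟨x, Subgroup.mem_sup_left (mem_opOf hx.2 hx.1), fun y hy => rfl⟩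
    exact fun P φ hφ => (relSys_min hY P hφ).2
  intro α hα
  obtain ⟨k, hk, hke⟩ := key R _ ((mem_autGroup_iff _ le_rfl α).1 hα) rfl
  rwa [show α = k from MulEquiv.ext fun x => Subtype.ext (hke x x.2)]

theorem dRes_top_le (C : Data p F E R) : dRes C (le_refl R) ≤ gGroup C R := by
  intro α hα
  refine Subgroup.mem_sup_left ?_
  rw [← relSys_autGroup_top C]
  exact (mem_autGroup_iff _ le_rfl α).2 (hom_congr _ ((mem_dRes_iff C le_rfl).1 hα).2 fun _ => rfl)

end Cfsg.Agent.RelProd
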