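import Cfsg.Agent.Lib.RelProd.Restrict
import Cfsg.Agent.Lib.Fusion.ComponentTransport

/-!
# Moving normalizer and centralizer systems along maps of the system
-/

set_option autoImplicit false
set_option linter.unusedSectionVars false
set_option linter.style.haveILetI false

namespace Cfsg.Agent.RelProd

open Cfsg Cfsg.FusionSystem Cfsg.Agent.FusionSys Cfsg.Agent.FusionSys.FocCent
  Cfsg.Agent.FusionSys.KerClass Cfsg.Agent.FusionMeet

variable {Ω : Type*} [Group Ω] {S : Subgroup Ω} {p : ℕ} [hp : Fact p.Prime] [Finite S]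
variable {F : FusionSystem S} {X X' : Subgroup Ω}

/-- A map between normalizers carrying `X` to `X'` carries the normalizer system forwards. -/
theorem norm_push (hX : X ≤ S) (hX' : X' ≤ S) {c : normalizerIn S X →* Ω} (hc : c ∈ F.Hom (normalizerIn S X))
    (hcN : ∀ x, c x ∈ normalizerIn S X') (hcX : (X.subgroupOf (normalizerIn S X)).map c = X')
    {P A : Subgroup Ω} {φ : P →* Ω} (hφ : φ ∈ (normSystem F hX).Hom P) {φ' : A →* Ω}
    (hA : ∀ a ∈ A, ∃ x : normalizerIn S X, (x : Ω) ∈ P ∧ c x = a)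
    (he : ∀ (x : P) (hxN : (x : Ω) ∈ normalizerIn S X) (hφxN : φ x ∈ normalizerIn S X) (h : c ⟨x, hxN⟩ ∈ A),
      φ' ⟨c ⟨x, hxN⟩, h⟩ = c ⟨φ x, hφxN⟩) :
    φ' ∈ (normSystem F hX').Hom A := by
  obtain ⟨h1, h2, h3, ψ, hψ, h4, h5⟩ := hφ
  obtain ⟨h5a, h5b⟩ := (map_subgroupOf_eq_iff ψ le_sup_right).1 h5
  obtain ⟨θ, hθ, -, hθ1, -⟩ := exists_inv F hc
  have hX'N : X' ≤ normalizerIn S X' := le_normalizerIn hX'
  have hAN : A ≤ normalizerIn S X' := fun a ha => by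
    obtain ⟨x, -, rfl⟩ := hA a ha
    exact hcN x
  have hM : A ⊔ X' ≤ c.range := sup_le (fun a ha => by obtain ⟨x, -, rfl⟩ := hA a ha; exact ⟨x, rfl⟩)
    fun y hy => by obtain ⟨x, -, hxy⟩ := hcX.ge hy; exact ⟨x, hxy⟩
  set θM := θ.comp (Subgroup.inclusion hM) with hθM
  have hθA : ∀ (x : normalizerIn S X) (h : c x ∈ A ⊔ X'), θM ⟨c x, h⟩ = x := fun x h => hθ1 x ⟨x, rfl⟩
  have hθMv : ∀ u, θM u ∈ P ⊔ X := apply_mem_of_sup θM
    (fun a => by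
      obtain ⟨x, hxP, hxa⟩ := hA a a.2
      rw [show Subgroup.inclusion le_sup_left a = (⟨c x, Subgroup.mem_sup_left (hxa ▸ a.2)⟩ : ↥(A ⊔ X'))
        from Subtype.ext hxa.symm, hθA]
      exact Subgroup.mem_sup_left hxP)
    (fun a => by
      obtain ⟨x, hxX, hxa⟩ := hcX.ge a.2
      rw [show Subgroup.inclusion le_sup_right a = (⟨c x, Subgroup.mem_sup_right (hxa ▸ a.2)⟩ : ↥(A ⊔ X'))
        from Subtype.ext hxa.symm, hθA]
      exact Subgroup.mem_sup_right hxX)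
  have hψN : ∀ u, ψ u ∈ normalizerIn S X := apply_mem_of_sup ψ (fun x => by rw [h4]; exact h3 x)
    fun x => le_normalizerIn hX (h5a x)
  have h6 : ψ.comp (θM.codRestrict (P ⊔ X) hθMv) ∈ F.Hom (A ⊔ X') :=
    F.comp_mem (restrict_mem F hθ hM) hψ hθMv
  set Ψ := c.comp ((ψ.comp (θM.codRestrict (P ⊔ X) hθMv)).codRestrict (normalizerIn S X) fun u => hψN _)
    with hΨ
  have hΨm : Ψ ∈ F.Hom (A ⊔ X') := F.comp_mem h6 hc fun u => hψN _
  have hΨA : ∀ a : A, Ψ (Subgroup.inclusion le_sup_left a) = φ' a := by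
    rintro ⟨a, ha⟩
    obtain ⟨x, hxP, rfl⟩ := hA a ha
    refine Eq.trans ?_ (he ⟨x, hxP⟩ x.2 (h3 _) ha).symm
    show c ⟨ψ ⟨θM ⟨c x, _⟩, _⟩, _⟩ = c ⟨φ ⟨x, hxP⟩, _⟩
    refine congrArg c (Subtype.ext ?_)
    show ψ ⟨θM ⟨c x, _⟩, _⟩ = φ ⟨x, hxP⟩
    exact (apply_congr ψ (hθA x _) _ (Subgroup.mem_sup_left hxP)).trans (h4 ⟨x, hxP⟩)
  refine ⟨hom_congr F (restrict_mem F hΨm le_sup_left) fun a => (hΨA a).symm, hAN,
    fun a => hΨA a ▸ hcN _, Ψ, hΨm, hΨA, ?_⟩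
  rw [map_subgroupOf_eq_iff _ le_sup_right]
  have hΨX : ∀ (x : normalizerIn S X) (hx : (x : Ω) ∈ X) (h : c x ∈ A ⊔ X'),
      Ψ ⟨c x, h⟩ = c ⟨ψ ⟨x, Subgroup.mem_sup_right hx⟩, hψN _⟩ := fun x hx h =>
    congrArg c (Subtype.ext (apply_congr ψ (hθA x h) _ (Subgroup.mem_sup_right hx)))
  refine ⟨fun y => ?_, fun z hz => ?_⟩
  · obtain ⟨x, hxX, hxy⟩ := hcX.ge y.2
    rw [show Subgroup.inclusion le_sup_right y = (⟨c x, Subgroup.mem_sup_right (hxy ▸ y.2)⟩ : ↥(A ⊔ X'))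
      from Subtype.ext hxy.symm, hΨX x hxX]
    exact hcX.le ⟨_, h5a ⟨x, hxX⟩, rfl⟩
  · obtain ⟨x, hxX, hxz⟩ := hcX.ge hz
    obtain ⟨w, hw⟩ := h5b x hxX
    have hw' : c ⟨(w : Ω), le_normalizerIn hX w.2⟩ ∈ X' := hcX.le ⟨_, w.2, rfl⟩
    refine ⟨⟨_, hw'⟩, ?_⟩
    rw [← hxz]
    exact (hΨX ⟨(w : Ω), le_normalizerIn hX w.2⟩ w.2 (Subgroup.mem_sup_right hw')).trans
      (congrArg c (Subtype.ext hw))

/-- A map between centralizers carrying `Y` to `Y'` carries the centralizer system forwards. -/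
theorem cent_push {Y Y' : Subgroup Ω} (hY : Y ≤ S) (hY' : Y' ≤ S) {c : normalizerIn S Y →* Ω}
    (hc : c ∈ F.Hom (normalizerIn S Y)) (hcY : (Y.subgroupOf (normalizerIn S Y)).map c = Y')
    {P A : Subgroup Ω} {φ : P →* Ω} (hφ : φ ∈ (centSystem F hY).Hom P) {φ' : A →* Ω}
    (hA : ∀ a ∈ A, ∃ x : normalizerIn S Y, (x : Ω) ∈ P ∧ c x = a)
    (he : ∀ (x : P) (hxN : (x : Ω) ∈ normalizerIn S Y) (hφxN : φ x ∈ normalizerIn S Y) (h : c ⟨x, hxN⟩ ∈ A),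
      φ' ⟨c ⟨x, hxN⟩, h⟩ = c ⟨φ x, hφxN⟩) :
    φ' ∈ (centSystem F hY').Hom A := by
  obtain ⟨h1, h2, h3, ψ, hψ, h4, h5⟩ := hφ
  obtain ⟨θ, hθ, -, hθ1, -⟩ := exists_inv F hc
  have hcC : ∀ x : normalizerIn S Y, (x : Ω) ∈ centralizerIn S Y → c x ∈ centralizerIn S Y' := fun x hx => by
    refine ⟨hom_apply_mem F hc x, Subgroup.mem_centralizer_iff.2 fun y hy => ?_⟩
    obtain ⟨z, hzY, rfl⟩ := hcY.ge hy
    rw [← map_mul, ← map_mul]
    exact congrArg c (Subtype.ext (Subgroup.mem_centralizer_iff.1 hx.2 z hzY))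
  have hAC : A ≤ centralizerIn S Y' := fun a ha => by
    obtain ⟨x, hxP, rfl⟩ := hA a ha
    exact hcC x (h2 hxP)
  have hM : A ⊔ Y' ≤ c.range := sup_le (fun a ha => by obtain ⟨x, -, rfl⟩ := hA a ha; exact ⟨x, rfl⟩)
    fun y hy => by obtain ⟨x, -, hxy⟩ := hcY.ge hy; exact ⟨x, hxy⟩
  set θM := θ.comp (Subgroup.inclusion hM) with hθM
  have hθA : ∀ (x : normalizerIn S Y) (h : c x ∈ A ⊔ Y'), θM ⟨c x, h⟩ = x := fun x h => hθ1 x ⟨x, rfl⟩
  have hθMv : ∀ u, θM u ∈ P ⊔ Y := apply_mem_of_sup θM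
    (fun a => by
      obtain ⟨x, hxP, hxa⟩ := hA a a.2
      rw [show Subgroup.inclusion le_sup_left a = (⟨c x, Subgroup.mem_sup_left (hxa ▸ a.2)⟩ : ↥(A ⊔ Y'))
        from Subtype.ext hxa.symm, hθA]
      exact Subgroup.mem_sup_left hxP)
    (fun a => by
      obtain ⟨x, hxX, hxa⟩ := hcY.ge a.2
      rw [show Subgroup.inclusion le_sup_right a = (⟨c x, Subgroup.mem_sup_right (hxa ▸ a.2)⟩ : ↥(A ⊔ Y'))
        from Subtype.ext hxa.symm, hθA]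
      exact Subgroup.mem_sup_right hxX)
  have hψN : ∀ u, ψ u ∈ normalizerIn S Y := apply_mem_of_sup ψ
    (fun x => by rw [h4]; exact centralizerIn_le_normalizerIn S Y (h3 x))
    fun x => by rw [h5]; exact le_normalizerIn hY x.2
  have h6 : ψ.comp (θM.codRestrict (P ⊔ Y) hθMv) ∈ F.Hom (A ⊔ Y') :=
    F.comp_mem (restrict_mem F hθ hM) hψ hθMv
  set Ψ := c.comp ((ψ.comp (θM.codRestrict (P ⊔ Y) hθMv)).codRestrict (normalizerIn S Y) fun u => hψN _)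
    with hΨ
  have hΨm : Ψ ∈ F.Hom (A ⊔ Y') := F.comp_mem h6 hc fun u => hψN _
  have hΨA : ∀ a : A, Ψ (Subgroup.inclusion le_sup_left a) = φ' a := by
    rintro ⟨a, ha⟩
    obtain ⟨x, hxP, rfl⟩ := hA a ha
    refine Eq.trans ?_ (he ⟨x, hxP⟩ x.2 (centralizerIn_le_normalizerIn S Y (h3 _)) ha).symm
    show c ⟨ψ ⟨θM ⟨c x, _⟩, _⟩, _⟩ = c ⟨φ ⟨x, hxP⟩, _⟩
    refine congrArg c (Subtype.ext ?_)
    show ψ ⟨θM ⟨c x, _⟩, _⟩ = φ ⟨x, hxP⟩
    exact (apply_congr ψ (hθA x _) _ (Subgroup.mem_sup_left hxP)).trans (h4 ⟨x, hxP⟩)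
  refine ⟨hom_congr F (restrict_mem F hΨm le_sup_left) fun a => (hΨA a).symm, hAC, ?_, Ψ, hΨm, hΨA,
    fun y => ?_⟩
  · rintro ⟨a, ha⟩
    obtain ⟨x, hxP, rfl⟩ := hA a ha
    rw [he ⟨x, hxP⟩ x.2 (centralizerIn_le_normalizerIn S Y (h3 _)) ha]
    exact hcC _ (h3 _)
  · obtain ⟨x, hxY, hxy⟩ := hcY.ge y.2
    rw [show Subgroup.inclusion le_sup_right y = (⟨c x, Subgroup.mem_sup_right (hxy ▸ y.2)⟩ : ↥(A ⊔ Y'))
      from Subtype.ext hxy.symm]
    refine Eq.trans ?_ hxy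
    refine congrArg c (Subtype.ext ?_)
    show ψ ⟨θM ⟨c x, _⟩, _⟩ = x
    exact (apply_congr ψ (hθA x _) _ (Subgroup.mem_sup_right hxY)).trans (h5 ⟨x, hxY⟩)

theorem imageAlong_exists {Ω' : Type*} [Group Ω'] {W : Subgroup Ω} {ι : W →* Ω'} {P : Subgroup Ω} :
    ∀ a ∈ imageAlong ι P, ∃ x : W, (x : Ω) ∈ P ∧ ι x = a := fun _ ha => ha

/-- The inverse of a map between normalizers, on the whole normalizer. -/
theorem exists_norm_inv (hX : X ≤ S) {c : normalizerIn S X →* Ω} (hc : c ∈ F.Hom (normalizerIn S X))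
    (hr : c.range = normalizerIn S X') (hcX : (X.subgroupOf (normalizerIn S X)).map c = X') :
    ∃ d ∈ F.Hom (normalizerIn S X'), (∀ y, d y ∈ normalizerIn S X) ∧
      (∀ (x : normalizerIn S X) (h : c x ∈ normalizerIn S X'), d ⟨c x, h⟩ = x) ∧
      (X'.subgroupOf (normalizerIn S X')).map d = X := by
  obtain ⟨θ, hθ, hθr, hθ1, -⟩ := exists_inv F hc
  refine ⟨θ.comp (Subgroup.inclusion hr.ge), restrict_mem F hθ hr.ge, fun y => hθr.le ⟨_, rfl⟩,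
    fun x h => hθ1 x ⟨x, rfl⟩, ?_⟩
  ext y
  constructor
  · rintro ⟨u, hu, rfl⟩
    obtain ⟨x, hx, hxu⟩ := hcX.ge hu
    rw [show u = ⟨c x, hxu ▸ u.2⟩ from Subtype.ext hxu.symm]
    exact (congrArg (· ∈ X) (hθ1 x ⟨x, rfl⟩)).mpr hx
  · intro hy
    have hyN : y ∈ normalizerIn S X := le_normalizerIn hX hy
    exact ⟨⟨c ⟨y, hyN⟩, hr.le ⟨_, rfl⟩⟩, hcX.le ⟨⟨y, hyN⟩, hy, rfl⟩, hθ1 ⟨y, hyN⟩ ⟨_, rfl⟩⟩

/-- The normalizer systems along a map between the normalizers are isomorphic. -/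
theorem isFusIso_norm (hX : X ≤ S) (hX' : X' ≤ S) {c : normalizerIn S X →* Ω}
    (hc : c ∈ F.Hom (normalizerIn S X)) (hr : c.range = normalizerIn S X')
    (hcX : (X.subgroupOf (normalizerIn S X)).map c = X') :
    IsFusIso (normSystem F hX) (normSystem F hX') c := by
  refine ⟨F.injective_of_mem hc, hr, fun P hP φ hφ φ' he => ⟨fun h => ?_, fun h => ?_⟩⟩
  · exact norm_push hX hX' hc (fun x => hr.le ⟨x, rfl⟩) hcX h imageAlong_exists fun x _ _ hx => he x hx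
  · obtain ⟨d, hd, hdN, hdc, hdX⟩ := exists_norm_inv hX hc hr hcX
    refine norm_push hX' hX hd hdN hdX h (fun x hx => ?_) ?_
    · exact ⟨⟨c ⟨x, hP hx⟩, hr.le ⟨_, rfl⟩⟩, ⟨⟨x, hP hx⟩, hx, rfl⟩, hdc _ _⟩
    · rintro ⟨_, x, hx, rfl⟩ hyN hφyN hA
      rw [apply_congr φ (hdc x hyN) hA hx]
      exact ((congrArg d (Subtype.ext (he ⟨x, hx⟩ ⟨x, hx, rfl⟩) :
        (⟨φ' ⟨c x, x, hx, rfl⟩, hφyN⟩ : normalizerIn S X') = ⟨c ⟨φ ⟨x, hx⟩, hφ _⟩, hr.le ⟨_, rfl⟩⟩)).trans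
        (hdc _ _)).symm

/-- The centralizer systems along a map between the normalizers are isomorphic. -/
theorem isFusIso_cent {Y Y' : Subgroup Ω} (hY : F.IsFullyCentralized Y) (hY' : Y' ≤ S)
    {c : normalizerIn S Y →* Ω} (hc : c ∈ F.Hom (normalizerIn S Y)) (hcN : ∀ x, c x ∈ normalizerIn S Y')
    (hcY : (Y.subgroupOf (normalizerIn S Y)).map c = Y') :
    IsFusIso (centSystem F hY.1) (centSystem F hY')
      (c.comp (Subgroup.inclusion (centralizerIn_le_normalizerIn S Y))) := by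
  haveI : Finite ↥(centralizerIn S Y') := finite_of_le (centralizerIn_le S Y')
  set C₀ := c.comp (Subgroup.inclusion (centralizerIn_le_normalizerIn S Y)) with hC₀
  have hcC : ∀ x : centralizerIn S Y, C₀ x ∈ centralizerIn S Y' := fun x => by
    refine ⟨hom_apply_mem F hc _, Subgroup.mem_centralizer_iff.2 fun y hy => ?_⟩
    obtain ⟨z, hzY, rfl⟩ := hcY.ge hy
    show c z * c _ = c _ * c z
    rw [← map_mul, ← map_mul]
    exact congrArg c (Subtype.ext (Subgroup.mem_centralizer_iff.1 x.2.2 z hzY))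
  have hC₀m : C₀ ∈ F.Hom (centralizerIn S Y) := restrict_mem F hc _
  have hYY' : F.IsConj Y Y' := ⟨_, restrict_mem F hc (le_normalizerIn hY.1), extend_restrict_range _ hcY⟩
  have hr : C₀.range = centralizerIn S Y' := by
    refine Subgroup.eq_of_le_of_card_ge (by rintro _ ⟨x, rfl⟩; exact hcC x) ?_
    rw [← isConj_card ⟨C₀, hC₀m, rfl⟩]
    exact hY.2 Y' hYY'
  refine ⟨F.injective_of_mem hC₀m, hr, fun P hP φ hφ φ' he => ⟨fun h => ?_, fun h => ?_⟩⟩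
  · refine cent_push hY.1 hY' hc hcY h (fun a ha => ?_) fun x hxN hφxN hx => ?_
    · obtain ⟨x, hx, rfl⟩ := ha
      exact ⟨Subgroup.inclusion (centralizerIn_le_normalizerIn S Y) x, hx, rfl⟩
    · exact he x hx
  · obtain ⟨θ, hθ, hθr, hθ1, -⟩ := exists_inv F hc
    obtain ⟨h1, h2, h3, ψ, hψ, h4, h5⟩ := h
    -- the extension fixing `Y`
    have hPN : P ≤ normalizerIn S Y := hP.trans (centralizerIn_le_normalizerIn S Y)
    have hM : P ⊔ Y ≤ normalizerIn S Y := sup_le hPN (le_normalizerIn hY.1)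
    set cM := c.comp (Subgroup.inclusion hM) with hcM
    have hcMv : ∀ u, cM u ∈ imageAlong C₀ P ⊔ Y' := apply_mem_of_sup cM
      (fun x => Subgroup.mem_sup_left ⟨⟨x, hP x.2⟩, x.2, rfl⟩)
      fun x => Subgroup.mem_sup_right (hcY.le ⟨⟨x, le_normalizerIn hY.1 x.2⟩, x.2, rfl⟩)
    have hψr : ∀ u, ψ u ∈ c.range := apply_mem_of_sup ψ
      (fun a => by
        rw [h4]
        obtain ⟨x, hx, hxa⟩ := a.2
        rw [show a = (⟨C₀ x, x, hx, rfl⟩ : imageAlong C₀ P) from Subtype.ext hxa.symm]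
        exact ⟨_, (he ⟨x, hx⟩ ⟨x, hx, rfl⟩).symm⟩)
      fun y => by rw [h5]; obtain ⟨z, -, hz⟩ := hcY.ge y.2; exact ⟨z, hz⟩
    have h6 : ψ.comp (cM.codRestrict _ hcMv) ∈ F.Hom (P ⊔ Y) := F.comp_mem (restrict_mem F hc hM) hψ hcMv
    refine ⟨hom_congr F (restrict_mem F (F.comp_mem h6 hθ fun u => hψr _) le_sup_left) fun x => ?_, hP, hφ,
      _, F.comp_mem h6 hθ fun u => hψr _, fun x => ?_, fun y => ?_⟩
    · symm
      show θ ⟨ψ ⟨c _, _⟩, _⟩ = φ x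
      have h7 : ψ ⟨c (Subgroup.inclusion hM (Subgroup.inclusion le_sup_left x)), hcMv _⟩ =
          C₀ ⟨φ x, hφ x⟩ := (h4 ⟨_, ⟨x, hP x.2⟩, x.2, rfl⟩).trans (he x ⟨_, x.2, rfl⟩)
      exact (apply_congr θ h7 _ ⟨_, rfl⟩).trans (hθ1 (Subgroup.inclusion (centralizerIn_le_normalizerIn S Y) ⟨φ x, hφ x⟩) ⟨_, rfl⟩)
    · show θ ⟨ψ ⟨c _, _⟩, _⟩ = φ x
      have h7 : ψ ⟨c (Subgroup.inclusion hM (Subgroup.inclusion le_sup_left x)), hcMv _⟩ =
          C₀ ⟨φ x, hφ x⟩ := (h4 ⟨_, ⟨x, hP x.2⟩, x.2, rfl⟩).trans (he x ⟨_, x.2, rfl⟩)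
      exact (apply_congr θ h7 _ ⟨_, rfl⟩).trans (hθ1 (Subgroup.inclusion (centralizerIn_le_normalizerIn S Y) ⟨φ x, hφ x⟩) ⟨_, rfl⟩)
    · show θ ⟨ψ ⟨c _, _⟩, _⟩ = y
      have hy' : c ⟨(y : Ω), le_normalizerIn hY.1 y.2⟩ ∈ Y' := hcY.le ⟨_, y.2, rfl⟩
      have h7 : ψ ⟨c (Subgroup.inclusion hM (Subgroup.inclusion le_sup_right y)), hcMv _⟩ =
          c ⟨(y : Ω), le_normalizerIn hY.1 y.2⟩ := h5 ⟨_, hy'⟩
      exact (apply_congr θ h7 _ ⟨_, rfl⟩).trans (hθ1 ⟨(y : Ω), le_normalizerIn hY.1 y.2⟩ ⟨_, rfl⟩)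

/-- A fully normalized subgroup moves to one whose product with a strongly closed subgroup is fully
normalized. -/
theorem exists_frame (hS : IsPGroup p S) (hF : F.IsSaturated p) (hX : F.IsFullyNormalized X) {T : Subgroup Ω}
    (hT : F.StronglyClosed T) :
    ∃ X', F.IsFullyNormalized X' ∧ F.IsFullyNormalized (X' ⊔ T) ∧ F.IsConj X X' ∧
      ∃ c ∈ F.Hom (normalizerIn S X), c.range = normalizerIn S X' ∧
        (X.subgroupOf (normalizerIn S X)).map c = X' := by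
  have hRS : X ⊔ T ≤ S := sup_le hX.1 hT.1
  haveI := finite_of_le hRS
  haveI := finite_of_le hX.1
  obtain ⟨R', hRR', hR'⟩ := exists_fullyNormalized F hRS
  obtain ⟨c₀, hc₀, hc₀N, hc₀R⟩ := exists_normalizer_map_fullyNormalized hS hF hR' hRR'
  have hle : normalizerIn S X ≤ normalizerIn S (X ⊔ T) := fun g hg => ⟨hg.1,
    mem_normalizer_of_conj_mem_finite fun y hy => by
      have h : X ⊔ T ≤ (X ⊔ T).comap (MulAut.conj g).toMonoidHom := sup_le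
        (fun z hz => Subgroup.mem_sup_left ((Subgroup.mem_normalizer_iff.1 hg.2 z).1 hz))
        fun z hz => Subgroup.mem_sup_right
          ((Subgroup.mem_normalizer_iff.1 (stronglyClosed_le_normalizer hT hg.1) z).1 hz)
      exact h hy⟩
  set c := c₀.comp (Subgroup.inclusion hle) with hcdef
  have hc : c ∈ F.Hom (normalizerIn S X) := restrict_mem F hc₀ hle
  set X' := (X.subgroupOf (normalizerIn S X)).map c with hX'def
  have hXX' : F.IsConj X X' :=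
    ⟨_, restrict_mem F hc (le_normalizerIn hX.1), extend_restrict_range _ rfl⟩
  haveI := finite_of_le (isConj_le_right hXX')
  have hcN : ∀ x, c x ∈ normalizerIn S X' := fun x => ⟨hom_apply_mem F hc x,
    apply_mem_normalizer c (le_normalizerIn hX.1) (extend_restrict_range _ rfl) x x.2.2⟩
  have hle' : Nat.card (normalizerIn S X) ≤ Nat.card (normalizerIn S X') :=
    card_le_of_hom F hc le_rfl (normalizerIn_le S X') fun x hx => hcN ⟨x, hx⟩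
  have hX' : F.IsFullyNormalized X' := ⟨isConj_le_right hXX', fun Q hQ =>
    (hX.2 Q (isConj_trans hXX' hQ)).trans hle'⟩
  have hr : c.range = normalizerIn S X' := by
    haveI := finite_of_le (normalizerIn_le S X')
    refine Subgroup.eq_of_le_of_card_ge (by rintro _ ⟨x, rfl⟩; exact hcN x) ?_
    rw [← isConj_card ⟨c, hc, rfl⟩]
    exact hX.2 X' hXX'
  have hR'eq : R' = X' ⊔ T := by
    have hin : X ⊔ T ≤ normalizerIn S (X ⊔ T) := le_normalizerIn hRS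
    refine le_antisymm ?_ (sup_le ?_ fun t ht => ?_)
    · rw [← hc₀R]
      rintro _ ⟨x, hx, rfl⟩
      refine apply_mem_of_sup (R := X' ⊔ T) (c₀.comp (Subgroup.inclusion hin))
        (fun y => Subgroup.mem_sup_left
          (show _ ∈ X' from ⟨⟨y, le_normalizerIn hX.1 y.2⟩, y.2, rfl⟩))
        (fun y => Subgroup.mem_sup_right
          (stronglyClosed_apply_mem hT (restrict_mem F hc₀ hin) (Subgroup.inclusion le_sup_right y) y.2))
        ⟨x, hx⟩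
    · rintro _ ⟨x, hx, rfl⟩
      exact hc₀R.le ⟨_, Subgroup.mem_sup_left hx, rfl⟩
    · obtain ⟨x, hx, hxt⟩ := exists_preimage_stronglyClosed hT hc₀ (le_sup_right.trans hin) ht
      exact hc₀R.le ⟨⟨x, _⟩, Subgroup.mem_sup_right hx, hxt⟩
  exact ⟨X', hX', hR'eq ▸ hR', hXX', c, hc, hr, rfl⟩

end Cfsg.Agent.RelProd
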